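import Cfsg.Agent.N2.Ex.Mu.Num.Defs
import Cfsg.Agent.N2.Ex.X.Rows

/-!
# N2 (S3519), several components, the arithmetic: the data of the alternating and the sporadic groups (helper89)
-/

set_option autoImplicit false
set_option maxRecDepth 100000

namespace Cfsg.Agent.N2.Ex.Mu

open Cfsg Cfsg.Agent.OrdDiv
open Cfsg.Agent.N2.Ex.Sm (Ch)
open Cfsg.Agent.N2C.RX (frc frc_eq allR allR_sound ordm)

namespace Da

/-- `n` divides the order of the group generated by `-1` and the automizer -/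
def dv (n : ℕ) (x : Sm.El) : Bool := Nat.beq (Nat.lcm 2 x.h % n) 0

/-- the check for one characteristic -/
def ck1 (A q : ℕ) (E : List Sm.El) : Bool :=
  E.any (fun x => decide (Big (Nat.lcm 2 x.h))) || Nat.ble A (q ^ 4) || (E.any (dv 4) && Nat.ble A (q ^ 10)) ||
    (E.any (dv 6) && Nat.ble A (q ^ 8)) ||
    ((E.any fun x => E.any fun y => !Nat.beq x.r y.r && dv 4 x && dv 6 y) && Nat.ble A (q ^ 28))

/-- the check for all characteristics -/
def ck (o A : ℕ) (E : List Sm.El) : Bool :=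
  Nat.beq (o % 3) 0 && Nat.ble o A && ck1 A 32 E &&
    E.all fun x => ck1 A (if x.r < 32 then max 32 (x.r ^ 2) else 32) (E.filter fun y => !Nat.beq y.r x.r)

variable {N : Type} [Group N] {l p f : ℕ}

theorem el_of (hp : p.Prime) {x : Sm.El} (h : x.Ok N) (hx : x.r ≠ p) {n : ℕ} (hn : n ∣ Nat.lcm 2 x.h) : El (p ^ f) N x.r n :=
  ⟨h.1, by have := h.2.1; omega, fun k => hx ((Nat.prime_dvd_prime_iff_eq h.1 hp).1 (h.1.dvd_of_dvd_pow k)), x.h, h.2.2.1,
    hn.trans (Nat.lcm_dvd (Nat.dvd_lcm_left _ _) ((Nat.dvd_lcm_left _ _).trans (Nat.dvd_lcm_right _ _)))⟩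

theorem dv_dvd {n : ℕ} {x : Sm.El} (h : dv n x = true) : n ∣ Nat.lcm 2 x.h := Nat.dvd_of_mod_eq_zero (Nat.eq_of_beq_eq_true h)

theorem ck1_sound (hp : p.Prime) {A q : ℕ} {E : List Sm.El} (hq : 0 < q) (h1 : q ≤ p ^ f) (hE : ∀ x ∈ E, x.Ok N ∧ x.r ≠ p)
    (hA : Nat.card (MulAut N) ≤ A) (ho : Nat.card N ≤ A) (h3 : 3 ∣ Nat.card N) (hB : NoBig (p ^ f) N) (h : ck1 A q E = true) :
    ∃ c, Pf l (p ^ f) N c := by
  have k : ∀ a b, a ≤ b → A ≤ q ^ a → A ≤ (p ^ f) ^ b := fun a b k1 k2 =>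
    (k2.trans (Nat.pow_le_pow_left h1 a)).trans (Nat.pow_le_pow_right (hq.trans_le h1) k1)
  simp only [ck1, Bool.or_eq_true, Bool.and_eq_true, List.any_eq_true, Nat.ble_eq, decide_eq_true_eq, Bool.not_eq_true',
    Sm.beq_false] at h
  rcases h with (((⟨x, hx, h⟩ | h) | ⟨⟨x, hx, a⟩, h⟩) | ⟨⟨x, hx, a⟩, h⟩) | ⟨⟨x, hx, y, hy, ⟨a, b⟩, c⟩, h⟩
  · exact absurd h (hB _ _ (el_of hp (hE x hx).1 (hE x hx).2 dvd_rfl))
  · have e : 4 ≤ ea l 1 ∧ 4 ≤ et l 1 := by
      simp only [ea, et, if_true]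
      split_ifs <;> omega
    exact ⟨1, by simp, hA.trans (k 4 _ e.1 h), ho.trans (k 4 _ e.2 h), fun _ => h3, by simp, by simp, by simp, by simp⟩
  · exact ⟨4, by simp, hA.trans (k 10 _ (by simp [ea]) h), ho.trans (k 10 _ (by simp [et]) h), fun _ => h3,
      fun _ => ⟨_, el_of hp (hE x hx).1 (hE x hx).2 (dv_dvd a)⟩, by simp, by simp, by simp⟩
  · exact ⟨6, by simp, hA.trans (k 8 _ (by simp [ea]) h), ho.trans (k 8 _ (by simp [et]) h), fun _ => h3, by simp,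
      fun _ => ⟨_, el_of hp (hE x hx).1 (hE x hx).2 (dv_dvd a)⟩, by simp, by simp⟩
  · exact ⟨8, by simp, hA.trans (k 28 _ (by simp [ea]) h), ho.trans (k 28 _ (by simp [et]) h), fun _ => h3, by simp, by simp, by simp,
      fun _ => ⟨_, _, a, el_of hp (hE x hx).1 (hE x hx).2 (dv_dvd b), el_of hp (hE y hy).1 (hE y hy).2 (dv_dvd c)⟩⟩

theorem ck_sound (hp : p.Prime) (hq : 32 ≤ p ^ f) {o A : ℕ} {E : List Sm.El} (hE : ∀ x ∈ E, x.Ok N)
    (hA : Nat.card (MulAut N) ≤ A) (ho : Nat.card N = o) (hB : NoBig (p ^ f) N) (h : ck o A E = true) : ∃ c, Pf l (p ^ f) N c := by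
  simp only [ck, Bool.and_eq_true, List.all_eq_true, Nat.ble_eq, Nat.beq_eq] at h
  obtain ⟨⟨⟨h1, h2⟩, h3⟩, h4⟩ := h
  subst ho
  by_cases k : ∃ x ∈ E, x.r = p
  · obtain ⟨x, hx, rfl⟩ := k
    refine ck1_sound hp ?_ ?_ (fun y hy => ?_) hA h2 (Nat.dvd_of_mod_eq_zero h1) hB (h4 x hx)
    · split_ifs <;> omega
    · split_ifs with a
      · refine max_le hq (Nat.pow_le_pow_right hp.pos (not_lt.1 fun b => ?_))
        have := Nat.pow_le_pow_right hp.pos (Nat.le_of_lt_succ b)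
        rw [pow_one] at this
        omega
      · exact hq
    · obtain ⟨a, b⟩ := List.mem_filter.1 hy
      rw [Bool.not_eq_true', Sm.beq_false] at b
      exact ⟨hE y a, b⟩
  · exact ck1_sound hp (by norm_num) hq (fun y hy => ⟨hE y hy, fun a => k ⟨y, hy, a⟩⟩) hA h2 (Nat.dvd_of_mod_eq_zero h1) hB h3

theorem chk_alt : allR (fun m => ck (m.factorial / 2) (if m = 6 then 1440 else m.factorial) (X.elA m)) 14 5 = true := by
  decide +kernel

theorem chk_spor : (spor.all fun x => (((N2C.RSp.tL x.1).all fun y => Nat.ble 5 y.1 && !Nat.beq (ordm y.2.2.2 y.1) 0) &&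
    ck x.2 (2 * x.2) ((if x.1 = .he then [⟨5, 4, 0⟩] else []) ++ X.elS x.1))) = true := by decide +kernel

end Da

open Da

/-- **[Da]** -/
theorem boxDa : BoxDa := by
  rintro l p f N _ _ _ - hp - hq - hB ⟨c, h1, h2, ⟨e⟩⟩
  exact ck_sound hp hq (X.elA_ok e) ((Nat.card_congr (MulAut.congr e).toEquiv).trans (N2C.RAlt.card_aut h1)).le
    ((Nat.card_congr e.toEquiv).trans (N2C.RAlt.card_alt (by omega))) hB (allR_sound chk_alt h1 (by omega))

/-- **[Ds]** -/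
theorem boxDs : BoxDs := by
  intro l p f N _ _ _ _ hp _ hq hna hB hS
  have hA : Nat.card (MulAut N) ∣ 2 * Nat.card N := by
    rw [← H934.OutB.card_out_mul _ hna]
    exact Nat.mul_dvd_mul_right (SM.Tx.out_dvd hS) _
  obtain ⟨⟨g, o⟩, hx, h⟩ := H977.T5Spor.exists_real hS
  have ho : Nat.card N = o := table_spor _ _ hx h
  have hc := List.all_eq_true.1 chk_spor _ hx
  simp only [Bool.and_eq_true, List.all_eq_true, Bool.not_eq_true', Sm.beq_false, Nat.ble_eq] at hc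
  refine ck_sound hp hq (List.forall_mem_append.2 ⟨fun y hy => ?_, fun x hx => ?_⟩)
    (ho ▸ Nat.le_of_dvd (Nat.mul_pos two_pos Nat.card_pos) hA) ho hB hc.2
  · split_ifs at hy with k
    swap
    · exact absurd hy List.not_mem_nil
    obtain rfl := List.mem_singleton.1 hy
    subst k
    exact ⟨Nat.prime_five, le_rfl, X.ch_he h, fun a => absurd rfl a⟩
  · obtain ⟨y, hy, rfl⟩ := List.mem_map.1 hx
    have L := N2C.RSp.locs h y hy
    exact ⟨L.prime, (hc.1 y hy).1, X.ch_of L.prime L.cj (hc.1 y hy).2, fun _ => L.nz⟩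

end Cfsg.Agent.N2.Ex.Mu
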