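import Cfsg.Agent.N2.Ex.Mu.Num.Zs

/-!
# N2 (S3519), several components, the arithmetic: the classes of the linear and unitary groups (helper15)
-/

set_option autoImplicit false
set_option synthInstance.maxSize 2000

namespace Cfsg.Agent.N2.Ex.Mu

open Cfsg Cfsg.Agent.H902 Cfsg.Agent.OrdDiv
open Cfsg.Agent.N2C.RD (PdX Nd gX dX)
open Cfsg.Agent.N2.Ex.Sm (NB Nm hh)
open Zs

namespace DdA

variable {N : Type} [Group N] {X : Art.Sh} {l p q b r r' : ℕ}

theorem pf1 (D : Nd X p b N) (hq : 0 < q) (h3 : 3 ∣ Nat.card N) (ha : Nat.card (MulAut N) ≤ q ^ 4) : Pf l q N 1 := by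
  have k : Nat.card (MulAut N) ≤ q ^ (if l = 8 then 5 else 4) :=
    ha.trans (Nat.pow_le_pow_right hq (by split_ifs <;> omega))
  exact ⟨by omega, k, (card_le_aut D).trans k, fun _ => h3, by omega, by omega, by omega, by omega⟩

theorem pf4 (D : Nd X p b N) (hq : 0 < q) (h3 : 3 ∣ Nat.card N) (ha : Nat.card (MulAut N) ≤ q ^ 10) (h : El q N r 4) :
    Pf l q N 4 :=
  ⟨by omega, ha.trans (Nat.pow_le_pow_right hq (show 10 ≤ 11 by omega)), (card_le_aut D).trans ha, fun _ => h3,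
    fun _ => ⟨r, h⟩, by omega, by omega, by omega⟩

theorem pf6 (h3 : 3 ∣ Nat.card N) (ha : Nat.card (MulAut N) ≤ q ^ 9) (hc : Nat.card N ≤ q ^ 8) (h : El q N r 6) :
    Pf l q N 6 := ⟨by omega, ha, hc, fun _ => h3, by omega, fun _ => ⟨r, h⟩, by omega, by omega⟩

theorem pf7 (D : Nd X p b N) (hq : 0 < q) (h3 : 3 ∣ Nat.card N) (ha : Nat.card (MulAut N) ≤ q ^ 14) (hr : r ≠ r')
    (h : El q N r 6) (h' : El q N r' 6) : Pf l q N 7 :=
  ⟨by omega, ha.trans (Nat.pow_le_pow_right hq (show 14 ≤ 15 by omega)), (card_le_aut D).trans ha, fun _ => h3,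
    by omega, by omega, fun _ => ⟨r, r', hr, h, h'⟩, by omega⟩

theorem pf8 (D : Nd X p b N) (hq : 0 < q) (h3 : 3 ∣ Nat.card N) (ha : Nat.card (MulAut N) ≤ q ^ 28) (hr : r ≠ r')
    (h : El q N r 4) (h' : El q N r' 6) : Pf l q N 8 :=
  ⟨by omega, ha.trans (Nat.pow_le_pow_right hq (show 28 ≤ 29 by omega)), (card_le_aut D).trans ha, fun _ => h3,
    by omega, by omega, by omega, fun _ => ⟨r, r', hr, h, h'⟩⟩

theorem gcd_mod {i : ℕ} (hi : i ∣ 12) (v : ℕ) : Nat.gcd i v = Nat.gcd i (v % 12) := by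
  rw [Nat.gcd_comm, Nat.gcd_comm i]
  exact ((Nat.mod_modEq v 12).of_dvd hi).gcd_eq.symm

theorem nn_mod {i : ℕ} (hi : i ∣ 12) (h u v : ℕ) : nn h u v i = nn h u (v % 12) i := by rw [nn, gcd_mod hi, nn]

/-- reduction to a finite table -/
theorem tab {h u v i : ℕ} {P : ℕ → ℕ → Prop} (hi : i ∣ 12) (huv : u.Coprime v) (k : nn h u v i ∣ 4 ∨ nn h u v i ∣ 6)
    (T : ∀ u ≤ 6, ∀ w < 12, Nat.gcd u w = 1 → (nn h u w i ∣ 4 ∨ nn h u w i ∣ 6) → P u w) : P u (v % 12) := by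
  have h1 : u ∣ 4 ∨ u ∣ 6 := k.imp (u_dvd h u v i).trans (u_dvd h u v i).trans
  refine T u (h1.elim (fun h => (Nat.le_of_dvd four_pos h).trans (by omega)) (Nat.le_of_dvd (by omega))) _
    (Nat.mod_lt _ (by omega)) ?_ (nn_mod hi h u v ▸ k)
  rw [← gcd_mod (h1.elim (fun h => h.trans (by decide)) fun h => h.trans (by decide))]
  exact huv

theorem not_five {n : ℕ} (h : 5 ∣ n) (k : n ∣ 4 ∨ n ∣ 6) : False :=
  k.elim (fun k => absurd (h.trans k) (by decide)) fun k => absurd (h.trans k) (by decide)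

end DdA

open DdA

/-- **the linear groups** -/
theorem dd_L (n : ℕ) : NB → ∀ (l p f b : ℕ) (N : Type) [Group N] [Finite N] [IsSimpleGroup N] (g : Grp),
    (l = 4 ∨ l = 6 ∨ l = 7 ∨ l = 8) → 0 < f → 32 ≤ p ^ f → ¬ IsMulCommutative N → NoBig (p ^ f) N → Nm N g (.L n) p b →
    ∃ c, Pf l (p ^ f) N c := by
  intro B l p f b N _ _ _ g _ hf h32 hna hB k
  have D := k.nd hna
  have h3 := three k.ord (by simp)
  have hq : 0 < p ^ f := by omega
  have h5 : p = 2 → 5 ≤ f := fun e => five_le (e ▸ h32)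
  obtain ⟨u, v, d, hu, hv, hd, huv, rfl, rfl⟩ := uv k.ord.hf hf
  have hb : 0 < u * d := Nat.mul_pos hu hd
  have hdf : d ≤ v * d := Nat.le_mul_of_pos_left _ hv
  obtain rfl : g = .psl n (p ^ (u * d)) := by cases k.lie; rfl
  obtain rfl | rfl | rfl | hn : n = 2 ∨ n = 3 ∨ n = 4 ∨ 5 ≤ n := by have := k.ord.ok.1; omega
  · by_cases h1 : u ≤ v
    · have := Nat.mul_le_mul_right d h1
      exact ⟨1, pf1 D hq h3 (aut_q D 0 le_rfl (show u * d * 4 + 0 ≤ _ by omega))⟩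
    have h2 : v * d < u * d := Nat.mul_lt_mul_of_pos_right (by omega) hd
    obtain ⟨r, o, -, e⟩ := zs (i := 2) B k hv huv ⟨two_pos, le_rfl, by omega⟩ (by omega) (fun h => by have := h5 h.1; omega)
    have t := tab (h := 2) (P := fun u w => u = 1 ∨ (u = 2 ∧ 4 ∣ nn 2 u w 2) ∨ (u = 3 ∧ 6 ∣ nn 2 u w 2 ∧ 6 ∣ nn 2 u w 1))
      (by decide) huv (nb_dvd hB e) (by decide)
    rcases t with rfl | ⟨rfl, t⟩ | ⟨rfl, t, t'⟩
    · omega
    · exact ⟨4, pf4 D hq h3 (aut_q D 0 le_rfl (show 2 * d * 4 + 0 ≤ _ by omega))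
        (el_mono e (t.trans (nn_mod (i := 2) (by decide) 2 2 v).symm.dvd))⟩
    · obtain ⟨r', o', -, e'⟩ := zs (i := 1) B k hv huv ⟨one_pos, by omega, by omega⟩ (by omega) fun h => by
        have := h5 h.1
        obtain rfl : d = 2 := by omega
        omega
      exact ⟨7, pf7 D hq h3 (aut_q D 0 le_rfl (show 3 * d * 4 + 0 ≤ _ by omega)) (ne_of_ord o o' hb (by decide))
        (el_mono e (t.trans (nn_mod (i := 2) (by decide) 2 3 v).symm.dvd))
        (el_mono e' (t'.trans (nn_mod (i := 1) (by decide) 2 3 v).symm.dvd))⟩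
  · by_cases h6 : p = 2 ∧ u * d * 3 = 6
    · have := h5 h6.1
      exact ⟨1, pf1 D hq h3 (aut_q D 1 le_rfl (show u * d * 9 + 1 ≤ _ by omega))⟩
    obtain ⟨r, o, -, e⟩ := zs (i := 3) B k hv huv ⟨three_pos, le_rfl, by omega⟩ (by omega) h6
    have e6 := el_mono e (six_dvd (h_dvd 3 u v 3))
    have t := tab (h := 3) (P := fun u w => u = 1 ∨ (u = 2 ∧ 4 ∣ nn 2 u w 2)) (by decide) huv (nb_dvd hB e) (by decide)
    rcases t with rfl | ⟨rfl, t⟩
    · exact ⟨6, pf6 h3 (aut_q D 1 le_rfl (show 1 * d * 9 + 1 ≤ _ by omega)) (card_q D (show 1 * d * 8 ≤ _ by omega)) e6⟩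
    · obtain ⟨r', o', -, e'⟩ := zs (i := 2) B k hv huv ⟨two_pos, by omega, by omega⟩ (by omega) (by omega)
      exact ⟨8, pf8 D hq h3 (aut_q D 1 le_rfl (show 2 * d * 9 + 1 ≤ _ by omega)) (ne_of_ord o' o hb (by decide))
        (el_mono e' (t.trans (nn_mod (i := 2) (by decide) 2 2 v).symm.dvd)) e6⟩
  · obtain ⟨r, o, -, e⟩ := zs (i := 4) B k hv huv ⟨four_pos, le_rfl, by omega⟩ (by omega) (by omega)
    have e4 := el_mono e (h_dvd 4 u v 4)
    by_cases h6 : p = 2 ∧ u * d * 3 = 6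
    · have := h5 h6.1
      exact ⟨4, pf4 D hq h3 (aut_q D 1 le_rfl (show u * d * 16 + 1 ≤ _ by omega)) e4⟩
    obtain rfl := tab (h := 4) (P := fun u _ => u = 1) (by decide) huv (nb_dvd hB e) (by decide)
    obtain ⟨r', o', -, e'⟩ := zs (i := 3) B k hv huv ⟨three_pos, by omega, by omega⟩ (by omega) h6
    exact ⟨8, pf8 D hq h3 (aut_q D 1 le_rfl (show 1 * d * 16 + 1 ≤ _ by omega)) (ne_of_ord o o' hb (by decide)) e4
      (el_mono e' (six_dvd (h_dvd 3 1 v 3)))⟩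
  · obtain ⟨r, -, -, e⟩ := zs (i := 5) B k hv huv ⟨by omega, hn, by omega⟩ (by omega) (by omega)
    rw [show hh (.psl n (p ^ (u * d))) 5 = 5 from if_neg (by omega)] at e
    exact (not_five (h_dvd 5 u v 5) (nb_dvd hB e)).elim

/-- **the unitary groups** -/
theorem dd_U (n : ℕ) : NB → ∀ (l p f b : ℕ) (N : Type) [Group N] [Finite N] [IsSimpleGroup N] (g : Grp),
    (l = 4 ∨ l = 6 ∨ l = 7 ∨ l = 8) → 0 < f → 32 ≤ p ^ f → ¬ IsMulCommutative N → NoBig (p ^ f) N → Nm N g (.U n) p b →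
    ∃ c, Pf l (p ^ f) N c := by
  intro B l p f b N _ _ _ g _ hf h32 hna hB k
  have D := k.nd hna
  have h3 := three k.ord (by simp)
  have hq : 0 < p ^ f := by omega
  have h5 : p = 2 → 5 ≤ f := fun e => five_le (e ▸ h32)
  obtain ⟨u, v, d, hu, hv, hd, huv, rfl, rfl⟩ := uv k.ord.hf hf
  have hb : 0 < u * d := Nat.mul_pos hu hd
  have hdf : d ≤ v * d := Nat.le_mul_of_pos_left _ hv
  obtain rfl : g = .psu n (p ^ (u * d)) := by cases k.lie; rfl
  obtain rfl | rfl | hn : n = 3 ∨ n = 4 ∨ 5 ≤ n := by have := k.ord.ok.1; omega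
  · obtain ⟨r, -, -, e⟩ := zs (i := 6) B k hv huv ⟨by omega, by omega, by omega⟩ (by omega) fun h => by
      have := k.ord.ok.2 rfl
      rw [h.1, show u * d = 1 by omega] at this
      omega
    have e6 := el_mono e (six_dvd (h_dvd 3 u v 6))
    obtain rfl := tab (h := 3) (P := fun u _ => u = 1) (by decide) huv (nb_dvd hB e) (by decide)
    exact ⟨6, pf6 h3 (aut_q D 1 le_rfl (show 1 * d * 9 + 1 ≤ _ by omega)) (card_q D (show 1 * d * 8 ≤ _ by omega)) e6⟩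
  · obtain ⟨r, o, -, e⟩ := zs (i := 4) B k hv huv ⟨by omega, by omega, by omega⟩ (by omega) (by omega)
    have e4 := el_mono e (h_dvd 4 u v 4)
    by_cases h6 : p = 2 ∧ u * d * 6 = 6
    · have := h5 h6.1
      exact ⟨4, pf4 D hq h3 (aut_q D 1 le_rfl (show u * d * 16 + 1 ≤ _ by omega)) e4⟩
    obtain rfl := tab (h := 4) (P := fun u _ => u = 1) (by decide) huv (nb_dvd hB e) (by decide)
    obtain ⟨r', o', -, e'⟩ := zs (i := 6) B k hv huv ⟨by omega, by omega, by omega⟩ (by omega) h6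
    exact ⟨8, pf8 D hq h3 (aut_q D 1 le_rfl (show 1 * d * 16 + 1 ≤ _ by omega)) (ne_of_ord o o' hb (by decide)) e4
      (el_mono e' (six_dvd (h_dvd 3 1 v 6)))⟩
  · obtain ⟨r, -, -, e⟩ := zs (i := 10) B k hv huv ⟨by omega, by omega, by omega⟩ (by omega) (by omega)
    exact (not_five (h_dvd 5 u v 10) (nb_dvd hB e)).elim

end Cfsg.Agent.N2.Ex.Mu
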