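import Cfsg.Agent.N2.Ex.Mu.Num.Dd2
import Cfsg.Agent.N2.Ex.Mu.Num.DdA

/-!
# N2 (S3519), several components, the data in the defining characteristic (helper82)
-/

set_option autoImplicit false

namespace Cfsg.Agent.N2.Ex.Mu

/-- **[Dd]** -/
theorem boxDd : BoxDd := boxDd_of dd_L dd_U

end Cfsg.Agent.N2.Ex.Mu
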