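import Cfsg.Agent.N2.Ex.Mu.Num.Defs
import Cfsg.Agent.N2.Ex.Mu.NumB

/-!
# N2 (S3519), several components: the row `F₄` of the box `G` (helper74)

`boxG4 : BoxG 4`.  Paper: `notes/N2/mu_num.md`.
-/

set_option autoImplicit false
set_option linter.unusedSectionVars false

namespace Cfsg.Agent.N2.Ex.Mu

open Cfsg Finset
open Cfsg.Agent.H290.ElReg (Fth)
open Cfsg.Agent.N2.Ex.Sm (dimT)
open Cfsg.Agent.SB.Exc (dM ordU)

namespace G4x

/-! ### one simple group -/

theorem inv_comm {K : Type} [Field K] (h2 : (2 : K) ≠ 0) {n : ℕ} (hn : n ≤ 2) (M B : Matrix (Fin n) (Fin n) K)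
    (h : M * M = 1) (hd : M.det = 1) : M * B = B * M := by
  obtain rfl | rfl | rfl : n = 0 ∨ n = 1 ∨ n = 2 := by omega
  · exact Subsingleton.elim _ _
  · ext i j
    simp only [Matrix.mul_apply, Fin.sum_univ_one, Subsingleton.elim i 0, Subsingleton.elim j 0, mul_comm]
  · have e1 := congrFun (congrFun h 0) 0
    have e2 := congrFun (congrFun h 0) 1
    have e3 := congrFun (congrFun h 1) 0
    have e4 := congrFun (congrFun h 1) 1
    simp only [Matrix.mul_apply, Fin.sum_univ_two, Matrix.one_apply_eq, ne_eq, zero_ne_one, one_ne_zero, not_false_eq_true,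
      Matrix.one_apply_ne] at e1 e2 e3 e4
    rw [Matrix.det_fin_two] at hd
    have k0 : M 0 0 + M 1 1 ≠ 0 := fun k => h2 (by linear_combination M 0 0 * k - e1 - hd)
    have k1 : M 0 1 = 0 := (mul_eq_zero.1 (by linear_combination e2 : M 0 1 * (M 0 0 + M 1 1) = 0)).resolve_right k0
    have k2 : M 1 0 = 0 := (mul_eq_zero.1 (by linear_combination e3 : M 1 0 * (M 0 0 + M 1 1) = 0)).resolve_right k0
    have k3 : M 1 1 = M 0 0 := sub_eq_zero.1
      ((mul_eq_zero.1 (by linear_combination e4 - e1 : (M 1 1 - M 0 0) * (M 0 0 + M 1 1) = 0)).resolve_right k0)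
    ext i j
    fin_cases i <;> fin_cases j <;> simp [Matrix.mul_apply, Fin.sum_univ_two, k1, k2, k3, mul_comm]

section one

variable {N : Type} [Group N] [Finite N] [IsSimpleGroup N] (hn : ¬ IsMulCommutative N)
include hn

theorem center_bot : Subgroup.center N = ⊥ :=
  (inferInstance : (Subgroup.center N).Normal).eq_bot_or_eq_top.resolve_right fun h =>
    hn ⟨⟨fun a b => Subgroup.mem_center_iff.1 (h.ge (Subgroup.mem_top b)) a⟩⟩

/-- the degree is at least three in odd characteristic -/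
theorem three_le {K : Type} [Field K] (h2 : (2 : K) ≠ 0) {n : ℕ} (h : Fth n K N) : 3 ≤ n := by
  obtain ⟨ρ, hρ⟩ := h
  by_contra k
  obtain ⟨t, ht⟩ := exists_prime_orderOf_dvd_card' (G := N) 2
    (ThreePrime.Main.even_card (by_contra fun e => hn ⟨⟨fun a b => by_contra fun e' => e ⟨a, b, e'⟩⟩⟩)).two_dvd
  have h1 : (Matrix.GeneralLinearGroup.det.comp ρ).ker = ⊤ :=
    (MonoidHom.normal_ker _).eq_bot_or_eq_top.resolve_left fun e =>
      hn ⟨⟨fun a b => (MonoidHom.ker_eq_bot_iff _).1 e (by rw [map_mul, map_mul, mul_comm])⟩⟩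
  have h3 : (ρ t : Matrix (Fin n) (Fin n) K).det = 1 := congrArg Units.val (h1.ge (Subgroup.mem_top t))
  have h4 : (ρ t : Matrix (Fin n) (Fin n) K) * ρ t = 1 := by
    rw [← Units.val_mul, ← map_mul, ← pow_two, ← ht, pow_orderOf_eq_one, map_one, Units.val_one]
  have h5 : t ∈ Subgroup.center N := Subgroup.mem_center_iff.2 fun g => hρ (by
    rw [map_mul, map_mul]
    exact Units.ext (inv_comm h2 (by omega) _ _ h4 h3).symm)
  rw [center_bot hn, Subgroup.mem_bot] at h5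
  rw [h5, orderOf_one] at ht
  omega

theorem le_aut : Nat.card N ≤ Nat.card (MulAut N) := by
  have : Finite (MulAut N) := Finite.of_injective _ (DFunLike.coe_injective (F := N ≃* N))
  refine Nat.card_le_card_of_injective (MulAut.conj : N →* MulAut N) ((injective_iff_map_eq_one _).2 fun a ha => ?_)
  refine Subgroup.mem_bot.1 ((center_bot hn).le (Subgroup.mem_center_iff.2 fun g => ?_))
  have : a * g * a⁻¹ = g := MulEquiv.congr_fun ha g
  exact (mul_inv_eq_iff_eq_mul.1 this).symm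

/-- an element of odd prime order -/
theorem el_two {p f : ℕ} (hp : p.Prime) : ∃ r, El (p ^ f) N r 2 := by
  obtain ⟨s, s1, s2, s3, s4⟩ := NB.exists_third hn 2 p
  exact ⟨s, NB.El.mono (NB.el_of s1 s2 (fun e => s3 ((Nat.prime_dvd_prime_iff_eq s1 hp).1 (s1.dvd_of_dvd_pow e))) s4)
    (Nat.dvd_lcm_left _ _)⟩

/-- an element of prime order at least five -/
theorem el_five {p f : ℕ} (hp : p = 2 ∨ p = 3) : ∃ r, 5 ≤ r ∧ El (p ^ f) N r 2 := by
  obtain ⟨s, s1, s2, s3, s4⟩ := NB.exists_third hn 2 3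
  refine ⟨s, s1.five_le_of_ne_two_of_ne_three s2 s3, NB.El.mono (NB.el_of s1 s2 (fun e => ?_) s4) (Nat.dvd_lcm_left _ _)⟩
  rcases hp with rfl | rfl
  exacts [s2 ((Nat.prime_dvd_prime_iff_eq s1 Nat.prime_two).1 (s1.dvd_of_dvd_pow e)),
    s3 ((Nat.prime_dvd_prime_iff_eq s1 Nat.prime_three).1 (s1.dvd_of_dvd_pow e))]

end one

/-! ### the order of `A` -/

variable {ι : Type} [Fintype ι] [DecidableEq ι]

theorem mu_dvd (t : ι → ℕ) : mu t ∣ (Fintype.card ι).factorial := by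
  have := Nat.prod_factorial_dvd_factorial_sum (univ.image t) fun v => (univ.filter fun i => t i = v).card
  rwa [← card_eq_sum_card_image, card_univ] at this

theorem rc {J : Finset ι} {j : ι} (hj : j ∈ J) {r : ι → ℕ} {n ρ : ℕ} (h : Rc 4 J j r (fun _ => n) ρ) :
    ρ + (J.card - 1) * n.totient ≤ 4 - n.totient := by
  simpa [Rc, rk1, card_erase_of_mem hj] using h

variable {l : ℕ} {tw : Bool} {p f T κ : ℕ} {S : ι → Type} [∀ i, Group (S i)] {G : Prop} {W : Finset ι → ℕ → ℕ → Prop} {E : ι → Prop}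

theorem card_le (a : MA l p f T S G κ W) (b : MB l tw p f T S) {e m : ℕ} (h : ∀ i, Nat.card (MulAut (S i)) ≤ (p ^ f) ^ e)
    (hm : Fintype.card ι ≤ m) : (∏ i, Nat.card (S i)) * κ ≤ m.factorial * ((p ^ f) ^ (e * m) * (p ^ f + 1) ^ 0) := by
  have h0 : 0 < p ^ f := pow_pos b.real.hp.pos f
  have h1 : 0 < ∏ i, Nat.card (MulAut (S i)) / Nat.card (S i) := prod_pos fun i _ => by
    have := b.fin i
    have := b.simple i
    exact Nat.div_pos (le_aut (b.nonab i)) Nat.card_pos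
  have h2 := Nat.le_of_dvd (Nat.factorial_pos _) (mu_dvd fun i => Nat.card (S i))
  have h3 := Nat.le_of_dvd (Nat.mul_pos h1 (Nat.factorial_pos _)) (a.kdv.trans (Nat.mul_dvd_mul_left _ (mu_dvd _)))
  have h4 : (∏ i, Nat.card (S i)) * ∏ i, Nat.card (MulAut (S i)) / Nat.card (S i) ≤ (p ^ f) ^ (e * m) := by
    rw [← prod_mul_distrib]
    refine (prod_le_pow_card _ _ _ fun i _ => (Nat.mul_div_le _ _).trans (h i)).trans ?_
    rw [← pow_mul, card_univ]
    exact Nat.pow_le_pow_right h0 (Nat.mul_le_mul_left _ hm)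
  rw [pow_zero, mul_one, mul_comm m.factorial]
  exact (Nat.mul_le_mul_left _ h3).trans ((mul_assoc _ _ _).ge.trans (Nat.mul_le_mul h4 (Nat.factorial_le hm)))

variable (X : Mx 4 tw p f T S G κ W E)
include X

/-- **the final inequality** -/
theorem fin (hq : 32 ≤ p ^ f) {I : Finset ι} {k o : ℕ} (w : W I k o) {C a b : ℕ}
    (hA : (∏ i, Nat.card (S i)) * κ ≤ C * ((p ^ f) ^ a * (p ^ f + 1) ^ b)) (hC : C ≤ 32)
    (hk : 3 * k + a + 1 + (12 + b) ≤ dimT 4) (hc : dM 4 * (32 ^ (3 * k + a + 1) * (32 + 1) ^ (12 + b)) ≤ ordU 4 32) : G := by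
  refine X.a.win _ _ _ w ((Nat.mul_le_mul_left _ (hA.trans (Nat.mul_le_mul_right _ (hC.trans hq)))).trans
    (le_trans (le_of_eq ?_) (NB.unif X.b.typ X.b.real (by norm_num) hq hk hc)))
  simp only [cb]
  ring

theorem card_odd (hp : p ≠ 2) : Fintype.card ι ≤ 3 := by
  obtain ⟨K, _, _, -, h⟩ := X.b.deg
  have h1 := h (fun _ => 3) (fun _ => le_rfl) fun i n hn => by
    have := X.b.fin i
    have := X.b.simple i
    refine three_le (X.b.nonab i) (fun e => hp ((Nat.prime_dvd_prime_iff_eq X.b.real.hp Nat.prime_two).1 ?_)) hn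
    exact (CharP.cast_eq_zero_iff K p 2).1 (by exact_mod_cast e)
  rw [sum_const, offDiag_card, card_univ, smul_eq_mul, show dimT 4 = 52 from rfl] at h1
  generalize Fintype.card ι = c at h1
  by_contra k
  have : 4 * c ≤ c * c := Nat.mul_le_mul_right _ (by omega)
  omega

theorem els (hp : p = 2 ∨ p = 3) : ∃ r : ι → ℕ, ∀ j, 5 ≤ r j ∧ El (p ^ f) (S j) (r j) 2 :=
  (Classical.skolem (p := fun j r => 5 ≤ r ∧ El (p ^ f) (S j) r 2)).1 fun j =>
    have := X.b.fin j
    have := X.b.simple j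
    el_five (X.b.nonab j) hp

theorem card_four : Fintype.card ι ≤ 4 := by
  by_cases hp : p = 2
  · obtain ⟨r, hr⟩ := els X (Or.inl hp)
    obtain ⟨j, -⟩ := X.b.two.exists_pair_ne
    obtain ⟨ρ, -, h, -⟩ := X.c.c1 univ j r (fun _ => 2) (mem_univ _) fun j _ => hr j
    have h1 := rc (mem_univ _) h
    rw [Nat.totient_two, card_univ] at h1
    omega
  · exact (card_odd X hp).trans (by norm_num)

/-- a pair -/
theorem pair {i j : ι} (hij : i ≠ j) {r n k : ℕ} (hi : El (p ^ f) (S i) r n) (hn : ¬ n ∣ 2) (hj : 3 ∣ Nat.card (S j))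
    (h2 : gT 4 2 n = some k) (h3 : gT 4 3 n = some (k - 2)) : ∃ o, W {i, j} k o := by
  by_cases hp : p = 2
  · obtain ⟨k', k1, k2⟩ := X.t.t3 i j r n hij hi (by omega) (NB.El.five hi hn) hj (Or.inl rfl)
    exact ⟨_, X.a.mono _ _ _ _ _ k2 subset_rfl (by rw [h3, Option.some_inj] at k1; omega)⟩
  · obtain ⟨k', k1, k2⟩ := X.t.t2 i j r n hij hi hp (Or.inl rfl)
    exact ⟨_, X.a.mono _ _ _ _ _ k2 subset_rfl (by rw [h2, Option.some_inj] at k1; omega)⟩

/-- an automizer six -/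
theorem six (hq : 32 ≤ p ^ f) {i j : ι} (hij : i ≠ j) {r : ℕ} (hi : El (p ^ f) (S i) r 6) (hj : 3 ∣ Nat.card (S j)) : G := by
  obtain ⟨o, w⟩ := pair X hij (k := 2) hi (by norm_num) hj (by decide) (by decide)
  have := X.b.fin j
  have := X.b.simple j
  obtain ⟨s, hs⟩ := el_two (f := f) (X.b.nonab j) X.b.real.hp
  have wi := (X.t.t0 i r 6 hi).1
  have wj := (X.t.t0 j s 2 hs).1
  rw [Cb.bd_F4.2.2.2.2.1] at wi
  rw [Cb.bd_F4.2.1] at wj
  exact NB.win_two X.a X.b hij wi wj hs.1.two_le w (by norm_num) hq (by decide) (by decide +kernel)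

/-- an automizer four -/
theorem four (hq : 32 ≤ p ^ f) {i j : ι} (hij : i ≠ j) {r : ℕ} (hi : El (p ^ f) (S i) r 4) (hc : Nat.card (S i) ≤ (p ^ f) ^ 10)
    (hj : 3 ∣ Nat.card (S j)) : G := by
  obtain ⟨o, w⟩ := pair X hij (k := 4) hi (by norm_num) hj (by decide) (by decide)
  have wi := (X.t.t0 i r 4 hi).1
  rw [Cb.bd_F4.2.2.2.1] at wi
  have h1 := X.a.orb _ _ _ wi
  rw [prod_singleton] at h1
  refine fin X hq w (C := 4) (a := 18) (b := 4) (h1.trans ((Nat.mul_le_mul_right _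
    (Nat.mul_le_mul ((card_le_univ _).trans (card_four X)) hc)).trans (le_of_eq ?_))) (by norm_num) (by decide)
    (by decide +kernel)
  simp only [cb]
  ring

/-- only the class five -/
theorem all5 (hq : 32 ≤ p ^ f) (h : ∀ i, Pf 4 (p ^ f) (S i) 5) : G := by
  choose r hr using fun i => (h i).four (Or.inr rfl)
  obtain ⟨j, -⟩ := X.b.two.exists_pair_ne
  obtain ⟨ρ, -, h1, -⟩ := X.c.c1 univ j r (fun _ => 4) (mem_univ _) fun j _ => ⟨NB.El.five (hr j) (by norm_num), hr j⟩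
  have h2 := rc (mem_univ _) h1
  rw [show Nat.totient 4 = 2 by decide, card_univ] at h2
  have w := (X.t.t0 j _ 4 (hr j)).1
  rw [Cb.bd_F4.2.2.2.1] at w
  exact fin X hq w (card_le X.a X.b (e := 6) (m := 2) (fun i => (h i).aut) (by omega)) (by decide) (by decide) (by decide +kernel)

/-- only the class one -/
theorem all1 (hq : 32 ≤ p ^ f) (h : ∀ i, Pf 4 (p ^ f) (S i) 1) : G := by
  have h3 : ∀ i, 3 ∣ Nat.card (S i) := fun i => (h i).three (by norm_num)
  have hA : ∀ m, Fintype.card ι ≤ m → _ := fun m hm => card_le X.a X.b (e := 4) (m := m) (fun i => (h i).aut) hm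
  have w8 : ∀ I o, Fintype.card ι ≤ 3 → W I 8 o → G := fun I o hm w =>
    fin X hq w (hA 3 hm) (by decide) (by decide) (by decide +kernel)
  obtain ⟨i, j, hij⟩ := X.b.two.exists_pair_ne
  by_cases hp : p = 2
  · obtain ⟨r, hr⟩ := els X (Or.inl hp)
    by_cases hm : Fintype.card ι ≤ 3
    · obtain ⟨k, k1, k2⟩ := X.t.t3 i j _ 2 hij (hr i).2 (by omega) (hr i).1 (h3 j) (Or.inl rfl)
      rw [show gT 4 3 2 = some 8 by decide, Option.some_inj] at k1
      exact w8 _ _ hm (k1 ▸ k2)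
    · have hi : i ∈ univ.erase j := mem_erase.2 ⟨hij, mem_univ _⟩
      obtain ⟨ρ, ρ', e, x, hx, k1, k2, -, k3, -, -, -, k4⟩ := X.c.c3 (univ.erase j) i j r (fun _ => 2) true hi
        (fun j _ => hr j) (notMem_erase _ _) (by omega) (h3 j) (by simp)
      have k5 := rc hi k1
      rw [Nat.totient_two, card_erase_of_mem (mem_univ _), card_univ] at k5
      obtain rfl : ρ' = 0 := by
        have := k2 (by rw [show g3 4 = 3 from rfl]; omega)
        omega
      obtain ⟨k, o, w, -, -, k6⟩ := k4 5 fun j _ => (hr j).1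
      have k7 : x.1 ≤ 18 := (by decide : ∀ x ∈ X3 4 true, x.1 ≤ 18) x hx
      rw [show SZ 4 0 = 0 from rfl] at k3
      exact fin X hq (X.a.mono _ _ _ 3 _ w subset_rfl (by omega)) (hA 4 (card_four X)) (by decide) (by decide)
        (by decide +kernel)
  have hm := card_odd X hp
  by_cases hm2 : Fintype.card ι ≤ 2
  · have := X.b.fin i
    have := X.b.simple i
    obtain ⟨s, hs⟩ := el_two (f := f) (X.b.nonab i) X.b.real.hp
    obtain ⟨k, k1, k2⟩ := X.t.t2 i j _ 2 hij hs hp (Or.inl rfl)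
    rw [show gT 4 2 2 = some 10 by decide, Option.some_inj] at k1
    exact fin X hq (k := 10) (k1 ▸ k2) (hA 2 hm2) (by decide) (by decide) (by decide +kernel)
  by_cases hp3 : p = 3
  · obtain ⟨r, hr⟩ := els X (Or.inr hp3)
    obtain ⟨ρ, e, k1, k2, -, -, -, k3⟩ := X.c.c1 univ i r (fun _ => 2) (mem_univ _) fun j _ => hr j
    have k4 := rc (mem_univ _) k1
    rw [Nat.totient_two, card_univ] at k4
    have k5 : SZ 4 ρ ≤ 2 := (by decide : ∀ ρ < 2, SZ 4 ρ ≤ 2) ρ (by omega)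
    obtain ⟨k, o, w, k6, -, k7⟩ := k3 5 fun j _ => (hr j).1
    rw [show SZ 4 4 = 48 from rfl] at k7
    refine w8 _ _ hm (X.a.gap _ _ _ w rfl (Nat.Coprime.coprime_dvd_left k6 ?_) (by omega))
    rw [one_mul]
    refine Nat.Coprime.prod_left fun j _ => ((hr j).2.1.coprime_iff_not_dvd).2 fun e => ?_
    have k8 := Nat.le_of_dvd (by norm_num) e
    have k9 := (hr j).1
    have k10 := (hr j).2.1
    generalize r j = s at *
    obtain rfl | rfl : s = 5 ∨ s = 6 := by omega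
    exacts [by norm_num at e, by norm_num at k10]
  · obtain ⟨a, b, c, hab, hac, hbc⟩ := Fintype.two_lt_card_iff.1 (not_le.1 hm2)
    exact w8 _ _ hm (X.a.mono _ _ _ _ _ (X.s.t33 a b c hab hac hbc (X.b.real.hp.five_le_of_ne_two_of_ne_three hp hp3)
      (by norm_num) (h3 a) (h3 b) (h3 c)) subset_rfl (by decide))

end G4x

open G4x in
/-- **[G]** for `F₄` -/
theorem boxG4 : BoxG 4 := by
  intro _ tw p f T ι _ _ S _ G κ W E X ⟨hq, c, hc⟩
  have := X.b.two
  by_cases h5 : ∀ i, c i = 5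
  · exact all5 X hq fun i => h5 i ▸ hc i
  by_cases h1 : ∀ i, c i = 1
  · exact all1 X hq fun i => h1 i ▸ hc i
  obtain ⟨i, j, hij, hi, hj⟩ : ∃ i j, i ≠ j ∧ c i ≠ 1 ∧ c j ≠ 5 := by
    obtain ⟨a, ha⟩ := not_forall.1 h1
    obtain ⟨b, hb⟩ := not_forall.1 h5
    by_cases e : a = b
    · subst e
      obtain ⟨d, hd⟩ := exists_ne a
      by_cases k : c d = 5
      exacts [⟨d, a, hd, by omega, hb⟩, ⟨a, d, hd.symm, ha, k⟩]
    · exact ⟨a, b, e, ha, hb⟩
  have h3 := (hc j).three hj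
  have h4 := (hc i).card
  rcases (hc i).mem with k | k | k | k | k | k
  · exact absurd k hi
  · obtain ⟨r, hr⟩ := (hc i).four (Or.inl k)
    rw [k] at h4
    exact four X hq hij hr h4 h3
  · obtain ⟨r, hr⟩ := (hc i).four (Or.inr k)
    rw [k] at h4
    exact four X hq hij hr (h4.trans (Nat.pow_le_pow_right (by omega) (by decide))) h3
  · obtain ⟨r, hr⟩ := (hc i).six k
    exact six X hq hij hr h3
  · obtain ⟨r, -, -, hr, -⟩ := (hc i).six2 k
    exact six X hq hij hr h3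
  · obtain ⟨-, r, -, -, hr⟩ := (hc i).both k
    exact six X hq hij hr h3

end Cfsg.Agent.N2.Ex.Mu
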