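import Cfsg.Agent.N2.Ex.Mu.Num.Base

/-!
# N2 (S3519), several components, `E₆` and `²E₆`, `q ≥ 32`: no automizer four (helper67)
-/

set_option autoImplicit false
set_option linter.unusedSectionVars false

namespace Cfsg.Agent.N2.Ex.Mu

open Finset

variable {ι : Type} [Fintype ι] [DecidableEq ι] {tw : Bool} {p f T : ℕ} {S : ι → Type} [∀ i, Group (S i)] {G : Prop}
  {κ : ℕ} {W : Finset ι → ℕ → ℕ → Prop} {E : ι → Prop} (X : Mx 6 tw p f T S G κ W E) (hq : 32 ≤ p ^ f)

namespace G6b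

include X in
theorem card6 : Fintype.card ι ≤ 6 := by
  by_cases hp : p = 2
  · exact X.card_le (.inl hp)
  · exact (X.card_odd hp).trans (by decide)

include X in
/-- two different primes with the automizer six -/
theorem two_six {i j : ι} (hij : i ≠ j) {r r' : ℕ} (hr : r ≠ r') (h : El (p ^ f) (S i) r 6) (h' : El (p ^ f) (S j) r' 6) :
    ∃ o, W {i, j} 6 o := by
  obtain ⟨ρ, e, h1, h2, -, -, h3, -⟩ := X.c.c1 {i, j} i (fun x => if x = i then r else r') (fun _ => 6) (mem_insert_self _ _)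
    fun x hx => by
      rcases mem_insert.1 hx with rfl | hx
      · rw [if_pos rfl]
        exact ⟨le_trans (by norm_num) h.seven, h⟩
      · obtain rfl := mem_singleton.1 hx
        rw [if_neg hij.symm]
        exact ⟨le_trans (by norm_num) h'.seven, h'⟩
  rw [Rc, erase_insert (notMem_singleton.2 hij), sum_singleton] at h1
  have h4 : ρ + 2 ≤ 4 := h1
  have h5 : ∀ ρ ≤ 2, SZ 6 ρ ≤ 6 := by decide
  refine ⟨_, X.a.mono _ _ _ _ _ (h3 ?_) subset_rfl (h2.trans (h5 ρ (by omega)))⟩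
  rw [coe_pair, Set.injOn_pair]
  simp [hij.symm, hr]

include X hq

/-- the orbit bound for a pair -/
theorem pair {i j : ι} (hij : i ≠ j) {k o : ℕ} (w : W {i, j} k o) {e e' : ℕ} (h : Nat.card (S i) ≤ (p ^ f) ^ e)
    (h' : Nat.card (S j) ≤ (p ^ f) ^ e') (he : 4 * k + e + e' ≤ 52) : G :=
  X.fin hq w 2 (X.A_orb2 hij w h h' (card6 X) (a := 52 - 3 * k) (by omega)) (by show _ ≤ 78; omega) (by decide +kernel)

variable {c : ι → ℕ} (hc : ∀ i, Pf 6 (p ^ f) (S i) (c i))
include hc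

/-- a component with the automizer six -/
theorem six (h4 : ∀ i, c i = 1 ∨ c i = 6 ∨ c i = 7) {i : ι} (hi : c i ≠ 1) : G := by
  have := X.b.two
  obtain ⟨j, hj⟩ := exists_ne i
  have k6 : ∀ x, c x ≠ 1 → ∃ r, El (p ^ f) (S x) r 6 := fun x hx => by
    rcases (h4 x).resolve_left hx with k | k
    · exact (hc x).six k
    · obtain ⟨r, -, -, h, -⟩ := (hc x).six2 k
      exact ⟨r, h⟩
  have k7 : ∀ x y, x ≠ y → c x = 7 → c y ≠ 1 → G := fun x y hxy hx hy => by
    obtain ⟨r, r', h1, h2, h3⟩ := (hc x).six2 hx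
    obtain ⟨s, h5⟩ := k6 y hy
    obtain ⟨o, w⟩ : ∃ o, W {x, y} 6 o := by
      by_cases h6 : r = s
      · exact two_six X hxy (h6 ▸ h1.symm) h3 h5
      · exact two_six X hxy h6 h2 h5
    refine pair X hq hxy w (hc x).card (hc y).card ?_
    rcases h4 y with k | k | k <;> rw [hx, k] <;> decide
  obtain ⟨r, hr⟩ := k6 i hi
  obtain ⟨o, w⟩ : ∃ o, W {i, j} 8 o := by
    by_cases hp : p = 2
    · obtain ⟨k, k1, k2⟩ := X.t.t3 i j r 6 hj.symm hr (by omega) (le_trans (by norm_num) hr.seven)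
        ((hc j).three (by have := h4 j; omega)) (.inr (by norm_num))
      obtain rfl : 6 = k := Option.some.inj k1
      exact ⟨_, X.a.mono _ _ _ _ _ k2 subset_rfl (by norm_num)⟩
    · obtain ⟨k, k1, k2⟩ := X.t.t2 i j r 6 hj.symm hr hp (.inr (by norm_num))
      obtain rfl : 8 = k := Option.some.inj k1
      exact ⟨_, k2⟩
  rcases h4 j with a | a | a
  · refine pair X hq hj.symm w (hc i).card (hc j).card ?_
    rcases h4 i with k | k | k <;> rw [a, k] <;> decide
  · rcases (h4 i).resolve_left hi with k | k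
    · exact pair X hq hj.symm w (hc i).card (hc j).card (by rw [a, k]; decide)
    · exact k7 i j hj.symm k (by omega)
  · exact k7 j i hj a hi

/-- all components are small -/
theorem one (h1 : ∀ i, c i = 1) : G := by
  have ha : ∀ i, Nat.card (MulAut (S i)) ≤ (p ^ f) ^ 4 := fun i => by
    have := (hc i).aut
    rwa [h1] at this
  have hb : ∀ i, Nat.card (MulAut (S i)) < (p ^ f) ^ nt 6 := fun i =>
    (ha i).trans_lt (Nat.pow_lt_pow_right (by omega) (by decide))
  have hA := fun (n : ℕ) (hn : Fintype.card ι ≤ n) => X.A_sum (e := fun _ => 4) ha hn (a := n * 4) (by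
    rw [sum_const, card_univ, smul_eq_mul]
    exact Nat.mul_le_mul_right _ hn)
  by_cases hp : p = 2
  swap
  · obtain ⟨i, j, o, -, w⟩ := X.n.n2 (by norm_num) hp hb
    exact X.fin hq w 2 (hA 4 (X.card_odd hp)) (by decide) (by decide +kernel)
  choose r hr using X.exists_el5 (.inl hp)
  have h3 : ∀ i, 3 ∣ Nat.card (S i) := fun i => (hc i).three (by rw [h1]; norm_num)
  by_cases h6 : Fintype.card ι ≤ 5
  · obtain ⟨i, j, o, -, w⟩ := X.n.n3 (by norm_num) (by omega) hb fun i => ⟨h3 i, r i, hr i⟩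
    split_ifs at w with h
    · exact X.fin hq w 4 (hA 5 h6) (by decide) (by decide +kernel)
    · exact X.fin hq w 2 (hA 4 (by omega)) (by decide) (by decide +kernel)
  have := X.b.two
  obtain ⟨i, j, hij⟩ := exists_pair_ne ι
  have hj : j ∈ univ.erase i := mem_erase.2 ⟨hij.symm, mem_univ _⟩
  obtain ⟨ρ, ρ', e, x, a1, a2, a3, -, a4, -, -, -, a5⟩ := X.c.c3 (univ.erase i) j i r (fun _ => 2) true hj (fun x _ => hr x)
    (notMem_erase _ _) (by omega) (h3 i) (fun h => absurd h (by decide))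
  obtain ⟨k, o, w, -, -, a6⟩ := a5 5 fun x _ => (hr x).1
  rw [Rc, sum_const, card_erase_of_mem hj, card_erase_of_mem (mem_univ _), card_univ, smul_eq_mul] at a2
  have a7 : ρ + (Fintype.card ι - 1 - 1) * 1 ≤ 5 := a2
  have a8 : ρ' < ρ := a3 (show ρ ≤ 5 by omega)
  obtain rfl : ρ' = 0 := by omega
  obtain rfl : e = 0 := Nat.le_zero.1 a4
  have a9 : ∀ x ∈ X3 6 true, x.1 ≤ 40 := by decide
  have := a9 x a1
  exact X.fin hq (X.a.mono _ _ _ 8 _ w subset_rfl (by omega)) 12 (hA 6 (card6 X)) (by decide) (by decide +kernel)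

end G6b

include X hq in
/-- **no automizer four** -/
theorem g6_no4 (c : ι → ℕ) (hc : ∀ i, Pf 6 (p ^ f) (S i) (c i)) (h4 : ∀ i, c i = 1 ∨ c i = 6 ∨ c i = 7) : G := by
  by_cases h : ∀ i, c i = 1
  · exact G6b.one X hq hc h
  · obtain ⟨i, hi⟩ := not_forall.1 h
    exact G6b.six X hq hc h4 hi

end Cfsg.Agent.N2.Ex.Mu
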