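import Cfsg.Agent.N2.Ex.Mu.Num.Defs
import Cfsg.Agent.N2.Ex.Mu.MB
import Cfsg.Agent.N2.Ex.Sim.Num
import Cfsg.Agent.S0204

/-!
# N2 (S3519), several components, the arithmetic for `E₈(q)`, `q ≥ 32` (helper85)
-/

set_option autoImplicit false
set_option linter.unusedSectionVars false

namespace Cfsg.Agent.N2.Ex.Mu

open Cfsg Finset
open Cfsg.Agent.H290.ElReg (Fth)

namespace G8

theorem cb_le {q : ℕ} (hq : 32 ≤ q) (k : ℕ) : 3 * cb 8 q k ≤ 4 * q ^ (k + 8) := by
  have h1 : ((q + 1) * 32) ^ 8 ≤ (33 * q) ^ 8 := Nat.pow_le_pow_left (by omega) 8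
  rw [mul_pow, mul_pow] at h1
  have h2 : 3 * (q + 1) ^ 8 ≤ 4 * q ^ 8 := by omega
  calc _ = q ^ k * (3 * (q + 1) ^ 8) := by rw [cb]; ring
    _ ≤ q ^ k * (4 * q ^ 8) := Nat.mul_le_mul_left _ h2
    _ = _ := by ring

theorem mu_dvd {ι : Type} [Fintype ι] [DecidableEq ι] (t : ι → ℕ) : mu t ∣ (Fintype.card ι).factorial := by
  rw [mu, ← card_univ, card_eq_sum_card_image t]
  exact Nat.prod_factorial_dvd_factorial_sum _ _

/-- representations of degree two -/
theorem three_le {K N : Type} [Field K] [Group N] [Finite N] [IsSimpleGroup N] (hn : ¬ IsMulCommutative N) (h2 : (2 : K) ≠ 0)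
    {n : ℕ} (h : Fth n K N) : 3 ≤ n := by
  obtain ⟨ρ, hρ⟩ := h
  by_contra h3
  have hd : ∀ x, Matrix.GeneralLinearGroup.det (ρ x) = 1 := by
    rcases (Matrix.GeneralLinearGroup.det.comp ρ).normal_ker.eq_bot_or_eq_top with k | k
    · exact absurd ⟨⟨fun a b => (MonoidHom.ker_eq_bot_iff _).1 k (by rw [map_mul, map_mul, mul_comm])⟩⟩ hn
    · exact fun x => k.ge (Subgroup.mem_top x)
  obtain ⟨V, hV⟩ := S0204.result (G := N) fun k => hn inferInstance
  have : Nontrivial V := Finite.one_lt_card_iff_nontrivial.1 (by rw [hV.card_four]; norm_num)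
  obtain ⟨t, ht⟩ := exists_ne (1 : V)
  have h4 : (t : N) * t = 1 := by
    rw [← sq]
    exact congrArg Subtype.val (hV.exponent_two ▸ Monoid.pow_exponent_eq_one t)
  have h5 : (t : N) ∈ Subgroup.center N := Subgroup.mem_center_iff.2 fun g => hρ (Units.ext (by
    have k1 : (ρ t).1 * (ρ t).1 = 1 := by rw [← Units.val_mul, ← map_mul, h4, map_one, Units.val_one]
    have k2 : (ρ t).1.det = 1 := congrArg Units.val (hd t)
    rw [map_mul, map_mul, Units.val_mul, Units.val_mul]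
    generalize (ρ t).1 = A at k1 k2
    generalize (ρ g).1 = B
    obtain rfl | rfl | rfl : n = 0 ∨ n = 1 ∨ n = 2 := by omega
    · exact Subsingleton.elim _ _
    · ext i j
      simp [Matrix.mul_apply, Subsingleton.elim i 0, Subsingleton.elim j 0, mul_comm]
    · have a1 := congrFun (congrFun k1 0) 0
      have a2 := congrFun (congrFun k1 0) 1
      have a3 := congrFun (congrFun k1 1) 0
      have a4 := congrFun (congrFun k1 1) 1
      simp only [Matrix.mul_apply, Fin.sum_univ_two, Matrix.one_apply_eq, ne_eq, zero_ne_one, one_ne_zero, not_false_eq_true,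
        Matrix.one_apply_ne] at a1 a2 a3 a4
      rw [Matrix.det_fin_two] at k2
      have b0 : A 0 0 + A 1 1 ≠ 0 := fun k => h2 (by linear_combination (A 0 0) * k - a1 - k2)
      have b1 : A 0 1 = 0 := (mul_eq_zero.1 (show A 0 1 * (A 0 0 + A 1 1) = 0 by linear_combination a2)).resolve_right b0
      have b2 : A 1 0 = 0 := (mul_eq_zero.1 (show A 1 0 * (A 0 0 + A 1 1) = 0 by linear_combination a3)).resolve_right b0
      have b3 : A 0 0 - A 1 1 = 0 :=
        (mul_eq_zero.1 (show (A 0 0 - A 1 1) * (A 0 0 + A 1 1) = 0 by linear_combination a1 - a4)).resolve_right b0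
      rw [sub_eq_zero] at b3
      ext i j
      fin_cases i <;> fin_cases j <;> simp [Matrix.mul_apply, Fin.sum_univ_two, b1, b2, b3] <;> exact mul_comm _ _))
  rcases (inferInstance : (Subgroup.center N).Normal).eq_bot_or_eq_top with k | k
  · exact ht (Subtype.ext (Subgroup.mem_bot.1 (k ▸ h5)))
  · exact hn ⟨⟨fun u v => Subgroup.mem_center_iff.1 (k.ge (Subgroup.mem_top v)) u⟩⟩

theorem five_le {q r n : ℕ} {N : Type} [Group N] (h : El q N r n) (hn : n = 4 ∨ n = 6) : 5 ≤ r := by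
  obtain ⟨h1, h2, h3, h, ⟨g, j, k1, k2, k3⟩, h4⟩ := h
  by_contra h5
  obtain rfl : r = 3 := by
    have := h1.two_le
    have : r ≠ 4 := fun k => absurd (k ▸ h1) (by norm_num)
    omega
  have h6 : ∀ x : ZMod 3, orderOf x ∣ 2 ∨ x = 0 := fun x => by
    rw [orderOf_dvd_iff_pow_eq_one]
    revert x
    decide
  have h7 : orderOf (j : ZMod 3) ∣ 2 := (h6 _).resolve_right fun k => by
    rw [ZMod.natCast_eq_zero_iff, ← k1, orderOf_dvd_iff_pow_eq_one] at k
    rw [k, isConj_one_left] at k2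
    rw [k2, orderOf_one] at k1
    omega
  have h8 : orderOf (q : ZMod 3) ∣ 2 := (h6 _).resolve_right fun k => h3 ((ZMod.natCast_eq_zero_iff _ _).1 k)
  have h9 := Nat.le_of_dvd two_pos (h4.trans (Nat.lcm_dvd dvd_rfl (Nat.lcm_dvd (k3.trans h7) h8)))
  omega

variable {tw : Bool} {p f T κ : ℕ} {ι : Type} [Fintype ι] [DecidableEq ι] {S : ι → Type} [∀ i, Group (S i)] {G : Prop}
  {W : Finset ι → ℕ → ℕ → Prop} {E : ι → Prop} (X : Mx 8 tw p f T S G κ W E) (hq : 32 ≤ p ^ f)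

include X hq

theorem ord_ge : (p ^ f) ^ 248 ≤ 2 * T := by
  have h1 := Sm.ordU_le X.b.typ X.b.real
  have h2 := Sm.ordU_mono (tw := tw) X.b.typ hq
  have h3 : 32 ^ Sm.dimT 8 ≤ SB.Exc.ordU 8 32 * 2 := by decide +kernel
  have h4 : 0 < SB.Exc.ordU 8 32 := by decide +kernel
  rw [show SB.Exc.dM 8 = 1 from rfl, one_mul] at h1
  refine Nat.le_of_mul_le_mul_left (h2.trans ((Nat.mul_le_mul h3 h1).trans_eq (mul_assoc _ _ _))) h4

/-- the final inequality -/
theorem fin {I : Finset ι} {k o : ℕ} (h : W I k o) {C a s : ℕ} (hA : (∏ i, Nat.card (S i)) * κ ≤ C * (p ^ f) ^ a)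
    (h1 : 3 * (k + 8) + a + s ≤ 248) (h2 : 128 * C ≤ 27 * 32 ^ s) : G := by
  refine X.a.win I k o h (Nat.le_of_mul_le_mul_left ?_ (show 0 < 54 by norm_num))
  have h3 := Nat.pow_le_pow_left (cb_le hq k) 3
  have h4 := ord_ge X hq
  generalize p ^ f = q at *
  have h5 : 32 ^ s ≤ q ^ s := Nat.pow_le_pow_left hq s
  calc _ = 2 * ((3 * cb 8 q k) ^ 3 * ((∏ i, Nat.card (S i)) * κ)) := by ring
    _ ≤ 2 * ((4 * q ^ (k + 8)) ^ 3 * (C * q ^ a)) := Nat.mul_le_mul_left _ (Nat.mul_le_mul h3 hA)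
    _ = 128 * C * q ^ (3 * (k + 8) + a) := by ring
    _ ≤ 27 * q ^ s * q ^ (3 * (k + 8) + a) := Nat.mul_le_mul_right _ (h2.trans (Nat.mul_le_mul_left _ h5))
    _ = 27 * q ^ (3 * (k + 8) + a + s) := by ring
    _ ≤ 27 * q ^ 248 := Nat.mul_le_mul_left _ (Nat.pow_le_pow_right (by omega) h1)
    _ ≤ _ := by omega

omit hq in
/-- the bound by the automorphism groups -/
theorem ord_le {e : ℕ} (h : ∀ i, Nat.card (MulAut (S i)) ≤ (p ^ f) ^ e) :
    (∏ i, Nat.card (S i)) * κ ≤ (Fintype.card ι).factorial * (p ^ f) ^ (e * Fintype.card ι) := by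
  have h1 : ∀ i, 0 < Nat.card (MulAut (S i)) / Nat.card (S i) := fun i => by
    have := X.b.fin i
    have := X.b.simple i
    refine Nat.div_pos (Nat.card_le_card_of_injective (MulAut.conj : S i →* _) ?_) Nat.card_pos
    rcases (MulAut.conj : S i →* _).normal_ker.eq_bot_or_eq_top with k | k
    · exact (MonoidHom.ker_eq_bot_iff _).1 k
    · refine absurd ⟨⟨fun a b => ?_⟩⟩ (X.b.nonab i)
      have := DFunLike.congr_fun (show MulAut.conj a = 1 from k.ge (Subgroup.mem_top a)) b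
      rwa [MulAut.conj_apply, MulAut.one_apply, mul_inv_eq_iff_eq_mul] at this
  have h2 := Nat.le_of_dvd (Nat.mul_pos (prod_pos fun i _ => h1 i) (Nat.factorial_pos _))
    (X.a.kdv.trans (Nat.mul_dvd_mul_left _ (mu_dvd _)))
  refine (Nat.mul_le_mul_left _ h2).trans ?_
  rw [← mul_assoc, ← prod_mul_distrib, mul_comm, pow_mul]
  exact Nat.mul_le_mul_left _ (prod_le_pow_card _ _ _ fun i _ => (Nat.mul_div_le _ _).trans (h i))

omit hq in
theorem card_odd (hp : p ≠ 2) : Fintype.card ι ≤ 7 := by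
  obtain ⟨K, _, _, -, h⟩ := X.b.deg
  have h1 := h (fun _ => 3) (fun _ => le_rfl) fun i n k => by
    have := X.b.fin i
    have := X.b.simple i
    exact three_le (X.b.nonab i) (fun k2 => hp ((Nat.prime_dvd_prime_iff_eq X.b.real.hp Nat.prime_two).1
      ((CharP.cast_eq_zero_iff K p 2).1 (by exact_mod_cast k2)))) k
  rw [sum_const, offDiag_card, card_univ, smul_eq_mul, show Sm.dimT 8 = 248 from rfl] at h1
  by_contra h2
  have h3 : 8 * Fintype.card ι ≤ Fintype.card ι * Fintype.card ι := Nat.mul_le_mul_right _ (by omega)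
  omega

omit hq in
theorem el_two (hp : p = 2) (i : ι) : ∃ r, 5 ≤ r ∧ El (p ^ f) (S i) r 2 := by
  have := X.b.fin i
  obtain ⟨z, h1, h2, h3⟩ := MBx.exists_elt (X.b.simple i) (X.b.nonab i) Nat.prime_two Nat.prime_three
  refine ⟨_, (Nat.Prime.five_le_of_ne_two_of_ne_three h1 h2 h3), h1, h2, fun k => h2 ?_, 1,
    Sm.Ch.one h1 (orderOf_dvd_natCard z), Nat.dvd_lcm_left _ _⟩
  exact (Nat.prime_dvd_prime_iff_eq h1 Nat.prime_two).1 (hp ▸ h1.dvd_of_dvd_pow k)

omit hq in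
/-- chains -/
theorem card_ch {n : ℕ} (h : ∀ i, ∃ r, 5 ≤ r ∧ El (p ^ f) (S i) r n) : (Fintype.card ι - 1) * n.totient ≤ 8 := by
  choose r hr using h
  have := X.b.two
  obtain ⟨i⟩ : Nonempty ι := inferInstance
  obtain ⟨ρ, -, h1, -⟩ := X.c.c1 univ i r (fun _ => n) (mem_univ i) fun j _ => hr j
  rw [Rc, sum_const, card_erase_of_mem (mem_univ i), card_univ, smul_eq_mul, rk1] at h1
  split_ifs at h1 <;> omega

theorem card_le : Fintype.card ι ≤ 9 := by
  by_cases hp : p = 2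
  · have := card_ch X (el_two X hp)
    rw [Nat.totient_two] at this
    omega
  · exact (card_odd X hp).trans (by norm_num)

/-- a base with an automizer four or six -/
theorem base {i j : ι} {r n k o a : ℕ} (h : El (p ^ f) (S i) r n) (h1 : Nat.card (S i) ≤ (p ^ f) ^ a)
    (h2 : a + Cb.bd 8 n ≤ 88) (h3 : W {i, j} k o) (h4 : k ≤ 40) : G := by
  have h5 := X.a.orb _ _ _ (X.t.t0 i r n h).1
  rw [prod_singleton] at h5
  have h6 := cb_le hq (Cb.bd 8 n)
  have h7 := (card_le_univ (univ.filter fun j => Nat.card (S j) = Nat.card (S i))).trans (card_le X hq)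
  refine fin X hq h3 (C := 12) (a := a + (Cb.bd 8 n + 8)) (s := 2) (h5.trans ?_) (by omega) (by norm_num)
  calc _ ≤ 9 * (p ^ f) ^ a * cb 8 (p ^ f) (Cb.bd 8 n) := Nat.mul_le_mul_right _ (Nat.mul_le_mul h7 h1)
    _ = 3 * (p ^ f) ^ a * (3 * cb 8 (p ^ f) (Cb.bd 8 n)) := by ring
    _ ≤ 3 * (p ^ f) ^ a * (4 * (p ^ f) ^ (Cb.bd 8 n + 8)) := Nat.mul_le_mul_left _ h6
    _ = _ := by ring

theorem base' {i j : ι} (hij : i ≠ j) {r n a : ℕ} (h : El (p ^ f) (S i) r n) (h1 : Nat.card (S i) ≤ (p ^ f) ^ a)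
    (h2 : n = 4 ∧ a ≤ 28 ∨ n = 6 ∧ a ≤ 14) (h3 : p = 2 → 3 ∣ Nat.card (S j)) : G := by
  have h4 : Cb.bd 8 4 = 60 ∧ Cb.bd 8 6 = 72 := by decide +kernel
  have h5 : a + Cb.bd 8 n ≤ 88 := by rcases h2 with ⟨rfl, k⟩ | ⟨rfl, k⟩ <;> omega
  have h6 : 8 = 4 ∨ ¬ n ∣ 2 := Or.inr (by rcases h2 with ⟨rfl, -⟩ | ⟨rfl, -⟩ <;> decide)
  by_cases hp : p = 2
  · obtain ⟨k, k1, k2⟩ := X.t.t3 i j r n hij h (by omega) (five_le h (h2.imp And.left And.left)) (h3 hp) h6
    refine base X hq h h1 h5 k2 ?_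
    rcases h2 with ⟨rfl, -⟩ | ⟨rfl, -⟩ <;> exact (Option.some.inj k1).ge.trans (by decide)
  · obtain ⟨k, k1, k2⟩ := X.t.t2 i j r n hij h hp h6
    refine base X hq h h1 h5 k2 ?_
    rcases h2 with ⟨rfl, -⟩ | ⟨rfl, -⟩ <;> exact (Option.some.inj k1).ge.trans (by decide)

/-- only small components -/
theorem small (h : ∀ i, Pf 8 (p ^ f) (S i) 1) : G := by
  have h1 := ord_le X (e := 5) fun i => (h i).aut
  have h2 : ∀ i, Nat.card (MulAut (S i)) < (p ^ f) ^ nt 8 := fun i =>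
    (h i).aut.trans_lt (Nat.pow_lt_pow_right (by omega) (by decide))
  have h3 : ∀ c, Fintype.card ι ≤ c → (∏ i, Nat.card (S i)) * κ ≤ c.factorial * (p ^ f) ^ (5 * c) := fun c k =>
    h1.trans (Nat.mul_le_mul (Nat.factorial_le k) (Nat.pow_le_pow_right (by omega) (by omega)))
  by_cases hp : p = 2
  · by_cases h9 : Fintype.card ι ≤ 8
    · obtain ⟨i, j, o, -, k⟩ := X.n.n3 (by decide) (by omega) h2 fun i => ⟨(h i).three (by decide), el_two X hp i⟩
      exact fin X hq (k := 60) k (h3 8 h9) (s := 4) (by norm_num) (by decide)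
    · choose r hr using el_two X hp
      have := X.b.two
      obtain ⟨i, j, hij⟩ := exists_pair_ne ι
      obtain ⟨ρ, ρ', e, x, a1, -, -, a2, a3, -, -, -, a4⟩ := X.c.c3 (univ.erase i) j i r (fun _ => 2) true
        (mem_erase.2 ⟨hij.symm, mem_univ j⟩) (fun j _ => hr j) (notMem_erase i _) (by omega) ((h i).three (by decide))
        (fun k => absurd k (by decide))
      obtain ⟨k, o, b1, -, -, b2⟩ := a4 5 fun j _ => (hr j).1
      rw [sum_const, card_erase_of_mem (mem_univ i), card_univ, Nat.totient_two, smul_eq_mul] at a2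
      have b3 : x = (126, 7) ∨ x = (78, 8) := by simpa [X3, col] using a1
      obtain rfl : ρ' = 0 := by rcases b3 with rfl | rfl <;> omega
      obtain rfl : e = 0 := Nat.le_zero.1 a3
      exact fin X hq b1 (h3 9 (card_le X hq)) (s := 5) (by rcases b3 with rfl | rfl <;> omega) (by decide)
  · obtain ⟨i, j, o, -, k⟩ := X.n.n2 (by decide) hp h2
    exact fin X hq (k := 62) k (h3 7 (card_odd X hp)) (s := 3) (by norm_num) (by decide)

/-- only Suzuki groups -/
theorem suz (h : ∀ i, Pf 8 (p ^ f) (S i) 5) : G := by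
  have h0 : ∀ i, ∃ r, 5 ≤ r ∧ El (p ^ f) (S i) r 4 := fun i =>
    let ⟨r, k⟩ := (h i).four (Or.inr rfl)
    ⟨r, five_le k (Or.inl rfl), k⟩
  have h1 := card_ch X h0
  rw [show Nat.totient 4 = 2 by decide] at h1
  have := X.b.two
  obtain ⟨i⟩ : Nonempty ι := inferInstance
  obtain ⟨r, -, k⟩ := h0 i
  have h2 := (X.t.t0 i r 4 k).1
  rw [show Cb.bd 8 4 = 60 by decide +kernel] at h2
  exact fin X hq h2 (C := Nat.factorial 5) (a := 30) (s := 3) ((ord_le X (e := 6) fun i => (h i).aut).trans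
    (Nat.mul_le_mul (Nat.factorial_le (by omega)) (Nat.pow_le_pow_right (by omega) (by omega)))) (by norm_num) (by decide)

end G8

/-- **[G]** for `E₈` -/
theorem boxG8 : BoxG 8 := by
  rintro - tw p f T ι _ _ S _ G κ W E X ⟨hq, c, h⟩
  have := X.b.two
  have key : ∀ i j, i ≠ j → c i ≠ 1 → c j ≠ 5 → G := fun i j hij h1 h5 => by
    have k := h i
    have h3 : p = 2 → 3 ∣ Nat.card (S j) := fun _ => (h j).three h5
    rcases k.mem with e | e | e | e | e | e <;> rw [e] at k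
    · exact absurd e h1
    · exact (k.four (Or.inl rfl)).elim fun r k1 => G8.base' X hq hij k1 k.card (Or.inl ⟨rfl, by decide⟩) h3
    · exact (k.four (Or.inr rfl)).elim fun r k1 => G8.base' X hq hij k1 k.card (Or.inl ⟨rfl, by decide⟩) h3
    · exact (k.six rfl).elim fun r k1 => G8.base' X hq hij k1 k.card (Or.inr ⟨rfl, by decide⟩) h3
    · obtain ⟨r, -, -, k1, -⟩ := k.six2 rfl
      exact G8.base' X hq hij k1 k.card (Or.inr ⟨rfl, by decide⟩) h3
    · obtain ⟨r, -, -, k1, -⟩ := k.both rfl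
      exact G8.base' X hq hij k1 k.card (Or.inl ⟨rfl, by decide⟩) h3
  by_cases h1 : ∀ i, c i = 1
  · exact G8.small X hq fun i => h1 i ▸ h i
  by_cases h5 : ∀ i, c i = 5
  · exact G8.suz X hq fun i => h5 i ▸ h i
  obtain ⟨i, hi⟩ := not_forall.1 h1
  obtain ⟨j, hj⟩ := not_forall.1 h5
  by_cases hij : i = j
  · subst hij
    obtain ⟨k, hk⟩ := exists_ne i
    by_cases h6 : c k = 5
    · exact key k i hk (by omega) hj
    · exact key i k hk.symm hi h6
  · exact key i j hij hi hj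

end Cfsg.Agent.N2.Ex.Mu
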