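import Cfsg.Agent.N2.Ex.Mu.Num.Defs
import Cfsg.Agent.N2.Ex.Sim.CrE

/-!
# N2 (S3519), several components, the arithmetic: the box `BoxDc` (helper87)
-/

set_option autoImplicit false
set_option linter.unusedSectionVars false

namespace Cfsg.Agent.N2.Ex.Mu

open Cfsg Cfsg.Agent.H902 Cfsg.Agent.H902.Names Cfsg.Agent.OrdDiv Cfsg.Agent.TH.Ex.Dg Cfsg.Agent.H290.ElReg Cfsg.Agent.H290.ElTab
open Cfsg.Agent.H252.EN Cfsg.Agent.H889.Enum
open Cfsg.Agent.N2C.RX (frc frc_eq ordm)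
open Cfsg.Agent.N2.Ex.Sm (dimT NB Ch Nm hh h0 prm prm_sound)
open Cfsg.Agent.N2.Ex.Sm.Cr (nm isO okE okE_ok dgO nm_of)

namespace Dc

/-- some class fits: `t` the order, `A` the order of the automorphism group, `L` the pairs `El` -/
def Ft (e q t A : ℕ) (L : List (ℕ × ℕ)) : Prop :=
  (3 ∣ t ∧ A ≤ q ^ e) ∨ ∃ x ∈ L, Big x.2 ∨ (4 ∣ x.2 ∧ (A ≤ q ^ 6 ∨ 3 ∣ t ∧ t ≤ q ^ 10 ∧ A ≤ q ^ 11)) ∨
    (6 ∣ x.2 ∧ 3 ∣ t ∧ (t ≤ q ^ 8 ∧ A ≤ q ^ 9 ∨ ∃ y ∈ L, y.1 ≠ x.1 ∧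
      (6 ∣ y.2 ∧ t ≤ q ^ 14 ∧ A ≤ q ^ 15 ∨ 4 ∣ y.2 ∧ t ≤ q ^ 28 ∧ A ≤ q ^ 29)))

/-- the test -/
def ft (e q t A : ℕ) (L : List (ℕ × ℕ)) : Bool := @decide (Ft e q t A L) (by unfold Ft; infer_instance)

/-- the same with the order of `q` modulo a prime of `ps` -/
def fu (e q t A : ℕ) (ps : List ℕ) (L : List (ℕ × ℕ)) : Bool :=
  ft e q t A L || ps.any fun u => prm u && Nat.ble 5 u && Nat.beq (t % u) 0 &&
    ft e (max q (u - 1)) t A L && ft e q t A ((u, 4) :: L) && ft e q t A ((u, 6) :: L)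

/-- the least power which is at least `32` -/
def lowq (p : ℕ) : ℕ := if 32 ≤ p then p else if 32 ≤ p ^ 2 then p ^ 2 else if 32 ≤ p ^ 3 then p ^ 3
  else if 32 ≤ p ^ 4 then p ^ 4 else 32

/-- the automizers -/
def els (g : Grp) (X : Art.Sh) (r a t : ℕ) (ps : List ℕ) : List (ℕ × ℕ) :=
  ps.flatMap fun u => ((h0 g r a :: [a, 1, 2, 3].map fun b => hh g (ordm (r ^ b % u) u)).filter fun h =>
    okE g X r a t ⟨u, h, 0⟩).map fun h => (u, Nat.lcm 2 h)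

/-- the check of a group -/
def chk (X : Art.Sh) (r a : ℕ) (o : Bool) : Bool :=
  frc (r ^ a) fun q => frc (dgO X o q) fun d => Nat.blt 82 d || frc (od X r a) fun t => frc (ouN X r a * t) fun A =>
    frc (if d ≤ 44 then 4 else 5) fun e => fu e 32 t A (pd t) (els (nm X o q) X r a t (pd t)) &&
      (pd t).all fun p => Nat.beq (r * o2 X q % p) 0 ||
        fu e (lowq p) t A ((pd t).filter (· != p)) (els (nm X o q) X r a t ((pd t).filter (· != p)))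

/-- the check of a shape -/
def chkX (x : Art.Sh × ℕ × ℕ) : Bool :=
  @decide (AltN x.1 (x.2.1 ^ x.2.2)) (by unfold AltN; infer_instance) ||
    (chk x.1 x.2.1 x.2.2 false && (!isO x.1 (x.2.1 ^ x.2.2) || chk x.1 x.2.1 x.2.2 true))

theorem all_ok : (reg 82).all chkX = true := by decide +kernel

theorem lowq_le {p f : ℕ} (hp : 0 < p) (h : 32 ≤ p ^ f) : lowq p ≤ p ^ f := by
  have key : ∀ k, ¬ 32 ≤ p ^ k → p ^ (k + 1) ≤ p ^ f := fun k hk => Nat.pow_le_pow_right hp (by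
    by_contra h1
    exact hk (h.trans (Nat.pow_le_pow_right hp (by omega))))
  unfold lowq
  split_ifs with h1 h2 h3 h4
  exacts [by simpa using key 0 (by norm_num), key 1 (by simpa using h1), key 2 h2, key 3 h3, h]

variable {l q q₀ e : ℕ} {N : Type} [Group N] [Finite N] {L : List (ℕ × ℕ)}

theorem el_mono {r n m : ℕ} (h : El q N r n) (hm : m ∣ n) : El q N r m :=
  let ⟨h1, h2, h3, k, h4, h5⟩ := h; ⟨h1, h2, h3, k, h4, hm.trans h5⟩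

theorem el_of {p f r h : ℕ} (hp : p.Prime) (hr : r.Prime) (h5 : 5 ≤ r) (hne : r ≠ p) (k : Ch N r h) :
    El (p ^ f) N r (Nat.lcm 2 (Nat.lcm h (orderOf ((p ^ f : ℕ) : ZMod r)))) :=
  ⟨hr, by omega, fun e => hne ((Nat.prime_dvd_prime_iff_eq hr hp).1 (hr.dvd_of_dvd_pow e)), h, k, dvd_rfl⟩

theorem ft_ok (h0 : 0 < q) (hq : q₀ ≤ q) (he : e ≤ ea l 1) (hA : Nat.card N ≤ Nat.card (MulAut N))
    (hL : ∀ x ∈ L, El q N x.1 x.2) (hb : NoBig q N) (h : ft e q₀ (Nat.card N) (Nat.card (MulAut N)) L = true) :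
    ∃ c, Pf l q N c := by
  have k : ∀ {a n : ℕ}, a ≤ q₀ ^ n → a ≤ q ^ n := fun h => h.trans (Nat.pow_le_pow_left hq _)
  rcases @of_decide_eq_true _ (_) h with ⟨h1, h2⟩ | ⟨x, hx, h1 | ⟨h1, h2 | ⟨h2, h3, h4⟩⟩ | ⟨h1, h2, ⟨h3, h4⟩ | ⟨y, hy, h3, ⟨h4, h5, h6⟩ | ⟨h4, h5, h6⟩⟩⟩⟩
  · have h3 := (k h2).trans (Nat.pow_le_pow_right h0 he)
    exact ⟨1, by simp, h3, hA.trans h3, fun _ => h1, by simp, by simp, by simp, by simp⟩
  · exact absurd h1 (hb _ _ (hL x hx))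
  · exact ⟨5, by simp, k h2, hA.trans (k h2), by simp, fun _ => ⟨_, el_mono (hL x hx) h1⟩, by simp, by simp, by simp⟩
  · exact ⟨4, by simp, k h4, k h3, fun _ => h2, fun _ => ⟨_, el_mono (hL x hx) h1⟩, by simp, by simp, by simp⟩
  · exact ⟨6, by simp, k h4, k h3, fun _ => h2, by simp, fun _ => ⟨_, el_mono (hL x hx) h1⟩, by simp, by simp⟩
  · exact ⟨7, by simp, k h6, k h5, fun _ => h2, by simp, by simp,
      fun _ => ⟨_, _, h3, el_mono (hL y hy) h4, el_mono (hL x hx) h1⟩, by simp⟩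
  · exact ⟨8, by simp, k h6, k h5, fun _ => h2, by simp, by simp, by simp,
      fun _ => ⟨_, _, h3, el_mono (hL y hy) h4, el_mono (hL x hx) h1⟩⟩

theorem fu_ok {p f : ℕ} {ps : List ℕ} (hp : p.Prime) (h0 : 32 ≤ p ^ f) (hq : q₀ ≤ p ^ f) (he : e ≤ ea l 1)
    (hA : Nat.card N ≤ Nat.card (MulAut N)) (hL : ∀ x ∈ L, El (p ^ f) N x.1 x.2) (hb : NoBig (p ^ f) N) (hs : ∀ u ∈ ps, u ≠ p)
    (h : fu e q₀ (Nat.card N) (Nat.card (MulAut N)) ps L = true) : ∃ c, Pf l (p ^ f) N c := by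
  have h1 : 0 < p ^ f := by omega
  simp only [fu, Bool.or_eq_true, List.any_eq_true, Bool.and_eq_true, Nat.ble_eq, Nat.beq_eq] at h
  rcases h with h | ⟨u, hu, ⟨⟨⟨⟨a1, a2⟩, a3⟩, a4⟩, a5⟩, a6⟩
  · exact ft_ok h1 hq he hA hL hb h
  have a7 := prm_sound a1
  have b1 := el_of (f := f) hp a7 a2 (hs u hu) (Ch.one a7 (Nat.dvd_of_mod_eq_zero a3))
  have b2 := hb _ _ b1
  rw [Nat.lcm_one_left] at b1 b2
  by_cases c1 : 4 ∣ Nat.lcm 2 (orderOf ((p ^ f : ℕ) : ZMod u))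
  · exact ft_ok h1 hq he hA (List.forall_mem_cons.2 ⟨el_mono b1 c1, hL⟩) hb a5
  by_cases c2 : 6 ∣ Nat.lcm 2 (orderOf ((p ^ f : ℕ) : ZMod u))
  · exact ft_ok h1 hq he hA (List.forall_mem_cons.2 ⟨el_mono b1 c2, hL⟩) hb a6
  refine ft_ok h1 (max_le hq ?_) he hA hL hb a4
  have c3 : orderOf ((p ^ f : ℕ) : ZMod u) ∣ 2 := by
    refine (Nat.dvd_lcm_right 2 _).trans ?_
    have c4 := Nat.dvd_lcm_left 2 (orderOf ((p ^ f : ℕ) : ZMod u))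
    generalize Nat.lcm 2 _ = m at *
    rcases not_and_or.1 b2 with k | k <;> have := Nat.le_of_dvd (by norm_num) (not_not.1 k) <;> interval_cases m <;> omega
  rw [orderOf_dvd_iff_pow_eq_one, ← Nat.cast_pow, ← Nat.cast_one, ZMod.natCast_eq_natCast_iff] at c3
  have c4 := (Nat.modEq_iff_dvd' (Nat.one_le_pow _ _ h1)).1 c3.symm
  rw [← one_pow 2, Nat.sq_sub_sq] at c4
  rcases a7.dvd_mul.1 c4 with k | k <;> have := Nat.le_of_dvd (by omega) k <;> omega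

variable {g : Grp} {X : Art.Sh} {r a : ℕ}

theorem els_ok (B : NB) (h : Nm N g X r a) {p f : ℕ} (hp : p.Prime) {ps : List ℕ} (hs : ∀ u ∈ ps, u ≠ p) :
    ∀ x ∈ els g X r a (Nat.card N) ps, El (p ^ f) N x.1 x.2 := by
  intro x hx
  obtain ⟨u, hu, hx⟩ := List.mem_flatMap.1 hx
  obtain ⟨k, hk, rfl⟩ := List.mem_map.1 hx
  obtain ⟨h1, h2, h3, -⟩ := okE_ok B h (List.mem_filter.1 hk).2
  exact el_mono (el_of hp h1 h2 (hs u hu) h3) (Nat.lcm_dvd (Nat.dvd_lcm_left _ _) ((Nat.dvd_lcm_left _ _).trans (Nat.dvd_lcm_right _ _)))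

theorem chk_ok [IsSimpleGroup N] (B : NB) {p f : ℕ} {o : Bool} (hl : l = 4 ∨ l = 6 ∨ l = 7 ∨ l = 8) (hp : p.Prime)
    (h0 : 32 ≤ p ^ f) (hna : ¬ IsMulCommutative N) (hb : NoBig (p ^ f) N) (hL : ¬ IsLieTypeChar p N) (hr : r ≠ p)
    (h : Nm N (nm X o (r ^ a)) X r a) (hd : 3 * dgO X o (r ^ a) ≤ dimT l) (k : chk X r a o = true) : ∃ c, Pf l (p ^ f) N c := by
  have h1 := real_eq h.ord
  have h2 := aut_ouN (fun h => hna ⟨⟨h⟩⟩) h.lie h.real h.ord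
  have h3 : Nat.card N ≤ Nat.card (MulAut N) := Nat.le_of_dvd Nat.card_pos (h2 ▸ dvd_mul_left _ _)
  have h4 : dgO X o (r ^ a) ≤ 82 ∧ (if dgO X o (r ^ a) ≤ 44 then 4 else 5) ≤ ea l 1 := by
    rcases hl with rfl | rfl | rfl | rfl <;> simp only [dimT, ea] at hd ⊢ <;> norm_num at hd ⊢ <;> constructor <;>
      first | omega | (split_ifs <;> omega)
  simp only [chk, frc_eq, ← h1, ← h2, Bool.or_eq_true, Bool.and_eq_true, Nat.blt_eq, List.all_eq_true, Nat.beq_eq] at k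
  obtain ⟨k1, k2⟩ := k.resolve_left h4.1.not_gt
  by_cases h5 : p ∈ pd (Nat.card N)
  · have h6 : ∀ u ∈ (pd (Nat.card N)).filter (· != p), u ≠ p := fun u hu => by simpa using (List.mem_filter.1 hu).2
    refine fu_ok hp h0 (lowq_le hp.pos h0) h4.2 h3 (els_ok B h hp h6) hb h6 ((k2 p h5).resolve_left fun k => ?_)
    rcases hp.dvd_mul.1 (Nat.dvd_of_mod_eq_zero k) with k | k
    exacts [hr ((Nat.prime_dvd_prime_iff_eq hp h.ord.hp).1 k).symm, not_dvd_o2 h.lie h.real hp hL k]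
  · have h6 : ∀ u ∈ pd (Nat.card N), u ≠ p := fun u hu e => h5 (e ▸ hu)
    exact fu_ok hp h0 h0 h4.2 h3 (els_ok B h hp h6) hb h6 k1

end Dc

/-- **[Dc]** -/
theorem boxDc : BoxDc := by
  rintro B - l p f N _ _ _ hl hp - h0 hna hb ⟨hL, hA, ⟨r, hr, hN⟩, F, _, _, n, hn, hf⟩
  obtain ⟨g, X, a, hg, h, hR⟩ := H364.LieNam.lie_nam OrdDiv.table hr hN
  have hrp : r ≠ p := fun k => hL (k ▸ hN)
  have h3 : (r : F) ≠ 0 := fun k => hrp ((Nat.prime_dvd_prime_iff_eq hp hr).1 ((CharP.cast_eq_zero_iff F p r).1 k)).symm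
  have h4 : n ≤ 82 := by
    have : dimT l ≤ 248 := by rcases hl with rfl | rfl | rfl | rfl <;> decide
    omega
  have h5 := dgL_le (fun h => hna ⟨⟨h⟩⟩) hg h hR (by omega) h3 hf
  have h6 := List.all_eq_true.1 Dc.all_ok _ (H290.ElCross.mem_reg (by norm_num) hr hR.hf hR.ok
    ((lb_le (fun h => hna ⟨⟨h⟩⟩) (by omega) hf hg h hR h3).trans h4))
  simp only [Dc.chkX, Bool.or_eq_true, Bool.and_eq_true, decide_eq_true_eq, Bool.not_eq_true'] at h6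
  obtain ⟨k1, k2⟩ := h6.resolve_left fun k => hA (alt_of hg h k)
  rcases nm_of hg with rfl | ⟨a1, a2, m, hm, rfl⟩
  · exact Dc.chk_ok B hl hp h0 hna hb hL hrp ⟨hg, h, hR⟩ ((Nat.mul_le_mul_left 3 (max_le h5 (Nat.zero_le _))).trans hn) k1
  · refine Dc.chk_ok B hl hp h0 hna hb hL hrp (a2 ▸ ⟨hg, h, hR⟩) ((Nat.mul_le_mul_left 3 (max_le h5 ?_)).trans hn)
      (k2.resolve_left (by simp [a1]))
    obtain ⟨K, _, _, hK, ⟨f⟩⟩ := h
    exact hK ▸ (H912.Bd.bd_pomega_odd_cube (F := F) hr h3 (charP_of_pow hr hK) hm).congr f _ (hf.pr r)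

end Cfsg.Agent.N2.Ex.Mu
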