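import Cfsg.Agent.N2.Ex.Mu.Num.Defs
import Cfsg.Agent.S0205
import Cfsg.Agent.S0144

/-!
# N2 (S3519), several components, the arithmetic: shared lemmas (helper59)
-/

set_option autoImplicit false
set_option linter.unusedSectionVars false

namespace Cfsg.Agent.N2.Ex.Mu

open Cfsg Cfsg.Agent.H902 Finset
open Cfsg.Agent.H290.ElReg (Fth)
open Cfsg.Agent.N2.Ex.Sm (Ch sh dimT)
open Cfsg.Agent.SB.Exc (dM)

/-! ### elements -/

section El

variable {q r n : ℕ} {N : Type} [Group N]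

theorem El.mono (h : El q N r n) {n' : ℕ} (hn : n' ∣ n) : El q N r n' := by
  obtain ⟨h1, h2, h3, k, h4, h5⟩ := h
  exact ⟨h1, h2, h3, k, h4, hn.trans h5⟩

theorem El.two (h : El q N r n) : El q N r 2 := by
  obtain ⟨h1, h2, h3, k, h4, -⟩ := h
  exact ⟨h1, h2, h3, k, h4, Nat.dvd_lcm_left _ _⟩

theorem El.dvd (h : El q N r n) : n ∣ r - 1 := by
  obtain ⟨h1, h2, h3, k, ⟨g, j, k1, k2, k3⟩, h5⟩ := h
  have := Fact.mk h1
  have hj : (j : ZMod r) ≠ 0 := fun h0 => by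
    rw [ZMod.natCast_eq_zero_iff, ← k1, orderOf_dvd_iff_pow_eq_one] at h0
    rw [h0, isConj_one_left] at k2
    rw [k2, orderOf_one] at k1
    exact h1.ne_one k1.symm
  refine h5.trans (Nat.lcm_dvd (h1.even_sub_one h2).two_dvd (Nat.lcm_dvd (k3.trans (ZMod.orderOf_dvd_card_sub_one hj))
    (ZMod.orderOf_dvd_card_sub_one fun h0 => h3 ((ZMod.natCast_eq_zero_iff _ _).1 h0))))

theorem El.lt (h : El q N r n) : n < r := by
  have h1 := h.1.two_le
  have := Nat.le_of_dvd (by omega) h.dvd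
  omega

theorem El.five (h : El q N r 4) : 5 ≤ r := h.lt

theorem El.seven (h : El q N r 6) : 7 ≤ r := h.lt

theorem El.dvd_card [Finite N] (h : El q N r n) : r ∣ Nat.card N := by
  obtain ⟨-, -, -, k, ⟨g, j, k1, -⟩, -⟩ := h
  exact k1 ▸ orderOf_dvd_natCard g

/-- the order of `q` alone -/
theorem El.of_dvd [Finite N] (hr : r.Prime) (h2 : r ≠ 2) (hq : ¬ r ∣ q) (h : r ∣ Nat.card N) :
    El q N r (Nat.lcm 2 (orderOf (q : ZMod r))) :=
  ⟨hr, h2, hq, 1, Ch.one hr h, by rw [Nat.lcm_one_left]⟩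

theorem El.of_ch (hr : r.Prime) (h2 : r ≠ 2) (hq : ¬ r ∣ q) {h : ℕ} (k : Ch N r h) : El q N r (Nat.lcm 2 h) :=
  ⟨hr, h2, hq, h, k, Nat.lcm_dvd (Nat.dvd_lcm_left _ _) ((Nat.dvd_lcm_left _ _).trans (Nat.dvd_lcm_right _ _))⟩

variable [Finite N]

/-- Burnside: a third prime -/
theorem exists_third (hs : IsSimpleGroup N) (hc : ¬ IsMulCommutative N) {a b : ℕ} (ha : a.Prime) (hb : b.Prime) :
    ∃ r, r.Prime ∧ r ≠ a ∧ r ≠ b ∧ r ∣ Nat.card N := by
  obtain ⟨i, n, h1, h2⟩ := Nat.exists_eq_pow_mul_and_not_dvd (Nat.card_pos (α := N)).ne' a ha.ne_one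
  have h0 : n ≠ 0 := fun h => h1 (h ▸ dvd_zero a)
  obtain ⟨j, k, h3, h4⟩ := Nat.exists_eq_pow_mul_and_not_dvd h0 b hb.ne_one
  obtain ⟨r, hr, h5⟩ := Nat.exists_prime_and_dvd (n := k) fun h =>
    hc ⟨⟨IsSimpleGroup.comm_iff_isSolvable.2 (S0144.result a b i j ha hb (by rw [h2, h4, h, mul_one]))⟩⟩
  have h6 : r ∣ n := h4 ▸ h5.mul_left _
  exact ⟨r, hr, fun h => h1 (h ▸ h6), fun h => h3 (h ▸ h5), h2 ▸ h6.mul_left _⟩

theorem exists_el (hs : IsSimpleGroup N) (hc : ¬ IsMulCommutative N) {p f : ℕ} (hp : p.Prime) : ∃ r, El (p ^ f) N r 2 := by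
  obtain ⟨r, h1, h2, h3, h4⟩ := exists_third hs hc Nat.prime_two hp
  exact ⟨r, (El.of_dvd h1 h2 (fun h => h3 ((Nat.prime_dvd_prime_iff_eq h1 hp).1 (h1.dvd_of_dvd_pow h))) h4).two⟩

theorem exists_el5 (hs : IsSimpleGroup N) (hc : ¬ IsMulCommutative N) {p f : ℕ} (hp : p = 2 ∨ p = 3) :
    ∃ r, 5 ≤ r ∧ El (p ^ f) N r 2 := by
  obtain ⟨r, h1, h2, h3, h4⟩ := exists_third hs hc Nat.prime_two Nat.prime_three
  refine ⟨r, h1.five_le_of_ne_two_of_ne_three h2 h3, (El.of_dvd h1 h2 (fun h => ?_) h4).two⟩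
  rcases hp with rfl | rfl
  · exact h2 ((Nat.prime_dvd_prime_iff_eq h1 Nat.prime_two).1 (h1.dvd_of_dvd_pow h))
  · exact h3 ((Nat.prime_dvd_prime_iff_eq h1 Nat.prime_three).1 (h1.dvd_of_dvd_pow h))

theorem card_le_aut (hs : IsSimpleGroup N) (hc : ¬ IsMulCommutative N) : Nat.card N ≤ Nat.card (MulAut N) :=
  Nat.card_le_card_of_injective _ (conj_inj hc)

/-- no faithful representation of degree two in odd characteristic -/
theorem three_le (hs : IsSimpleGroup N) (hc : ¬ IsMulCommutative N) {K : Type} [Field K] {p : ℕ} [CharP K p] (hp : p.Prime)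
    (h2 : p ≠ 2) {n : ℕ} (h : Fth n K N) : 3 ≤ n := by
  by_contra hn
  obtain ⟨ρ, hρ⟩ := h
  have h0 : Even (Nat.card N) := by
    by_contra h0
    exact hc ⟨⟨IsSimpleGroup.comm_iff_isSolvable.2 (S0205.result (Nat.not_even_iff_odd.1 h0))⟩⟩
  obtain ⟨x, hx⟩ := exists_prime_orderOf_dvd_card' (G := N) 2 h0.two_dvd
  have hK : (2 : K) ≠ 0 := fun e => h2 ((Nat.prime_dvd_prime_iff_eq hp Nat.prime_two).1 ((CharP.cast_eq_zero_iff K p 2).1 e))
  have hd : ∀ y, Matrix.GeneralLinearGroup.det (ρ y) = 1 := by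
    rcases (MonoidHom.normal_ker (Matrix.GeneralLinearGroup.det.comp ρ)).eq_bot_or_eq_top with k | k
    · exact absurd ⟨⟨fun a b => (MonoidHom.ker_eq_bot_iff _).1 k (by rw [map_mul, map_mul, mul_comm])⟩⟩ hc
    · exact fun y => k.ge (Subgroup.mem_top y)
  have hz : ∀ y, x * y = y * x := fun y => hρ (Units.ext (by
    rw [map_mul, map_mul, Units.val_mul, Units.val_mul]
    have e1 : (ρ x).val * (ρ x).val = 1 := by rw [← Units.val_mul, ← map_mul, ← pow_two, ← hx, pow_orderOf_eq_one, map_one, Units.val_one]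
    have e2 : (ρ x).val.det = 1 := congrArg Units.val (hd x)
    generalize (ρ x).val = A at e1 e2
    generalize (ρ y).val = B
    obtain rfl | rfl | rfl : n = 0 ∨ n = 1 ∨ n = 2 := by omega
    · exact Subsingleton.elim _ _
    · ext i j
      simp [Matrix.mul_apply, Subsingleton.elim i 0, Subsingleton.elim j 0, mul_comm]
    · rw [Matrix.det_fin_two] at e2
      have a1 := congrFun (congrFun e1 0) 0
      have a2 := congrFun (congrFun e1 0) 1
      have a3 := congrFun (congrFun e1 1) 0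
      have a4 := congrFun (congrFun e1 1) 1
      simp [Matrix.mul_apply, Fin.sum_univ_two] at a1 a2 a3 a4
      have t : A 0 0 + A 1 1 ≠ 0 := fun t => hK (by linear_combination (A 0 0) * t - a1 - e2)
      have b1 : A 0 1 = 0 := (mul_eq_zero.1 (show A 0 1 * (A 0 0 + A 1 1) = 0 by linear_combination a2)).resolve_right t
      have b2 : A 1 0 = 0 := (mul_eq_zero.1 (show A 1 0 * (A 0 0 + A 1 1) = 0 by linear_combination a3)).resolve_right t
      have b3 : A 1 1 = A 0 0 := sub_eq_zero.1 ((mul_eq_zero.1 (show (A 1 1 - A 0 0) * (A 0 0 + A 1 1) = 0 by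
        linear_combination a4 - a1)).resolve_right t)
      ext i j
      fin_cases i <;> fin_cases j <;> simp [Matrix.mul_apply, Fin.sum_univ_two, b1, b2, b3, mul_comm]))
  rcases (inferInstance : (Subgroup.center N).Normal).eq_bot_or_eq_top with k | k
  · have : x = 1 := Subgroup.mem_bot.1 (k ▸ Subgroup.mem_center_iff.2 fun y => (hz y).symm)
    rw [this, orderOf_one] at hx
    exact absurd hx (by norm_num)
  · exact hc ⟨⟨fun a b => Subgroup.mem_center_iff.1 (k.ge (Subgroup.mem_top b)) a⟩⟩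

end El

/-! ### the interface -/

theorem mu_le {ι : Type} [Fintype ι] [DecidableEq ι] (t : ι → ℕ) : mu t ∣ (Fintype.card ι).factorial := by
  rw [← card_univ, card_eq_sum_card_image t]
  exact Nat.prod_factorial_dvd_factorial_sum _ _

variable {ι : Type} [Fintype ι] [DecidableEq ι] {l : ℕ} {tw : Bool} {p f T : ℕ} {S : ι → Type} [∀ i, Group (S i)] {G : Prop}
  {κ : ℕ} {W : Finset ι → ℕ → ℕ → Prop} {E : ι → Prop} (X : Mx l tw p f T S G κ W E)
include X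

theorem Mx.hl : l = 4 ∨ l = 6 ∨ l = 7 ∨ l = 8 := by rcases X.b.typ with k | ⟨-, k | k | k⟩ <;> simp [k]

theorem Mx.dX_eq : N2C.RD.dX (sh l tw) = dimT l := by
  rcases X.hl with rfl | rfl | rfl | rfl <;> cases tw <;> rfl

theorem Mx.dd_le : Art.dd (sh l tw) (p ^ f) ≤ dM l := by
  rcases X.hl with rfl | rfl | rfl | rfl <;> cases tw <;>
    first | exact le_rfl | exact Nat.le_of_dvd (by decide) (Nat.gcd_dvd_left _ _)

theorem Mx.two_le : 2 ≤ p ^ f := X.b.real.hp.two_le.trans (Nat.le_self_pow (Nat.one_le_iff_ne_zero.1 X.b.real.hf) p)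

/-- `E₇` in characteristic two -/
theorem Mx.dd_seven (h : l = 7) (hp : p = 2) : Art.dd (sh l tw) (p ^ f) ≤ 1 := by
  subst h hp
  have h1 := X.two_le
  have h2 : 2 ∣ 2 ^ f := dvd_pow_self 2 (Nat.one_le_iff_ne_zero.1 X.b.real.hf)
  exact (Nat.Coprime.gcd_eq_one ((Nat.Prime.coprime_iff_not_dvd Nat.prime_two).2 (by omega))).le

theorem Mx.tlow : (p ^ f) ^ dimT l ≤ 2 * (Art.dd (sh l tw) (p ^ f) * T) := by
  rw [X.b.real.eq, ← X.dX_eq]
  exact N2C.RD.oX_ge X.two_le X.b.real.ok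

/-- **the final inequality** for `q ≥ q₀` -/
theorem Mx.fin₀ {q₀ : ℕ} (h0 : 0 < q₀) (hq : q₀ ≤ p ^ f) {I : Finset ι} {k o : ℕ} (w : W I k o) {C a b m d : ℕ}
    (hA : (∏ i, Nat.card (S i)) * κ ≤ C * (p ^ f) ^ a * (p ^ f + 1) ^ b) (hd : Art.dd (sh l tw) (p ^ f) ≤ d) (hd0 : 0 < d)
    (he : 3 * k + a + (3 * l + b) + m ≤ dimT l) (hc : 2 * d * C * (q₀ + 1) ^ (3 * l + b) ≤ q₀ ^ (3 * l + b + m)) : G := by
  refine X.a.win I k o w (Nat.le_of_mul_le_mul_left ?_ (show 0 < q₀ ^ (3 * l + b) * (2 * d) by positivity))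
  have h1 := X.tlow
  unfold cb
  generalize p ^ f = q at *
  have h2 : (q + 1) * q₀ ≤ (q₀ + 1) * q := by nlinarith
  calc _ ≤ q₀ ^ (3 * l + b) * (2 * d) * ((q ^ k * (q + 1) ^ l) ^ 3 * (C * q ^ a * (q + 1) ^ b)) := by gcongr
    _ = 2 * d * C * q ^ (3 * k + a) * ((q + 1) * q₀) ^ (3 * l + b) := by rw [mul_pow (q + 1) q₀]; ring
    _ ≤ 2 * d * C * q ^ (3 * k + a) * ((q₀ + 1) * q) ^ (3 * l + b) := by gcongr
    _ = 2 * d * C * (q₀ + 1) ^ (3 * l + b) * q ^ (3 * k + a + (3 * l + b)) := by rw [mul_pow (q₀ + 1) q]; ring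
    _ ≤ q₀ ^ (3 * l + b + m) * q ^ (3 * k + a + (3 * l + b)) := by gcongr
    _ = q₀ ^ (3 * l + b) * (q₀ ^ m * q ^ (3 * k + a + (3 * l + b))) := by ring
    _ ≤ q₀ ^ (3 * l + b) * (q ^ m * q ^ (3 * k + a + (3 * l + b))) := by gcongr
    _ ≤ q₀ ^ (3 * l + b) * q ^ dimT l := by
      rw [← pow_add]
      exact Nat.mul_le_mul_left _ (Nat.pow_le_pow_right (by omega) (by omega))
    _ ≤ q₀ ^ (3 * l + b) * (2 * (d * T)) := Nat.mul_le_mul_left _ (h1.trans (by gcongr))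
    _ = _ := by ring

/-- **the final inequality** for `q ≥ 32` -/
theorem Mx.fin (hq : 32 ≤ p ^ f) {I : Finset ι} {k o : ℕ} (w : W I k o) {C a b : ℕ} (m : ℕ)
    (hA : (∏ i, Nat.card (S i)) * κ ≤ C * (p ^ f) ^ a * (p ^ f + 1) ^ b)
    (he : 3 * k + a + (3 * l + b) + m ≤ dimT l) (hc : 2 * dM l * C * 33 ^ (3 * l + b) ≤ 32 ^ (3 * l + b + m)) : G :=
  X.fin₀ (by norm_num) hq w hA X.dd_le (by unfold dM; split_ifs <;> norm_num) he hc

/-- `|A| ≤ ∏ |Aut (S i)| * c !` -/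
theorem Mx.A_le : (∏ i, Nat.card (S i)) * κ ≤ (Fintype.card ι).factorial * ∏ i, Nat.card (MulAut (S i)) := by
  have h1 : 0 < ∏ i, Nat.card (MulAut (S i)) / Nat.card (S i) := prod_pos fun i _ =>
    have := X.b.fin i
    Nat.div_pos (card_le_aut (X.b.simple i) (X.b.nonab i)) Nat.card_pos
  have h2 := Nat.le_of_dvd (Nat.mul_pos h1 (Nat.factorial_pos _)) (X.a.kdv.trans (Nat.mul_dvd_mul_left _ (mu_le _)))
  refine (Nat.mul_le_mul_left _ h2).trans ?_
  rw [← mul_assoc, ← prod_mul_distrib, mul_comm]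
  exact Nat.mul_le_mul_left _ (prod_le_prod' fun i _ => Nat.mul_div_le _ _)

/-- the product bound in the form of `Mx.fin` -/
theorem Mx.A_sum {e : ι → ℕ} (h : ∀ i, Nat.card (MulAut (S i)) ≤ (p ^ f) ^ e i) {c a : ℕ} (hc : Fintype.card ι ≤ c)
    (ha : ∑ i, e i ≤ a) : (∏ i, Nat.card (S i)) * κ ≤ c.factorial * (p ^ f) ^ a * (p ^ f + 1) ^ 0 := by
  rw [pow_zero, mul_one]
  refine X.A_le.trans (Nat.mul_le_mul (Nat.factorial_le hc) ((prod_le_prod' fun i _ => h i).trans ?_))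
  rw [prod_pow_eq_pow_sum]
  exact Nat.pow_le_pow_right (by have := X.two_le; omega) ha

/-- the orbit bound in the form of `Mx.fin` -/
theorem Mx.A_orb {I : Finset ι} {k o : ℕ} (w : W I k o) {e : ι → ℕ} (h : ∀ i ∈ I, Nat.card (S i) ≤ (p ^ f) ^ e i) {c a : ℕ}
    (hc : Fintype.card ι ≤ c) (ha : ∑ i ∈ I, e i + k ≤ a) :
    (∏ i, Nat.card (S i)) * κ ≤ c ^ I.card * (p ^ f) ^ a * (p ^ f + 1) ^ l := by
  refine (X.a.orb I k o w).trans ?_
  rw [cb, ← mul_assoc, mul_assoc (c ^ I.card)]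
  rw [← mul_assoc (c ^ I.card)]
  refine Nat.mul_le_mul_right _ ?_
  calc _ ≤ (∏ i ∈ I, c * (p ^ f) ^ e i) * (p ^ f) ^ k := Nat.mul_le_mul_right _ (prod_le_prod' fun i hi =>
        Nat.mul_le_mul ((card_le_univ _).trans hc) (h i hi))
    _ = c ^ I.card * (p ^ f) ^ (∑ i ∈ I, e i + k) := by rw [prod_mul_distrib, prod_const, prod_pow_eq_pow_sum, pow_add, mul_assoc]
    _ ≤ _ := Nat.mul_le_mul_left _ (Nat.pow_le_pow_right (by have := X.two_le; omega) ha)

theorem Mx.A_orb1 {i : ι} {k o : ℕ} (w : W {i} k o) {e c a : ℕ} (h : Nat.card (S i) ≤ (p ^ f) ^ e) (hc : Fintype.card ι ≤ c)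
    (ha : e + k ≤ a) : (∏ i, Nat.card (S i)) * κ ≤ c * (p ^ f) ^ a * (p ^ f + 1) ^ l := by
  simpa using X.A_orb w (e := fun _ => e) (fun j hj => mem_singleton.1 hj ▸ h) hc (by simpa using ha)

theorem Mx.A_orb2 {i j : ι} (hij : i ≠ j) {k o : ℕ} (w : W {i, j} k o) {e e' c a : ℕ} (h : Nat.card (S i) ≤ (p ^ f) ^ e)
    (h' : Nat.card (S j) ≤ (p ^ f) ^ e') (hc : Fintype.card ι ≤ c) (ha : e + e' + k ≤ a) :
    (∏ i, Nat.card (S i)) * κ ≤ c ^ 2 * (p ^ f) ^ a * (p ^ f + 1) ^ l := by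
  have h1 := X.A_orb w (e := fun x => if x = i then e else e') (a := a) (fun x hx => by
    rcases mem_insert.1 hx with rfl | hx
    · simpa using h
    · rw [mem_singleton.1 hx, if_neg hij.symm]; exact h') hc (by rwa [sum_pair hij, if_pos rfl, if_neg hij.symm])
  rwa [card_pair hij] at h1

/-- a component outside `I` -/
theorem Mx.emb1 {I : Finset ι} {k o : ℕ} (w : W I k o) (ho : 0 < o) {j : ι} (hj : j ∉ I) : Nat.card (S j) ≤ cb l (p ^ f) k := by
  refine le_trans ?_ ((Nat.le_mul_of_pos_right _ ho).trans (X.a.emb I k o w))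
  exact single_le_prod' (f := fun i => Nat.card (S i)) (fun i _ => have := X.b.fin i; Nat.card_pos) (mem_compl.2 hj)

/-- the number of components in odd characteristic -/
theorem Mx.card_odd (hp : p ≠ 2) : Fintype.card ι ≤ col l 3 4 5 7 := by
  obtain ⟨K, _, _, -, h⟩ := X.b.deg
  have h1 := h (fun _ => 3) (fun _ => le_rfl) fun i n k =>
    have := X.b.fin i
    three_le (X.b.simple i) (X.b.nonab i) X.b.real.hp hp k
  rw [sum_const, offDiag_card, card_univ, smul_eq_mul] at h1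
  generalize Fintype.card ι = c at h1
  by_contra h2
  have h3 : ∀ a, a < c → (a + 1) * a * 9 ≤ 2 * dimT l := fun a ha => by
    refine le_trans (Nat.mul_le_mul_right _ ?_) h1
    rw [← Nat.mul_sub_one]
    exact Nat.mul_le_mul ha (by omega)
  have h4 := h3 _ (not_le.1 h2)
  rcases X.hl with rfl | rfl | rfl | rfl <;> exact absurd h4 (by decide)

theorem Mx.exists_el (i : ι) : ∃ r, El (p ^ f) (S i) r 2 :=
  have := X.b.fin i
  Mu.exists_el (X.b.simple i) (X.b.nonab i) X.b.real.hp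

theorem Mx.exists_el5 (hp : p = 2 ∨ p = 3) (i : ι) : ∃ r, 5 ≤ r ∧ El (p ^ f) (S i) r 2 :=
  have := X.b.fin i
  Mu.exists_el5 (X.b.simple i) (X.b.nonab i) hp

/-- the best element of every component, `p ≤ 3` -/
theorem Mx.best (hp : p = 2 ∨ p = 3) {c : ι → ℕ} (hc : ∀ i, Pf l (p ^ f) (S i) (c i)) : ∃ r n : ι → ℕ,
    (∀ i, 5 ≤ r i ∧ El (p ^ f) (S i) (r i) (n i)) ∧ ∀ i, n i = if c i = 1 then 2 else if c i = 6 ∨ c i = 7 then 6 else 4 := by
  have h : ∀ i, ∃ r, 5 ≤ r ∧ El (p ^ f) (S i) r (if c i = 1 then 2 else if c i = 6 ∨ c i = 7 then 6 else 4) := fun i => by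
    rcases (hc i).mem with k | k | k | k | k | k <;> rw [k]
    · exact X.exists_el5 hp i
    · exact ((hc i).four (.inl k)).imp fun r h => ⟨h.five, h⟩
    · exact ((hc i).four (.inr k)).imp fun r h => ⟨h.five, h⟩
    · exact ((hc i).six k).imp fun r h => ⟨le_trans (by norm_num) h.seven, h⟩
    · obtain ⟨r, -, -, h, -⟩ := (hc i).six2 k
      exact ⟨r, le_trans (by norm_num) h.seven, h⟩
    · obtain ⟨r, -, -, h, -⟩ := (hc i).both k
      exact ⟨r, h.five, h⟩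
  choose r hr using h
  exact ⟨r, _, hr, fun _ => rfl⟩

/-- the weights: `a` members of `J` have a class `≠ 1`, `b` members have the class `1` -/
theorem Mx.weights (hp : p = 2 ∨ p = 3) {c : ι → ℕ} (hc : ∀ i, Pf l (p ^ f) (S i) (c i)) (j₀ : ι) :
    2 * #{i ∈ univ.erase j₀ | c i ≠ 1} + #{i ∈ univ.erase j₀ | c i = 1} ≤
      if l = 6 ∧ (c j₀ = 4 ∨ c j₀ = 5 ∨ c j₀ = 8) then 3 else if l = 8 then 8 else l - if c j₀ = 1 then 1 else 2 := by
  obtain ⟨r, n, h1, h2⟩ := X.best hp hc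
  obtain ⟨ρ, e, h3, -⟩ := X.c.c1 univ j₀ r n (mem_univ _) fun j _ => h1 j
  have h4 : ∑ j ∈ univ.erase j₀, (n j).totient = 2 * #{i ∈ univ.erase j₀ | c i ≠ 1} + #{i ∈ univ.erase j₀ | c i = 1} := by
    rw [card_filter, card_filter, mul_sum, ← sum_add_distrib]
    refine sum_congr rfl fun j _ => ?_
    rw [h2]
    split_ifs with a b <;> first | rfl | omega
  refine h4.symm.le.trans ((Nat.le_add_left _ ρ).trans (le_trans h3 ?_))
  rw [rk1, h2]
  rcases (hc j₀).mem with k | k | k | k | k | k <;> rw [k] <;> rcases X.hl with rfl | rfl | rfl | rfl <;>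
    by_cases h5 : r j₀ = 5 <;> simp [h5] <;> decide

/-- the number of components, `p ≤ 3` -/
theorem Mx.card_le (hp : p = 2 ∨ p = 3) : Fintype.card ι ≤ col l 4 6 7 9 := by
  choose r h using X.exists_el5 hp
  have := X.b.two
  obtain ⟨j₀⟩ : Nonempty ι := inferInstance
  obtain ⟨ρ, e, h3, -⟩ := X.c.c1 univ j₀ r (fun _ => 2) (mem_univ _) fun j _ => h j
  rw [Rc, sum_const, card_erase_of_mem (mem_univ _), card_univ, rk1] at h3
  rcases X.hl with rfl | rfl | rfl | rfl <;> simp [col] at h3 ⊢ <;> (try split_ifs at h3) <;> omega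

end Cfsg.Agent.N2.Ex.Mu
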