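import Cfsg.Agent.N2.Ex.Mu.Num.SRec
import Cfsg.Agent.N2.Ex.Mu.Num.Base
import Cfsg.Agent.N2.Ex.Sim.DfEng
import Cfsg.Agent.TH.Ex.Dg.BoxL

/-!
# N2 (S3519), several components, `q < 32`: every component has a record (helper69)
-/

set_option autoImplicit false
set_option maxRecDepth 100000
set_option linter.unusedSectionVars false

namespace Cfsg.Agent.N2.Ex.Mu.Sd

open Cfsg Cfsg.Agent.H902 Cfsg.Agent.H902.Names Cfsg.Agent.OrdDiv
open Cfsg.Agent.H290.ElReg (Fth)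
open Cfsg.Agent.N2C.RD (PdX oX gX Nd)
open Cfsg.Agent.N2C.RX (frc frc_eq allR allR_sound mf mf_eq ordm ordm_eq nbeq)
open Cfsg.Agent.N2.Ex.Sm (NB Nm hh Ch dimT)
open Cfsg.Agent.N2.Ex.Sm.Df (pdB pdB_sound)

/-! ### the check -/

def PL : List ℕ := [3, 5, 7, 11, 13, 17, 19, 29, 31, 37, 41, 43, 53, 61, 67, 73, 79, 127, 157, 181, 241, 257, 271, 307, 313, 331,
  421, 601, 757]

theorem PL_prime : ∀ r ∈ PL, r.Prime ∧ r ≠ 2 := by
  simp only [PL, List.forall_mem_cons]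
  norm_num

/-- `n` is a value for the prime `r` -/
def val (q t : ℕ) (h : ℕ → ℕ) (r : ℕ) (f : ℕ → Bool) : Bool :=
  Nat.beq (t % r) 0 && Nat.beq ((q ^ 12) % r) 1 && frc (ordm q r) fun o => !Nat.beq o 0 && frc (Nat.lcm 2 (Nat.lcm (h r) o)) f

/-- a big automizer or a record -/
def ok1 (L : List Rec) (q M P t ou R : ℕ) (h : ℕ → ℕ) : Bool :=
  (frc (t / Nat.gcd t P) fun s => !Nat.beq s 1 && Nat.beq (Nat.gcd s M) 1) ||
    (PL.any fun r => val q t h r fun n => decide (Big n)) ||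
    L.any fun x => Nat.beq x.t t && Nat.beq x.ou ou && Nat.blt 0 ou && Nat.ble x.R R &&
      x.el.all fun y => PL.any fun r => Nat.beq r y.1 && val q t h r fun n => Nat.beq (n % y.2) 0

/-- the automizer in the defining characteristic -/
def hD (X : Art.Sh) (h : ℕ → ℕ) (s r : ℕ) : ℕ := frc (ordm s r) fun i => bif Nat.ble 5 r && !Nat.beq i 0 && pdB X i then h i else 1

def ck (L : List Rec) (p f q M P : ℕ) (X : Art.Sh) (h : ℕ → ℕ) (od : Bool) : Bool :=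
  allR (fun a => Nat.blt (6 * f) (a * Art.DM X) || !decide (Art.Ok X p a) || (od && Nat.beq p 2) ||
    frc (p ^ a) fun s => frc (Art.dd X s) fun d => frc (oX X s / d) fun t =>
      ok1 L q M P t (gX X p * a * d) (bif Nat.beq p 2 then 0 else 3) (hD X h s)) 12 1

def ckD (c : Art.Sh → (ℕ → ℕ) → Bool → Bool) : Bool :=
  allR (fun m => c (.L m) (hh (.psl m 0)) false && c (.C m) (hh (.psp m 0)) false && c (.C m) (hh (.oodd m 0)) true &&
    c (.U m) (hh (.psu m 0)) false && c (.D m) (hh (.oplus m 0)) false && c (.DD m) (hh (.ominus m 0)) false) 23 2 &&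
  c .G2 (hh (.g2 0)) false && c .F4 (hh (.f4 0)) false && c .E6 (hh (.e6 0)) false && c .E7 (hh (.e7 0)) false &&
  c .E8 (hh (.e8 0)) false && c .TE6 (hh (.te6 0)) false && c .TD4 (hh (.td4 0)) false && c .Sz (hh (.sz 0)) false &&
  c .Ree (hh (.ree 0)) false && c .TF4 (hh (.tf4 0)) false

def run (p f : ℕ) : Bool := frc (p ^ f) fun q => frc (2 * p * ((q ^ 4 - 1) * (q ^ 6 - 1))) fun M => frc (M ^ 300) fun P =>
  ckD (fun X h od => (od && decide (X = .C 2)) || ck (LQ q) p f q M P X h od) &&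
    TH.Ex.Mu.tab.all fun x => Nat.beq (x.ex % p) 0 || (!Nat.beq x.on 0 && !Nat.beq x.on p) ||
      ok1 (LQ q) q M P x.t x.ou x.R fun _ => 1

theorem runs : allR (fun p => !Nat.beq (mf p) p || allR (fun f => Nat.ble 32 (p ^ f) || run p f) 4 1) 30 2 = true := by
  decide +kernel

/-! ### soundness -/

section sound

variable {p f : ℕ} {N : Type} [Group N] [Finite N]

theorem val_el {q t r : ℕ} {h : ℕ → ℕ} {c : ℕ → Bool} (hr : r ∈ PL)
    (hh : ∀ r, r.Prime → ¬ r ∣ q → r ∣ t → Ch N r (h r)) (hv : val q t h r c = true) : ∃ n, El q N r n ∧ c n = true := by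
  simp only [val, frc_eq, Bool.and_eq_true, Nat.beq_eq, nbeq] at hv
  obtain ⟨⟨h1, h2⟩, h0, h3⟩ := hv
  obtain ⟨a1, a2⟩ := PL_prime r hr
  have := Fact.mk a1
  have a3 : ¬ r ∣ q := fun k => by
    rw [Nat.mod_eq_zero_of_dvd (k.trans (dvd_pow_self q (by norm_num)))] at h2
    omega
  exact ⟨_, ⟨a1, a2, a3, _, hh r a1 a3 (Nat.dvd_of_mod_eq_zero h1), by rw [ordm_eq h0]⟩, h3⟩

theorem ord_dvd {q r n : ℕ} (hB : NoBig q N) (h : El q N r n) : n ∣ 4 ∨ n ∣ 6 := by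
  by_contra k
  exact hB r n h (not_or.1 k)

theorem ok1_sound (hp : p.Prime) (hB : NoBig (p ^ f) N) {L : List Rec} {P t ou R : ℕ} {h : ℕ → ℕ} (ht : Nat.card N = t)
    (ha : Nat.card (MulAut N) ∣ ou * t) (hd : ∀ (K : Type) [Field K] [CharP K p] (n : ℕ), Fth n K N → R ≤ n)
    (hh : ∀ r, r.Prime → ¬ r ∣ p ^ f → r ∣ t → Ch N r (h r))
    (hc : ok1 L (p ^ f) (2 * p * (((p ^ f) ^ 4 - 1) * ((p ^ f) ^ 6 - 1))) P t ou R h = true) : ∃ x ∈ L, Ok p f N x := by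
  simp only [ok1, frc_eq, Bool.or_eq_true, Bool.and_eq_true, Nat.beq_eq, nbeq, List.any_eq_true, List.all_eq_true, Nat.blt_eq,
    Nat.ble_eq] at hc
  rcases hc with (⟨h1, h2⟩ | ⟨r, h1, h2⟩) | ⟨x, h1, ⟨⟨⟨h2, h3⟩, h4⟩, h5⟩, h6⟩
  · obtain ⟨r, hr, a1⟩ := Nat.exists_prime_and_dvd h1
    have a2 : ¬ r ∣ 2 * p * (((p ^ f) ^ 4 - 1) * ((p ^ f) ^ 6 - 1)) := fun k => hr.one_lt.ne' (Nat.dvd_one.1 (h2 ▸ Nat.dvd_gcd a1 k))
    have a3 := ord_dvd hB (El.of_dvd hr (fun k => a2 (((k ▸ dvd_rfl : r ∣ 2).mul_right _).mul_right _))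
      (fun k => a2 (((hr.dvd_of_dvd_pow k).mul_left _).mul_right _))
      (ht ▸ a1.trans (Nat.div_dvd_of_dvd (Nat.gcd_dvd_left _ _))))
    have a4 := fun j => (Sm.dvd_sub_iff (r := r) (Nat.one_le_pow f p hp.pos) rfl j).2
    exact absurd (a3.elim (fun k => ((a4 4 ((Nat.dvd_lcm_right _ _).trans k)).mul_right _).mul_left _)
      fun k => ((a4 6 ((Nat.dvd_lcm_right _ _).trans k)).mul_left _).mul_left _) a2
  · obtain ⟨n, a1, a2⟩ := val_el h1 hh h2
    exact absurd (of_decide_eq_true a2) (hB r n a1)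
  · refine ⟨x, h1, h2 ▸ ht, h2 ▸ h3 ▸ ha, h3 ▸ h4, fun K _ _ n k => h5.trans (hd K n k), fun y hy => ?_⟩
    obtain ⟨r, a1, a2, a3⟩ := h6 y hy
    obtain ⟨n, a4, a5⟩ := val_el a1 hh a3
    exact a2 ▸ a4.mono (Nat.dvd_of_mod_eq_zero (Nat.beq_eq.mp a5))

theorem pd_DM {X : Art.Sh} {a : ℕ} (h : Art.Ok X p a) : PdX X (Art.DM X) ∧ 2 ≤ Art.DM X := by
  cases X
  case L m => have := h.1; exact ⟨⟨by simp only [Art.DM]; omega, le_rfl, by simp only [Art.DM]; omega⟩, this⟩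
  case C m => have := h.1; simp only [Art.DM, PdX]; omega
  case U m => have := h.1; simp only [Art.DM, PdX, Nat.even_iff]; split_ifs <;> omega
  case D m => have : 4 ≤ m := h; simp only [Art.DM, PdX]; omega
  case DD m => have : 4 ≤ m := h; simp only [Art.DM, PdX]; omega
  all_goals simp [Art.DM, PdX]

theorem bound {X : Art.Sh} {a : ℕ} (D : Nd X p a N) (hf : 0 < f) (hB : NoBig (p ^ f) N) : a * Art.DM X ≤ 6 * f := by
  by_contra k
  obtain ⟨r, hr, ho, -, h5, h1, h2, -⟩ := D.ppd (pd_DM D.real.ok).1 (by omega) (by omega)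
  have h3 := ord_dvd hB (El.of_dvd hr (by omega) (fun k => h1 ((Nat.prime_dvd_prime_iff_eq hr D.real.hp).1 (hr.dvd_of_dvd_pow k))) h2)
  rw [N2C.RD.ord_pow ho hf.ne'] at h3
  have h4 : a * Art.DM X / Nat.gcd (a * Art.DM X) f ≤ 6 := h3.elim
    (fun k => (Nat.le_of_dvd four_pos ((Nat.dvd_lcm_right _ _).trans k)).trans (by norm_num))
    fun k => Nat.le_of_dvd (by norm_num) ((Nat.dvd_lcm_right _ _).trans k)
  exact k ((Nat.div_mul_cancel (Nat.gcd_dvd_left _ f)).symm.le.trans (Nat.mul_le_mul h4 (Nat.gcd_le_right _ hf)))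

variable [IsSimpleGroup N]

theorem ck_sound (B : NB) (hn : ¬ IsMulCommutative N) {g : Grp} {X : Art.Sh} {a : ℕ} (k : Nm N g X p a) (hf : 0 < f) (h4 : f ≤ 4)
    (hB : NoBig (p ^ f) N) {L : List Rec} {P : ℕ} {od : Bool} (ho : od = true → p ≠ 2)
    (hc : ck L p f (p ^ f) (2 * p * (((p ^ f) ^ 4 - 1) * ((p ^ f) ^ 6 - 1))) P X (hh g) od = true) : ∃ x ∈ L, Ok p f N x := by
  have D := k.nd hn
  have hp := D.real.hp
  have h1 := bound D hf hB
  have h2 := Nat.mul_le_mul_left a (pd_DM D.real.ok).2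
  have h3 := allR_sound hc (i := a) D.real.hf (by omega)
  simp only [frc_eq, Bool.or_eq_true, Bool.and_eq_true, Nat.blt_eq, Nat.beq_eq, Bool.not_eq_true', decide_eq_false_iff_not] at h3
  rcases h3 with ((h3 | h3) | h3) | h3
  · omega
  · exact absurd D.real.ok h3
  · exact absurd h3.2 (ho h3.1)
  have h5 : Nat.card N = oX X (p ^ a) / Art.dd X (p ^ a) := by rw [← D.card, Nat.mul_div_cancel_left _ D.dd_pos]
  refine ok1_sound hp hB h5 (by rw [← h5, D.aut']) (fun K _ _ n hK => ?_) (fun r hr a1 a2 => ?_) h3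
  · by_cases a1 : p = 2
    · simp [a1]
    · rw [(Bool.not_eq_true _).mp (mt Nat.beq_eq.mp a1)]
      exact three_le ‹_› hn hp a1 hK
  · have := Fact.mk hr
    rw [hD, frc_eq]
    cases a3 : (Nat.ble 5 r && !Nat.beq (ordm (p ^ a) r) 0 && pdB X (ordm (p ^ a) r))
    · exact Ch.one hr (h5 ▸ a2)
    · simp only [Bool.and_eq_true, Nat.ble_eq, nbeq] at a3
      have a4 := ordm_eq a3.1.2
      rw [cond_true, ← a4]
      exact (B.cj k.lie X p a N k).1 r a hr a3.1.1 (fun e => a1 (e ▸ dvd_pow_self p hf.ne')) dvd_rfl (Or.inl rfl)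
        (a4 ▸ pdB_sound a3.2)

theorem ckD_sound {c : Art.Sh → (ℕ → ℕ) → Bool → Bool} (hc : ckD c = true) {g : Grp} {X : Art.Sh} {a : ℕ} (k : IsLie g X p a)
    (ok : Art.Ok X p a) (ha : 0 < a) (h : Art.DM X ≤ 24) : ∃ od, (od = true → p ≠ 2 ∧ X ≠ .C 2) ∧ c X (hh g) od = true := by
  simp only [ckD, Bool.and_eq_true] at hc
  obtain ⟨⟨⟨⟨⟨⟨⟨⟨⟨⟨x0, x1⟩, x2⟩, x3⟩, x4⟩, x5⟩, x6⟩, x7⟩, x8⟩, x9⟩, x10⟩ := hc
  have e : false = true → p ≠ 2 ∧ X ≠ .C 2 := fun k => absurd k Bool.false_ne_true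
  have y := fun m (a : 2 ≤ m) (b : m < 2 + 23) => allR_sound x0 a b
  simp only [Bool.and_eq_true] at y
  cases k with
  | psl m => exact ⟨_, e, (y m ok.1 (by simp only [Art.DM] at h; omega)).1.1.1.1.1⟩
  | psp m => exact ⟨_, e, (y m ok.1 (by simp only [Art.DM] at h; omega)).1.1.1.1.2⟩
  | oodd m _ _ h2 ho =>
    refine ⟨true, fun _ => ⟨fun e => ?_, fun e => ?_⟩, (y m ok.1 (by simp only [Art.DM] at h; omega)).1.1.1.2⟩
    · subst e
      exact Nat.not_odd_iff_even.2 (even_two.pow_of_ne_zero ha.ne') ho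
    · cases e
      omega
  | psu m => exact ⟨_, e, (y m (le_trans (by norm_num) ok.1) (by simp only [Art.DM] at h; split_ifs at h <;> omega)).1.1.2⟩
  | oplus m => exact ⟨_, e, (y m (le_trans (by norm_num) (show 4 ≤ m from ok)) (by simp only [Art.DM] at h; omega)).1.2⟩
  | ominus m => exact ⟨_, e, (y m (le_trans (by norm_num) (show 4 ≤ m from ok)) (by simp only [Art.DM] at h; omega)).2⟩
  | g2 => exact ⟨_, e, x1⟩
  | f4 => exact ⟨_, e, x2⟩
  | e6 => exact ⟨_, e, x3⟩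
  | e7 => exact ⟨_, e, x4⟩
  | e8 => exact ⟨_, e, x5⟩
  | te6 => exact ⟨_, e, x6⟩
  | td4 => exact ⟨_, e, x7⟩
  | sz => exact ⟨_, e, x8⟩
  | ree => exact ⟨_, e, x9⟩
  | tf4 => exact ⟨_, e, x10⟩

end sound

/-- **[Cand]** -/
theorem boxCand_of (B : NB) : BoxCand := by
  intro cf l tw p f T ι _ _ S _ b hq i hB
  have := b.fin i
  have := b.simple i
  have hp := b.real.hp
  have hf : 0 < f := b.real.hf
  have hn := b.nonab i
  have h4 : f ≤ 4 := by
    by_contra k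
    have := (Nat.pow_le_pow_right two_pos (show 5 ≤ f by omega)).trans (Nat.pow_le_pow_left hp.two_le f)
    omega
  have h1 := allR_sound runs (i := p) hp.two_le (by have := Nat.le_self_pow hf.ne' p; omega)
  have h2 : mf p = p := by simpa only [pow_one] using mf_eq hp one_pos
  rw [Bool.or_eq_true, nbeq] at h1
  have h3 := allR_sound (h1.resolve_left fun k => k h2) (i := f) hf (by omega)
  rw [Bool.or_eq_true, Nat.ble_eq] at h3
  have h5 := h3.resolve_left (by omega)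
  simp only [run, frc_eq, Bool.and_eq_true] at h5
  by_cases hl : IsLieTypeChar p (S i)
  · obtain ⟨g, X, a, k1, k2, k3⟩ := H364.LieNam.lie_nam OrdDiv.table hp hl
    have k : Nm (S i) g X p a := ⟨k1, k2, k3⟩
    have a1 := bound (k.nd hn) hf hB
    have a2 : Art.DM X ≤ a * Art.DM X := Nat.le_mul_of_pos_left _ k3.hf
    obtain ⟨od, a3, a4⟩ := ckD_sound h5.1 k1 k3.ok k3.hf (by omega)
    rw [Bool.or_eq_true, Bool.and_eq_true, decide_eq_true_eq] at a4
    exact ck_sound B hn k hf h4 hB (fun e => (a3 e).1) (a4.resolve_left fun e => (a3 e.1).2 e.2)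
  · obtain ⟨K, _, _, a1, -⟩ := b.deg
    obtain ⟨n, a2, a3⟩ := a1 i
    obtain ⟨x, hx, I⟩ := TH.Ex.Dg.boxDeg cf p n K (S i) hp (by unfold dimT at a2; split_ifs at a2 <;> omega) hn a3 hl fun c e =>
      (b.alt i c e).trans (by cases Sm.sh l tw <;> exact Nat.le_of_ble_eq_true rfl)
    have a4 := List.all_eq_true.1 h5.2 x hx
    simp only [Bool.or_eq_true, Bool.and_eq_true, nbeq, Nat.beq_eq] at a4
    rcases a4 with (a4 | a4) | a4
    · exact absurd (Nat.dvd_of_mod_eq_zero a4) I.ex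
    · exact (I.on.elim a4.1 a4.2).elim
    · exact ok1_sound hp hB I.card I.aut I.deg (fun r hr _ a5 => Ch.one hr (I.card ▸ a5)) a4

end Cfsg.Agent.N2.Ex.Mu.Sd
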