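import Cfsg.Agent.N2.Ex.Mu.Num.SCv
import Cfsg.Agent.N2.Ex.Mu.Num.SDat
import Cfsg.Agent.N2.Ex.Mu.Num.E9

/-!
# N2 (S3519), several components, `q < 32`: the data for the search (helper69)
-/

set_option autoImplicit false

namespace Cfsg.Agent.N2.Ex.Mu.Sq

open Cfsg

/-- **[Cand]** -/
theorem boxCand (B : Sm.NB) : BoxCand cand := by
  intro cf l tw p f T ι _ _ S _ G κ W E X h1 h2 i
  obtain ⟨x, hx, h⟩ := Sd.boxCand_of B cf l tw p f T ι S X.b h1 i (h2 i)
  have := X.b.fin i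
  refine ⟨cv x, List.mem_map_of_mem hx, h.card, h.aut, h.pos, fun e he => h.el e (List.mem_reverse.1 he), fun k => ?_⟩
  refine E69.e9_of (X.b.simple i) (X.b.nonab i) ?_
  simpa only [cv, Bool.or_eq_true, Nat.beq_eq, or_assoc, h.card] using k

end Cfsg.Agent.N2.Ex.Mu.Sq
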