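import Cfsg.Agent.N2.Ex.Mu.Num.Defs
import Cfsg.Agent.N2.Ex.Sim.DfDefs

/-!
# N2 (S3519), several components, the data in the defining characteristic: all shapes but `L`, `U` (helper82)
-/

set_option autoImplicit false
set_option linter.unusedSectionVars false

namespace Cfsg.Agent.N2.Ex.Mu

open Cfsg Cfsg.Agent.H902 Cfsg.Agent.H902.Names Cfsg.Agent.OrdDiv
open Cfsg.Agent.N2.Ex.Sm (NB Nm Ch hh)
open Cfsg.Agent.N2C.RD (PdX dX gX Nd)

/-- the data for the shape `X` -/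
def DdX (X : Art.Sh) : Prop := NB → ∀ (l p f b : ℕ) (N : Type) [Group N] [Finite N] [IsSimpleGroup N] (g : Grp),
  (l = 4 ∨ l = 6 ∨ l = 7 ∨ l = 8) → 0 < f → 32 ≤ p ^ f → ¬ IsMulCommutative N → NoBig (p ^ f) N → Nm N g X p b →
  ∃ c, Pf l (p ^ f) N c

namespace Dd2

theorem six_mul_le {p f : ℕ} (hp : 2 ≤ p) (h : 32 ≤ p ^ f) : 6 * f ≤ p ^ f := by
  rcases le_or_gt f 5 with h1 | h1
  · omega
  · refine le_trans ?_ (Nat.pow_le_pow_left hp f)
    obtain ⟨k, rfl⟩ := Nat.exists_eq_add_of_le' (show 6 ≤ f from h1)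
    clear h h1
    induction k with
    | zero => norm_num
    | succ k ih =>
      rw [show k + 1 + 6 = k + 6 + 1 by omega, pow_succ]
      omega

theorem three_sq (s : ℕ) : 3 ∣ s ∨ 3 ∣ s ^ 2 - 1 := by
  obtain ⟨k, h | h | h⟩ : ∃ k, s = 3 * k ∨ s = 3 * k + 1 ∨ s = 3 * k + 2 := ⟨s / 3, by omega⟩
  · exact .inl ⟨k, h⟩
  · exact .inr ⟨3 * k ^ 2 + 2 * k, by rw [h]; exact Nat.sub_eq_of_eq_add (by ring)⟩
  · exact .inr ⟨3 * k ^ 2 + 4 * k + 1, by rw [h]; exact Nat.sub_eq_of_eq_add (by ring)⟩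

theorem El.mono {q r n n' : ℕ} {N : Type} [Group N] (h : El q N r n) (hn : n' ∣ n) : El q N r n' :=
  let ⟨h1, h2, h3, k, h4, h5⟩ := h
  ⟨h1, h2, h3, k, h4, hn.trans h5⟩

/-- the situation -/
structure St (p f b : ℕ) (N : Type) [Group N] (X : Art.Sh) (h : ℕ → ℕ) : Prop where
  hf : 0 < f
  big : 32 ≤ p ^ f
  nb : NoBig (p ^ f) N
  D : Nd X p b N
  cj : ∀ r : ℕ, r.Prime → 5 ≤ r → r ≠ p → PdX X (orderOf ((p ^ b : ℕ) : ZMod r)) → Ch N r (h (orderOf ((p ^ b : ℕ) : ZMod r)))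

variable {l p f b : ℕ} {N : Type} [Group N] {X : Art.Sh} {h : ℕ → ℕ}

namespace St

variable (S : St p f b N X h)
include S

/-- a primitive prime -/
theorem el {i : ℕ} (h1 : PdX X i) (h3 : 3 ≤ i) (h6 : ¬ (p = 2 ∧ b * i = 6)) :
    ∃ r m, orderOf ((p ^ b : ℕ) : ZMod r) = i ∧ b * i ∣ f * m ∧ El (p ^ f) N r (Nat.lcm 2 (Nat.lcm (h i) m)) ∧
      (Nat.lcm 2 (Nat.lcm (h i) m) ∣ 4 ∨ Nat.lcm 2 (Nat.lcm (h i) m) ∣ 6) := by
  have h0 : 0 < b := S.D.real.hf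
  obtain ⟨r, hr, ho, -, h5, hp, -⟩ := S.D.ppd h1 (h3.trans (Nat.le_mul_of_pos_left _ h0)) h6
  have e : orderOf ((p ^ b : ℕ) : ZMod r) = i := by
    rw [N2C.RD.ord_pow ho h0.ne', Nat.gcd_mul_right_left, Nat.mul_div_cancel_left _ h0]
  have k : El (p ^ f) N r (Nat.lcm 2 (Nat.lcm (h i) (orderOf ((p ^ f : ℕ) : ZMod r)))) :=
    ⟨hr, by omega, fun k => hp ((Nat.prime_dvd_prime_iff_eq hr S.D.real.hp).1 (hr.dvd_of_dvd_pow k)), h i,
      e ▸ S.cj r hr h5 hp (e ▸ h1), dvd_rfl⟩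
  refine ⟨r, _, e, ?_, k, by_contra fun k' => S.nb r _ k (not_or.1 k')⟩
  rw [← ho, orderOf_dvd_iff_pow_eq_one, pow_mul, ← Nat.cast_pow, pow_orderOf_eq_one]

theorem no {i n : ℕ} (h1 : PdX X i) (h3 : 3 ≤ i) (h6 : ¬ i ∣ 6) (h2 : n ∣ h i) (h4 : Big n) : False := by
  obtain ⟨r, m, -, -, k, -⟩ := S.el h1 h3 fun k => h6 (Dvd.intro_left b k.2)
  exact S.nb r n (El.mono k (h2.trans ((Nat.dvd_lcm_left _ _).trans (Nat.dvd_lcm_right _ _)))) h4

theorem four {i : ℕ} (h1 : PdX X i) (h3 : 4 ∣ i) (h0 : 0 < i) (h2 : 4 ∣ h i) :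
    ∃ r, 4 ∣ orderOf ((p ^ b : ℕ) : ZMod r) ∧ b * i ≤ f * 4 ∧ El (p ^ f) N r 4 := by
  obtain ⟨r, m, k1, k2, k3, k4⟩ := S.el h1 (by have := Nat.le_of_dvd h0 h3; omega) fun k => by
    have := h3.trans (Dvd.intro_left b k.2)
    omega
  have k5 := h2.trans ((Nat.dvd_lcm_left _ m).trans (Nat.dvd_lcm_right 2 _))
  have k6 := (Nat.dvd_lcm_right _ m).trans ((Nat.dvd_lcm_right 2 _).trans
    (k4.resolve_right fun k => absurd (k5.trans k) (by norm_num)))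
  exact ⟨r, k1 ▸ h3, Nat.le_of_dvd (Nat.mul_pos S.hf four_pos) (k2.trans (Nat.mul_dvd_mul_left f k6)), El.mono k3 k5⟩

theorem six {i : ℕ} (h1 : PdX X i) (h3 : 3 ≤ i) (h6 : ¬ (p = 2 ∧ b * i = 6)) (h2 : 3 ∣ h i) :
    ∃ r, orderOf ((p ^ b : ℕ) : ZMod r) = i ∧ b * i ≤ f * 6 ∧ El (p ^ f) N r 6 := by
  obtain ⟨r, m, k1, k2, k3, k4⟩ := S.el h1 h3 h6
  have k5 := h2.trans ((Nat.dvd_lcm_left _ m).trans (Nat.dvd_lcm_right 2 _))
  have k6 := (Nat.dvd_lcm_right _ m).trans ((Nat.dvd_lcm_right 2 _).trans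
    (k4.resolve_left fun k => absurd (k5.trans k) (by norm_num)))
  exact ⟨r, k1, Nat.le_of_dvd (Nat.mul_pos S.hf (by norm_num)) (k2.trans (Nat.mul_dvd_mul_left f k6)),
    El.mono k3 (Nat.Coprime.mul_dvd_of_dvd_of_dvd (m := 2) (n := 3) rfl (Nat.dvd_lcm_left _ _) k5)⟩

theorem size {e : ℕ} (h1 : b ≤ f) (h2 : b * dX X ≤ f * e) :
    Nat.card (MulAut N) ≤ (p ^ f) ^ (e + 1) ∧ Nat.card N ≤ (p ^ f) ^ e := by
  have hp := S.D.real.hp.two_le
  have h3 : (p ^ b) ^ dX X ≤ (p ^ f) ^ e := by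
    rw [← pow_mul, ← pow_mul]
    exact Nat.pow_le_pow_right (by omega) h2
  refine ⟨S.D.aut_le.trans ?_, S.D.card_le.trans h3⟩
  rw [pow_succ']
  exact Nat.mul_le_mul ((Nat.mul_le_mul (Nat.le_of_dvd (by norm_num) (N2C.RD.Au.gX_cases X p)) h1).trans
    (six_mul_le hp S.big)) h3

theorem three (h1 : Art.dd X (p ^ b) ∣ 4) (h2 : Art.NN X ≠ 0) (h3 : (p ^ b) ^ 2 - 1 ∣ Art.num X (p ^ b) ∨ p = 3) :
    3 ∣ Nat.card N := by
  refine Nat.Coprime.dvd_of_dvd_mul_left (Nat.Coprime.coprime_dvd_right h1 (by norm_num)) ?_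
  rw [S.D.real.eq]
  rcases three_sq (p ^ b) with k | k
  · exact (k.trans (dvd_pow_self _ h2)).mul_right _
  · rcases h3 with h3 | rfl
    · exact (k.trans h3).mul_left _
    · exact ((dvd_pow_self 3 (Nat.one_le_iff_ne_zero.1 S.D.real.hf)).trans (dvd_pow_self _ h2)).mul_right _

theorem c4 (h3 : 3 ∣ Nat.card N) (h1 : b ≤ f) (h2 : b * dX X ≤ f * 10) {r : ℕ} (k : El (p ^ f) N r 4) :
    ∃ c, Pf l (p ^ f) N c :=
  ⟨4, by simp, (S.size h1 h2).1, (S.size h1 h2).2, fun _ => h3, fun _ => ⟨r, k⟩, nofun, nofun, nofun⟩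

theorem c6 (h3 : 3 ∣ Nat.card N) (h1 : b ≤ f) (h2 : b * dX X ≤ f * 8) {r : ℕ} (k : El (p ^ f) N r 6) :
    ∃ c, Pf l (p ^ f) N c :=
  ⟨6, by simp, (S.size h1 h2).1, (S.size h1 h2).2, fun _ => h3, by simp, fun _ => ⟨r, k⟩, nofun, nofun⟩

theorem c8 (h3 : 3 ∣ Nat.card N) (h1 : b ≤ f) (h2 : b * dX X ≤ f * 28) {r r' : ℕ} (e : r ≠ r') (k : El (p ^ f) N r 4)
    (k' : El (p ^ f) N r' 6) : ∃ c, Pf l (p ^ f) N c :=
  ⟨8, by simp, (S.size h1 h2).1, (S.size h1 h2).2, fun _ => h3, by simp, nofun, nofun, fun _ => ⟨r, r', e, k, k'⟩⟩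

/-- the class `8` -/
theorem c8' (h3 : 3 ∣ Nat.card N) {i : ℕ} (a1 : PdX X i) (a2 : 4 ∣ i) (a3 : 0 < i) (a4 : 4 ∣ h i) (a5 : 4 * dX X ≤ i * 28)
    (b1 : PdX X 3) (b2 : PdX X 6) (b3 : 3 ∣ h 3) (b4 : 3 ∣ h 6) : ∃ c, Pf l (p ^ f) N c := by
  obtain ⟨r, k1, k2, k3⟩ := S.four a1 a2 a3 a4
  obtain ⟨r', k4, k5⟩ : ∃ r', orderOf ((p ^ b : ℕ) : ZMod r') ∣ 6 ∧ El (p ^ f) N r' 6 := by
    by_cases e : b = 1
    · obtain ⟨r', k4, -, k5⟩ := S.six b1 le_rfl (by omega) b3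
      exact ⟨r', by rw [k4]; norm_num, k5⟩
    · obtain ⟨r', k4, -, k5⟩ := S.six b2 (by norm_num) (by omega) b4
      exact ⟨r', by rw [k4], k5⟩
  have k6 := Nat.mul_le_mul_left b (Nat.le_of_dvd a3 a2)
  refine S.c8 h3 (by omega) ?_ (fun e => absurd (k1.trans (e ▸ k4)) (by norm_num)) k3 k5
  have k7 := Nat.mul_le_mul_left b a5
  nlinarith

end St

theorem sq_C (s : ℕ) {m : ℕ} (h : 0 < m) : s ^ 2 - 1 ∣ ∏ i ∈ Finset.range m, (s ^ (2 * (i + 1)) - 1) :=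
  Finset.dvd_prod_of_mem (fun i => s ^ (2 * (i + 1)) - 1) (Finset.mem_range.2 h)

theorem dvd_ite {P : Prop} [Decidable P] {a b c : ℕ} (h1 : a ∣ b) (h2 : a ∣ c) : a ∣ if P then b else c := by
  split_ifs
  exacts [h1, h2]

theorem tC {m : ℕ} (S : St p f b N (.C m) h) : 3 ∣ Nat.card N :=
  have hm : 2 ≤ m := S.D.real.ok.1
  S.three ((Nat.gcd_dvd_left _ _).trans (by norm_num)) (pow_ne_zero 2 (by omega)) (.inl (sq_C _ (by omega)))

theorem sz (S : St p f b N .Sz h) (h4 : 4 ∣ h 4) : ∃ c, Pf l (p ^ f) N c := by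
  obtain ⟨r, -, k1, k2⟩ := S.four (i := 4) (.inr rfl) dvd_rfl four_pos h4
  obtain ⟨k3, k4⟩ := S.size (e := 5) (by omega) (show b * 5 ≤ _ by omega)
  exact ⟨5, by simp, k3, k4.trans (Nat.pow_le_pow_right (by have := S.big; omega) (by simp [et])), fun k => absurd rfl k,
    fun _ => ⟨r, k2⟩, nofun, nofun, nofun⟩

theorem g2 (S : St p f b N .G2 h) (h3 : 3 ∣ h 3) (h6 : 3 ∣ h 6) : ∃ c, Pf l (p ^ f) N c := by
  have ok : 3 ≤ p ^ b := S.D.real.ok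
  have t := S.three (one_dvd _) (by decide) (.inl (dvd_mul_right _ _))
  obtain ⟨r, k1, k2, k3⟩ := S.six (i := 6) dvd_rfl (by norm_num) (fun k => by
    rw [k.1, show b = 1 by omega] at ok
    omega) h6
  by_cases e : p = 2 ∧ b * 3 = 6
  · have k4 : 5 ≤ f := (Nat.pow_le_pow_iff_right one_lt_two).1 (show 2 ^ 5 ≤ 2 ^ f from (e.1 ▸ S.big : 32 ≤ 2 ^ f))
    exact S.c6 t (by omega) (show b * 14 ≤ _ by omega) k3
  · obtain ⟨r', k4, -, k5⟩ := S.six (i := 3) (show 3 ∣ 6 by norm_num) le_rfl e h3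
    obtain ⟨k6, k7⟩ := S.size (e := 14) (by omega) (show b * 14 ≤ _ by omega)
    exact ⟨7, by simp, k6, k7, fun _ => t, by simp, nofun,
      fun _ => ⟨r, r', fun k => absurd (k1.symm.trans (k ▸ k4)) (by norm_num), k3, k5⟩, nofun⟩

theorem tf4 (S : St p f b N .TF4 h) (h4 : 4 ∣ h 4) : ∃ c, Pf l (p ^ f) N c := by
  have t := S.three (one_dvd _) (by decide)
    (.inl (((Nat.pow_sub_one_dvd_pow_sub_one _ (show 2 ∣ 4 by norm_num)).mul_left _).mul_right _))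
  obtain ⟨r, k1, k2, k3⟩ := S.four (i := 4) (.inl dvd_rfl) dvd_rfl four_pos h4
  obtain ⟨r₀, m₀, k0, -, k3', -⟩ := S.el (i := 4) (.inl dvd_rfl) (by norm_num) (by omega)
  obtain ⟨r', m, k4, k5, k6, k7⟩ := S.el (i := 12) (.inr (.inr rfl)) (by norm_num) (by omega)
  by_cases e : 3 ∣ m
  · exact S.c8 t (by omega) (show b * 26 ≤ _ by omega) (fun k => absurd (k0.symm.trans (k ▸ k4)) (by norm_num))
      (El.mono k3' (h4.trans ((Nat.dvd_lcm_left _ _).trans (Nat.dvd_lcm_right _ _))))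
      (El.mono k6 (Nat.Coprime.mul_dvd_of_dvd_of_dvd (m := 2) (n := 3) rfl (Nat.dvd_lcm_left _ _)
        (e.trans ((Nat.dvd_lcm_right _ _).trans (Nat.dvd_lcm_right _ _)))))
  · have k8 : m ∣ 4 := by
      have k9 := (Nat.dvd_lcm_right (h 12) m).trans (Nat.dvd_lcm_right 2 _)
      rcases k7 with k | k
      · exact k9.trans k
      · exact (Nat.Coprime.dvd_of_dvd_mul_right (n := 3) (m := 2) (Nat.prime_three.coprime_iff_not_dvd.2 e).symm
          (k9.trans k)).trans (by norm_num)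
    have k9 := Nat.le_of_dvd (Nat.mul_pos S.hf four_pos) (k5.trans (Nat.mul_dvd_mul_left f k8))
    exact S.c4 t (by omega) (show b * 26 ≤ _ by omega) k3

end Dd2

open Dd2 in
/-- **[Dd]** from the shapes `L`, `U` -/
theorem boxDd_of (hL : ∀ n, DdX (.L n)) (hU : ∀ n, DdX (.U n)) : BoxDd := by
  intro B l p f N _ _ _ hl hp hf h32 hn nb hQ
  obtain ⟨g, X, b, k1, k2, k3⟩ := H364.LieNam.lie_nam OrdDiv.table hp hQ
  have k : Nm N g X p b := ⟨k1, k2, k3⟩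
  have S : St p f b N X (hh g) :=
    ⟨hf, h32, nb, k.nd hn, fun r hr h5 h => (B.cj k1 X p b N k).1 r b hr h5 h dvd_rfl (Or.inl rfl)⟩
  have ok := k3.ok
  clear k2 k3
  cases k1 with
  | psl m => exact hL m B l p f b N _ hl hf h32 hn nb k
  | psu m => exact hU m B l p f b N _ hl hf h32 hn nb k
  | psp m =>
    have h2 := ok.1
    obtain rfl | rfl | hm : m = 2 ∨ m = 3 ∨ 4 ≤ m := by omega
    · obtain ⟨r, -, k1, k2⟩ := S.four (i := 4) ⟨four_pos, by norm_num⟩ dvd_rfl four_pos (Nat.dvd_lcm_right 2 4)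
      exact S.c4 (tC S) (by omega) (show b * 10 ≤ _ by omega) k2
    · exact S.c8' (tC S) (i := 4) ⟨four_pos, by norm_num⟩ dvd_rfl four_pos (Nat.dvd_lcm_right 2 4) (by decide)
        ⟨three_pos, by norm_num⟩ ⟨by norm_num, by norm_num⟩ (Nat.dvd_lcm_right 2 3) (show 3 ∣ Nat.lcm 2 6 by decide)
    · exact (S.no (i := 8) (n := 8) ⟨by norm_num, by omega⟩ (by norm_num) (by norm_num) (Nat.dvd_lcm_right 2 8)
        (by decide)).elim
  | oodd m _ _ h2 =>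
    obtain rfl | rfl | hm : m = 3 ∨ m = 4 ∨ 5 ≤ m := by omega
    · exact S.c8' (tC S) (i := 4) ⟨four_pos, by norm_num⟩ dvd_rfl four_pos (dvd_refl 4) (by decide)
        ⟨three_pos, by norm_num⟩ ⟨by norm_num, by norm_num⟩ (dvd_refl 3) (dvd_refl 3)
    · exact S.c8' (tC S) (i := 8) ⟨by norm_num, by norm_num⟩ (by norm_num) (by norm_num) (dvd_refl 4) (by decide)
        ⟨three_pos, by norm_num⟩ ⟨by norm_num, by norm_num⟩ (show 3 ∣ 6 by decide) (show 3 ∣ 6 by decide)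
    · exact (S.no (i := 8) (n := 8) ⟨by norm_num, by omega⟩ (by norm_num) (by norm_num) (by
        rw [hh, if_pos (by omega)]; exact Nat.dvd_lcm_right 2 8) (by decide)).elim
  | oplus m =>
    have h2 : 4 ≤ m := ok
    obtain rfl | hm : m = 4 ∨ 5 ≤ m := by omega
    · exact S.c8' (S.three (Nat.gcd_dvd_left _ _) (by decide) (.inl ((sq_C _ (by norm_num)).mul_left _))) (i := 4)
        ⟨four_pos, by norm_num⟩ dvd_rfl four_pos (dvd_refl 4) (by decide)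
        ⟨three_pos, by norm_num⟩ ⟨by norm_num, by norm_num⟩ (show 3 ∣ 6 by decide) (dvd_refl 3)
    · exact (S.no (i := 5) (n := 5) ⟨by norm_num, by omega⟩ (by norm_num) (by norm_num)
        (dvd_ite (by norm_num) (by norm_num)) (by decide)).elim
  | ominus m =>
    have h2 : 4 ≤ m := ok
    obtain rfl | hm : m = 4 ∨ 5 ≤ m := by omega
    · exact S.c8' (S.three (Nat.gcd_dvd_left _ _) (by decide) (.inl ((sq_C _ (by norm_num)).mul_left _))) (i := 4)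
        ⟨four_pos, by norm_num⟩ dvd_rfl four_pos (dvd_refl 4) (by decide)
        ⟨three_pos, by norm_num⟩ ⟨by norm_num, by norm_num⟩ (dvd_refl 3) (show 3 ∣ 6 by decide)
    · exact (S.no (i := 8) (n := 8) ⟨by norm_num, by omega⟩ (by norm_num) (by norm_num) (by
        rw [hh, if_pos (by omega)]; exact Nat.dvd_lcm_right 2 8) (by decide)).elim
  | g2 => exact g2 S (Nat.dvd_lcm_right 2 3) (show 3 ∣ Nat.lcm 2 6 by decide)
  | f4 => exact (S.no (i := 8) (n := 8) (.inl dvd_rfl) (by norm_num) (by norm_num) (Nat.dvd_lcm_right 2 8) (by decide)).elim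
  | e6 => exact (S.no (i := 8) (n := 8) (.inr (.inl dvd_rfl)) (by norm_num) (by norm_num) (dvd_refl 8) (by decide)).elim
  | e7 => exact (S.no (i := 10) (n := 5) (.inr (.inl dvd_rfl)) (by norm_num) (by norm_num) (dvd_refl 5) (by decide)).elim
  | e8 =>
    exact (S.no (i := 14) (n := 14) (.inl dvd_rfl) (by norm_num) (by norm_num) (Nat.dvd_lcm_right 2 14) (by decide)).elim
  | te6 => exact (S.no (i := 8) (n := 8) (.inl dvd_rfl) (by norm_num) (by norm_num) (dvd_refl 8) (by decide)).elim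
  | td4 =>
    exact S.c8' (S.three (one_dvd _) (by decide) (.inl ((dvd_mul_right _ _).mul_right _))) (i := 12) (.inr rfl) (by norm_num)
      (by norm_num) (dvd_refl 4) (by decide) (.inl (by norm_num)) (.inl dvd_rfl) (show 3 ∣ 6 by decide) (show 3 ∣ 6 by decide)
  | sz => exact sz S (dvd_refl 4)
  | ree =>
    obtain ⟨r, -, k1, k2⟩ := S.six (i := 6) (.inr (.inr rfl)) (by norm_num) (by have := ok.1; omega) (show 3 ∣ 6 by decide)
    exact S.c6 (S.three (one_dvd _) (by decide) (.inr ok.1)) (by omega) (show b * 7 ≤ _ by omega) k2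
  | tf4 => exact tf4 S (dvd_refl 4)

end Cfsg.Agent.N2.Ex.Mu
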