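import Cfsg.Agent.N2.Ex.Mu.Defs
import Cfsg.Agent.H912.KnownSplit

/-!
# N2 (S3519), several components, the arithmetic: interface (helper59)

Three regimes: `BoxB` (a big automizer), `BoxS` (`q < 32`), and for `q ≥ 32` the classes `Pf` (data `BoxDd BoxDa BoxDs BoxDc`)
with the rows `BoxG l`.  Paper: `notes/N2/mu_num.md`.
-/

set_option autoImplicit false

namespace Cfsg.Agent.N2.Ex.Mu

open Cfsg Cfsg.Lie
open Cfsg.Agent.H290.ElReg (Fth)
open Cfsg.Agent.N2.Ex.Sm (dimT NB)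

/-- no big automizer -/
def NoBig (q : ℕ) (N : Type) [Group N] : Prop := ∀ r n, El q N r n → ¬ Big n

/-- the exponent of the bound for `|Aut N|` -/
def ea (l c : ℕ) : ℕ :=
  if c = 1 then (if l = 8 then 5 else 4) else if c = 4 then 11 else if c = 5 then 6 else if c = 6 then 9 else if c = 7 then 15 else 29

/-- the exponent of the bound for `|N|` -/
def et (l c : ℕ) : ℕ :=
  if c = 1 then (if l = 8 then 5 else 4) else if c = 4 then 10 else if c = 5 then 6 else if c = 6 then 8 else if c = 7 then 14 else 28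

/-- **the classes**: `1` small, `4` an automizer four, `5` the same for the Suzuki groups, `6` an automizer six, `7` two of them,
`8` four and six -/
structure Pf (l q : ℕ) (N : Type) [Group N] (c : ℕ) : Prop where
  mem : c = 1 ∨ c = 4 ∨ c = 5 ∨ c = 6 ∨ c = 7 ∨ c = 8
  aut : Nat.card (MulAut N) ≤ q ^ ea l c
  card : Nat.card N ≤ q ^ et l c
  three : c ≠ 5 → 3 ∣ Nat.card N
  four : c = 4 ∨ c = 5 → ∃ r, El q N r 4
  six : c = 6 → ∃ r, El q N r 6
  six2 : c = 7 → ∃ r r', r ≠ r' ∧ El q N r 6 ∧ El q N r' 6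
  both : c = 8 → ∃ r r', r ≠ r' ∧ El q N r 4 ∧ El q N r' 6

/-- the data for a family -/
def DRow (P : ℕ → ℕ → ∀ (N : Type) [Group N], Prop) : Prop :=
  ∀ (l p f : ℕ) (N : Type) [Group N] [Finite N] [IsSimpleGroup N], (l = 4 ∨ l = 6 ∨ l = 7 ∨ l = 8) → p.Prime → 0 < f → 32 ≤ p ^ f →
    ¬ IsMulCommutative N → NoBig (p ^ f) N → P l p N → ∃ c, Pf l (p ^ f) N c

/-- **[Dd]** defining characteristic -/
def BoxDd : Prop := NB → DRow fun _ p N _ => IsLieTypeChar p N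

/-- **[Da]** alternating groups -/
def BoxDa : Prop := DRow fun _ _ N _ => ∃ c, 5 ≤ c ∧ c ≤ 18 ∧ Nonempty (N ≃* alternatingGroup (Fin c))

/-- **[Ds]** sporadic groups and the Tits group -/
def BoxDs : Prop := DRow fun _ _ N _ => IsSporadicGroup N ∨ Lie.IsoTits N

/-- **[Dc]** cross characteristic -/
def BoxDc : Prop := NB → Cf → DRow fun l p N _ => ¬ IsLieTypeChar p N ∧ ¬ IsAlternating N ∧ (∃ r : ℕ, r.Prime ∧ IsLieTypeChar r N) ∧
  ∃ (K : Type) (_ : Field K) (_ : CharP K p) (n : ℕ), 3 * n ≤ dimT l ∧ Fth n K N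

/-- a statement on the numerical interface -/
def OnX (l : ℕ) (P : ∀ (_ _ : ℕ) (ι : Type) (S : ι → Type) [∀ i, Group (S i)], Prop) : Prop :=
  Cf → ∀ (tw : Bool) (p f T : ℕ) (ι : Type) [Fintype ι] [DecidableEq ι] (S : ι → Type) [∀ i, Group (S i)] (G : Prop) (κ : ℕ)
    (W : Finset ι → ℕ → ℕ → Prop) (E : ι → Prop), Mx l tw p f T S G κ W E → P p f ι S → G

/-- **[B]** -/
def BoxB (l : ℕ) : Prop := OnX l fun p f _ S _ => ∃ i r n, El (p ^ f) (S i) r n ∧ Big n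

/-- **[S]** -/
def BoxS (l : ℕ) : Prop := OnX l fun p f _ S _ => p ^ f < 32 ∧ ∀ i, NoBig (p ^ f) (S i)

/-- **[G]** -/
def BoxG (l : ℕ) : Prop := OnX l fun p f ι S _ => 32 ≤ p ^ f ∧ ∃ c : ι → ℕ, ∀ i, Pf l (p ^ f) (S i) (c i)

/-- **assembly** -/
theorem num_of (nb : NB) (dd : BoxDd) (da : BoxDa) (ds : BoxDs) (dc : BoxDc) {l : ℕ} (b : BoxB l) (s : BoxS l) (g : BoxG l) :
    BoxNum l := by
  intro cf tw p f T ι _ _ S _ G κ W E X
  by_cases h1 : ∃ i r n, El (p ^ f) (S i) r n ∧ Big n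
  · exact b cf tw p f T ι S G κ W E X h1
  have h2 : ∀ i, NoBig (p ^ f) (S i) := fun i r n k1 k2 => h1 ⟨i, r, n, k1, k2⟩
  rcases lt_or_ge (p ^ f) 32 with h3 | h3
  · exact s cf tw p f T ι S G κ W E X ⟨h3, h2⟩
  refine g cf tw p f T ι S G κ W E X ⟨h3, (Classical.skolem (p := fun i c => Pf l (p ^ f) (S i) c)).1 fun i => ?_⟩
  have := X.b.fin i
  have := X.b.simple i
  have hl : l = 4 ∨ l = 6 ∨ l = 7 ∨ l = 8 := by rcases X.b.typ with k | ⟨-, k | k | k⟩ <;> simp [k]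
  have hp := X.b.real.hp
  have hf := X.b.real.hf
  have hn := X.b.nonab i
  by_cases k1 : IsLieTypeChar p (S i)
  · exact dd nb l p f _ hl hp hf h3 hn (h2 i) k1
  by_cases k2 : IsAlternating (S i)
  · obtain ⟨c, c1, c2⟩ := k2
    refine da l p f _ hl hp hf h3 hn (h2 i) ⟨c, c1, (X.b.alt i c c2).trans ?_, c2⟩
    cases Sm.sh l tw <;> exact Nat.le_of_ble_eq_true rfl
  have hc : ¬ IsPrimeCyclic (S i) := fun k => by
    have : Fact (Nat.card (S i)).Prime := ⟨k⟩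
    have := isCyclic_of_prime_card (α := S i) rfl
    exact hn inferInstance
  rcases H912.Known.known_split (cf (S i)) hc with k | k | k | k
  · exact absurd k k2
  · obtain ⟨K, a1, a2, a3, -⟩ := X.b.deg
    obtain ⟨n, a4, a5⟩ := a3 i
    exact dc nb cf l p f _ hl hp hf h3 hn (h2 i) ⟨k1, k2, k, K, a1, a2, n, a4, a5⟩
  · exact ds l p f _ hl hp hf h3 hn (h2 i) (Or.inr k)
  · exact ds l p f _ hl hp hf h3 hn (h2 i) (Or.inl k)

end Cfsg.Agent.N2.Ex.Mu
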