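import Cfsg.Agent.N2.Ex.Mu.Num.Defs
import Cfsg.Agent.N2.Ex.Mu.NumB

/-!
# N2 (S3519), several components: `E₆`, `²E₆`, `q ≥ 32`, a member with an automizer four (helper94)
-/

set_option autoImplicit false
set_option linter.unusedSectionVars false

namespace Cfsg.Agent.N2.Ex.Mu

open Cfsg Cfsg.Agent.H902 Finset
open Cfsg.Agent.N2.Ex.Sm (Ty)

namespace G6a

variable {ι : Type} [Fintype ι] [DecidableEq ι]

theorem mu_le (t : ι → ℕ) : mu t ≤ (Fintype.card ι).factorial := by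
  have h := Nat.prod_factorial_dvd_factorial_sum (univ.image t) fun v => (univ.filter fun i => t i = v).card
  rw [← card_eq_sum_card_image t univ, card_univ] at h
  exact Nat.le_of_dvd (Nat.factorial_pos _) h

variable {l : ℕ} {tw : Bool} {p f T κ : ℕ} {S : ι → Type} [∀ i, Group (S i)] {G : Prop} {W : Finset ι → ℕ → ℕ → Prop}
  {E : ι → Prop}

/-- `|A| ≤ ∏ |Aut| * c!` -/
theorem card_le_aut (a : MA l p f T S G κ W) (b : MB l tw p f T S) :
    (∏ i, Nat.card (S i)) * κ ≤ (∏ i, Nat.card (MulAut (S i))) * (Fintype.card ι).factorial := by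
  have h0 : ∀ i, 0 < Nat.card (MulAut (S i)) / Nat.card (S i) := fun i => by
    have := b.fin i
    have := b.simple i
    have hc : Subgroup.center (S i) = ⊥ := (Subgroup.Normal.eq_bot_or_eq_top inferInstance).resolve_right fun e =>
      b.nonab i ⟨⟨fun x y => (Subgroup.mem_center_iff.1 (e ▸ Subgroup.mem_top y) x)⟩⟩
    refine Nat.div_pos (Nat.card_le_card_of_injective (MulAut.conj : S i →* MulAut (S i)) ?_) Nat.card_pos
    refine (injective_iff_map_eq_one _).2 fun x hx => Subgroup.mem_bot.1 (hc ▸ Subgroup.mem_center_iff.2 fun y => ?_)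
    have h1 : x * y * x⁻¹ = y := by simpa using congrArg (fun φ : MulAut (S i) => φ y) hx
    exact (mul_inv_eq_iff_eq_mul.1 h1).symm
  have h1 : κ ≤ (∏ i, Nat.card (MulAut (S i)) / Nat.card (S i)) * mu fun i => Nat.card (S i) :=
    Nat.le_of_dvd (Nat.mul_pos (prod_pos fun i _ => h0 i) (prod_pos fun _ _ => Nat.factorial_pos _)) a.kdv
  refine (Nat.mul_le_mul_left _ (h1.trans (Nat.mul_le_mul_left _ (mu_le _)))).trans ?_
  rw [← mul_assoc, ← prod_mul_distrib]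
  exact Nat.mul_le_mul_right _ (prod_le_prod' fun i _ => Nat.mul_div_le _ _)

/-- the final inequality -/
theorem test (b : MB 6 tw p f T S) (hq : 32 ≤ p ^ f) {K L : ℕ} (h : K + L ≤ 77) (hL : L ≤ 24) :
    (p ^ f) ^ K * (p ^ f + 1) ^ L ≤ T := by
  refine le_trans ?_ (NB.unif (K := 53) (L := 24) b.typ b.real (by norm_num) hq (by decide) (by decide +kernel))
  generalize p ^ f = q at hq
  rcases le_total K 53 with k | k
  · exact Nat.mul_le_mul (Nat.pow_le_pow_right (by omega) k) (Nat.pow_le_pow_right (by omega) hL)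
  · obtain ⟨d, rfl⟩ := Nat.exists_eq_add_of_le k
    rw [pow_add, mul_assoc]
    refine Nat.mul_le_mul_left _ ((Nat.mul_le_mul_right _ (Nat.pow_le_pow_left (Nat.le_succ q) d)).trans ?_)
    rw [← pow_add]
    exact Nat.pow_le_pow_right (by omega) (by omega)

theorem fin (a : MA 6 p f T S G κ W) (b : MB 6 tw p f T S) (hq : 32 ≤ p ^ f) {I : Finset ι} {k o x y : ℕ} (w : W I k o)
    (hA : (∏ i, Nat.card (S i)) * κ ≤ (p ^ f) ^ x * (p ^ f + 1) ^ y) (h : 3 * k + x + y ≤ 59) (hy : y ≤ 6) : G := by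
  refine a.win _ _ _ w ((Nat.mul_le_mul_left _ hA).trans (le_trans (le_of_eq ?_)
    (test (K := 3 * k + x) (L := 18 + y) b hq (by omega) (by omega))))
  simp only [cb]
  ring

/-- the orbit of an element of one component -/
theorem one (a : MA 6 p f T S G κ W) (b : MB 6 tw p f T S) (hq : 32 ≤ p ^ f) {i : ι} {o x : ℕ} (w : W {i} 12 o) (ho : 2 ≤ o)
    (hx : 20 ≤ x) (hi : Nat.card (S i) ≤ (p ^ f) ^ x) : (∏ i, Nat.card (S i)) * κ ≤ (p ^ f) ^ (x + 12) * (p ^ f + 1) ^ 6 := by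
  have h1 := a.orb _ _ _ w
  rw [prod_singleton] at h1
  rw [pow_add, mul_assoc]
  refine h1.trans (Nat.mul_le_mul_right _ ?_)
  by_cases h2 : ∃ j, j ≠ i ∧ Nat.card (S j) = Nat.card (S i)
  · obtain ⟨j, hj, e⟩ := h2
    have h3 := NB.mult_le (fun i => Nat.card (S i)) (NB.two_le b) hj
    simp only [e] at h3
    refine h3.trans ((mul_comm 2 _).le.trans ((Nat.mul_le_mul_left _ ho).trans ((a.emb _ _ _ w).trans ?_)))
    rw [cb]
    generalize p ^ f = q at hq
    refine le_trans ?_ (Nat.pow_le_pow_right (by omega) hx)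
    calc q ^ 12 * (q + 1) ^ 6 ≤ q ^ 12 * (2 * q) ^ 6 := by gcongr; omega
      _ = 64 * q ^ 18 := by ring
      _ ≤ q * q * q ^ 18 := Nat.mul_le_mul_right _ (by nlinarith)
      _ = q ^ 20 := by ring
  · have h3 : (univ.filter fun j => Nat.card (S j) = Nat.card (S i)).card ≤ 1 :=
      (card_le_card fun j hj => mem_singleton.2 (by_contra fun k => h2 ⟨j, k, (mem_filter.1 hj).2⟩)).trans
        (card_singleton i).le
    exact (Nat.mul_le_mul h3 hi).trans (one_mul _).le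

/-- the bound by the automorphism groups -/
theorem all (a : MA 6 p f T S G κ W) (b : MB 6 tw p f T S) (hq : 32 ≤ p ^ f) (hc : Fintype.card ι ≤ 4) (i : ι) {x m : ℕ}
    (hi : Nat.card (MulAut (S i)) ≤ (p ^ f) ^ x) (hm : ∀ j, j ≠ i → Nat.card (MulAut (S j)) ≤ (p ^ f) ^ m) :
    (∏ i, Nat.card (S i)) * κ ≤ (p ^ f) ^ (x + m * (Fintype.card ι - 1) + 1) * (p ^ f + 1) ^ 0 := by
  refine (card_le_aut a b).trans ?_
  rw [pow_zero, mul_one, pow_succ, pow_add, ← mul_prod_erase univ _ (mem_univ i)]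
  refine Nat.mul_le_mul (Nat.mul_le_mul hi ?_) ((Nat.factorial_le hc).trans (le_trans (by decide) hq))
  refine (prod_le_pow_card _ _ _ fun j hj => hm j (mem_erase.1 hj).1).trans ?_
  rw [card_erase_of_mem (mem_univ i), card_univ, ← pow_mul]

/-- a chain which starts with the member `i` -/
theorem chain {q : ℕ} {i : ι} {r₀ m : ℕ} (hi : El q (S i) r₀ 4) (h : ∀ j, j ≠ i → ∃ r, 5 ≤ r ∧ El q (S j) r m) :
    ∃ r n : ι → ℕ, (∀ j, 5 ≤ r j ∧ El q (S j) (r j) (n j)) ∧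
      ∀ (J : Finset ι) (ρ : ℕ), i ∈ J → Rc 6 J i r n ρ → ρ + (J.card - 1) * m.totient ≤ 3 := by
  choose! r hr using h
  refine ⟨Function.update r i r₀, Function.update (fun _ => m) i 4, fun j => ?_, fun J ρ hJ k => ?_⟩
  · by_cases e : j = i
    · subst e
      rw [Function.update_self, Function.update_self]
      exact ⟨NB.El.five hi (by decide), hi⟩
    · rw [Function.update_of_ne e, Function.update_of_ne e]
      exact hr j e
  · rw [Rc, Function.update_self, Function.update_self, rk1, if_pos ⟨rfl, dvd_rfl⟩,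
      sum_congr rfl fun j hj => by rw [Function.update_of_ne (mem_erase.1 hj).1], sum_const, card_erase_of_mem hJ,
      smul_eq_mul] at k
    exact k

theorem third (b : MB 6 tw p f T S) (h2 : p = 2) (j : ι) : ∃ r, 5 ≤ r ∧ El (p ^ f) (S j) r 2 := by
  have := b.fin j
  have := b.simple j
  obtain ⟨s, s1, s2, s3, s4⟩ := NB.exists_third (b.nonab j) 2 3
  refine ⟨s, s1.five_le_of_ne_two_of_ne_three s2 s3, NB.El.mono (NB.el_of s1 s2 (fun e => s2 ?_) s4) (Nat.dvd_lcm_left _ _)⟩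
  exact (Nat.prime_dvd_prime_iff_eq s1 Nat.prime_two).1 (h2 ▸ s1.dvd_of_dvd_pow e)

theorem SZ_le {ρ : ℕ} (h : ρ ≤ 1) : SZ 6 ρ ≤ 2 := by interval_cases ρ <;> decide

end G6a

open G6a in
/-- **`E₆`, a member with an automizer four** -/
theorem g6_n4 {tw : Bool} {p f T : ℕ} {ι : Type} [Fintype ι] [DecidableEq ι] {S : ι → Type} [∀ i, Group (S i)]
    {G : Prop} {κ : ℕ} {W : Finset ι → ℕ → ℕ → Prop} {E : ι → Prop} (X : Mx 6 tw p f T S G κ W E) (hq : 32 ≤ p ^ f)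
    (c : ι → ℕ) (hc : ∀ i, Pf 6 (p ^ f) (S i) (c i)) (h4 : ∃ i, c i = 4 ∨ c i = 5 ∨ c i = 8) : G := by
  have := X.b.two
  have hq0 : 0 < p ^ f := by omega
  have el : ∀ i, c i = 4 ∨ c i = 5 ∨ c i = 8 → ∃ r, El (p ^ f) (S i) r 4 := fun i k => by
    rcases or_assoc.2 k with k | k
    · exact (hc i).four k
    · obtain ⟨r, -, -, k1, -⟩ := (hc i).both k
      exact ⟨r, k1⟩
  have cd : ∀ i x, et 6 (c i) ≤ x → Nat.card (S i) ≤ (p ^ f) ^ x := fun i x k =>
    (hc i).card.trans (Nat.pow_le_pow_right hq0 k)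
  have au : ∀ i x, ea 6 (c i) ≤ x → Nat.card (MulAut (S i)) ≤ (p ^ f) ^ x := fun i x k =>
    (hc i).aut.trans (Nat.pow_le_pow_right hq0 k)
  have w0 : ∀ i r, El (p ^ f) (S i) r 4 → W {i} 12 r := fun i r k => Cb.bd_E6.2.2.2.1 ▸ (X.t.t0 i r 4 k).1
  have e28 : ∀ i, et 6 (c i) ≤ 28 := fun i => by
    rcases (hc i).mem with k | k | k | k | k | k <;> rw [k] <;> decide
  by_cases h2 : p = 2
  swap
  · obtain ⟨i, hi⟩ := h4
    obtain ⟨r, hr⟩ := el i hi
    obtain ⟨j, hj⟩ := exists_ne i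
    obtain ⟨k, k1, k2⟩ := X.t.t2 i j r 4 hj.symm hr h2 (Or.inr (by decide))
    obtain rfl : 4 = k := Option.some.inj k1
    exact fin X.a X.b hq k2 (one X.a X.b hq (w0 i r hr) hr.1.two_le (by norm_num) (cd i 28 (e28 i))) (by norm_num) le_rfl
  have h3 : p ≠ 3 := by omega
  have w3 : ∀ i j r n, i ≠ j → El (p ^ f) (S i) r n → n = 4 ∨ n = 6 → c j ≠ 5 → W {i, j} 6 (3 * r) := fun i j r n hij hr hn hj => by
    have n2 : ¬ n ∣ 2 := by rcases hn with rfl | rfl <;> decide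
    obtain ⟨k, k1, k2⟩ := X.t.t3 i j r n hij hr h3 (NB.El.five hr n2) ((hc j).three hj) (Or.inr n2)
    obtain rfl : 6 = k := by rcases hn with rfl | rfl <;> exact Option.some.inj k1
    exact k2
  by_cases hB : ∃ i j, i ≠ j ∧ (c i = 4 ∨ c i = 5) ∧ c j ≠ 5
  · obtain ⟨i, j, hij, hi, hj⟩ := hB
    obtain ⟨r, hr⟩ := (hc i).four hi
    exact fin X.a X.b hq (w3 i j r 4 hij hr (Or.inl rfl) hj) (one X.a X.b hq (w0 i r hr) hr.1.two_le le_rfl
      (cd i 20 (by rcases hi with k | k <;> rw [k] <;> decide))) (by norm_num) le_rfl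
  by_cases h5 : ∃ i, c i = 5
  · obtain ⟨i, hi⟩ := h5
    have a5 : ∀ j, c j = 5 := fun j => by_contra fun k => hB ⟨i, j, fun e => k (e ▸ hi), Or.inr hi, k⟩
    obtain ⟨r₀, hr⟩ := (hc i).four (Or.inr hi)
    obtain ⟨r, n, k1, k2⟩ := chain (m := 4) hr fun j _ =>
      ((hc j).four (Or.inr (a5 j))).imp fun r k => ⟨NB.El.five k (by decide), k⟩
    obtain ⟨ρ, e, k3, -⟩ := X.c.c1 univ i r n (mem_univ i) fun j _ => k1 j
    have k4 := k2 univ ρ (mem_univ i) k3
    rw [card_univ, show Nat.totient 4 = 2 by decide] at k4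
    have a6 : ∀ j, ea 6 (c j) ≤ 6 := fun j => by rw [a5 j]; decide
    exact fin X.a X.b hq (w0 i r₀ hr) (all X.a X.b hq (by omega) i (au i 6 (a6 i)) fun j _ => au j 6 (a6 j)) (by omega)
      (Nat.zero_le _)
  have n5 : ∀ j, c j ≠ 5 := fun j k => h5 ⟨j, k⟩
  have n4 : ∀ j, c j ≠ 4 := fun j k => by
    obtain ⟨j', hj⟩ := exists_ne j
    exact hB ⟨j, j', hj.symm, Or.inl k, n5 j'⟩
  obtain ⟨i, hi⟩ := h4
  have i8 : c i = 8 := (hi.resolve_left (n4 i)).resolve_left (n5 i)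
  obtain ⟨r₀, hr⟩ := el i hi
  obtain ⟨r, n, k1, k2⟩ := chain (m := 2) hr fun j _ => third X.b h2 j
  have hcard : Fintype.card ι ≤ 4 := by
    obtain ⟨ρ, e, k3, -⟩ := X.c.c1 univ i r n (mem_univ i) fun j _ => k1 j
    have k4 := k2 univ ρ (mem_univ i) k3
    rw [card_univ, Nat.totient_two] at k4
    omega
  by_cases h7 : ∃ j, j ≠ i ∧ (c j = 7 ∨ c j = 8)
  · obtain ⟨j, hj, k⟩ := h7
    obtain ⟨r₁, n₁, m1, m2, m3⟩ : ∃ r₁ n₁, r₁ ≠ r₀ ∧ El (p ^ f) (S j) r₁ n₁ ∧ (n₁ = 4 ∨ n₁ = 6) := by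
      obtain ⟨s, s', m, m1, m2, m3, m4⟩ : ∃ s s' m, s ≠ s' ∧ El (p ^ f) (S j) s m ∧ El (p ^ f) (S j) s' 6 ∧ (m = 4 ∨ m = 6) := by
        rcases k with k | k
        · obtain ⟨s, s', m1, m2, m3⟩ := (hc j).six2 k
          exact ⟨s, s', 6, m1, m2, m3, Or.inr rfl⟩
        · obtain ⟨s, s', m1, m2, m3⟩ := (hc j).both k
          exact ⟨s, s', 4, m1, m2, m3, Or.inl rfl⟩
      by_cases e : s = r₀
      · exact ⟨s', 6, fun e' => m1 (e.trans e'.symm), m3, Or.inr rfl⟩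
      · exact ⟨s, m, e, m2, m4⟩
    have n2 : ¬ n₁ ∣ 2 := by rcases m3 with rfl | rfl <;> decide
    have t2 : n₁.totient = 2 := by rcases m3 with rfl | rfl <;> decide
    obtain ⟨ρ, e, k3, k4, -, -, k5, -⟩ := X.c.c1 {i, j} i (fun x => if x = i then r₀ else r₁) (fun x => if x = i then 4 else n₁)
      (mem_insert_self _ _) fun x hx => by
        rcases mem_insert.1 hx with rfl | hx
        · rw [if_pos rfl, if_pos rfl]
          exact ⟨NB.El.five hr (by decide), hr⟩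
        · rw [mem_singleton.1 hx, if_neg hj, if_neg hj]
          exact ⟨NB.El.five m2 n2, m2⟩
    rw [Rc, erase_insert (by simpa using hj.symm), sum_singleton, if_neg hj, if_pos rfl, if_pos rfl, t2, rk1,
      if_pos ⟨rfl, dvd_rfl⟩] at k3
    have k6 := k5 (by
      rw [coe_pair, Set.injOn_pair]
      intro k
      rw [if_pos rfl, if_neg hj] at k
      exact absurd k.symm m1)
    exact fin X.a X.b hq (X.a.mono _ _ _ _ _ k6 subset_rfl (k4.trans (SZ_le (by omega))))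
      (one X.a X.b hq (w0 i r₀ hr) hr.1.two_le (by norm_num) (cd i 28 (e28 i))) (by norm_num) le_rfl
  have h16 : ∀ j, j ≠ i → c j = 1 ∨ c j = 6 := fun j hj => by
    have := (hc j).mem
    have := n4 j
    have := n5 j
    have : ¬ (c j = 7 ∨ c j = 8) := fun k => h7 ⟨j, hj, k⟩
    omega
  have a29 := au i 29 (by rw [i8]; decide)
  obtain ⟨j₀, hj₀⟩ := exists_ne i
  have w6 := w3 i j₀ r₀ 4 hj₀.symm hr (Or.inl rfl) (n5 j₀)
  by_cases hc2 : Fintype.card ι ≤ 2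
  · exact fin X.a X.b hq w6 (all X.a X.b hq hcard i a29 fun j hj => au j 9 (by rcases h16 j hj with k | k <;> rw [k] <;> decide))
      (by omega) (Nat.zero_le _)
  have ex3 : ∀ a b : ι, ∃ x, x ≠ a ∧ x ≠ b := fun a b => by
    by_contra k
    refine hc2 (card_univ (α := ι) ▸ (card_le_card fun x _ => ?_).trans (card_le_two (a := a) (b := b)))
    rw [mem_insert, mem_singleton]
    exact by_contra fun k' => k ⟨x, not_or.1 k'⟩
  by_cases h6 : ∃ j, c j = 6
  · obtain ⟨j, hj⟩ := h6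
    obtain ⟨x, x1, x2⟩ := ex3 i j
    obtain ⟨s, hs⟩ := (hc j).six hj
    have w := w3 j x s 6 x2.symm hs (Or.inr rfl) (n5 x)
    have k3 := X.a.orb _ _ _ w
    rw [prod_pair x2.symm] at k3
    have k4 : ∀ y, (univ.filter fun z => Nat.card (S z) = Nat.card (S y)).card ≤ 4 := fun y => (card_le_univ _).trans hcard
    have k5 := cd j 8 (by rw [hj]; decide)
    have k6 := cd x 8 (by rcases h16 x x1 with k | k <;> rw [k] <;> decide)
    refine fin (x := 23) (y := 6) X.a X.b hq w (k3.trans ?_) (by norm_num) le_rfl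
    refine (Nat.mul_le_mul_right _ (Nat.mul_le_mul (Nat.mul_le_mul (k4 j) k5) (Nat.mul_le_mul (k4 x) k6))).trans ?_
    rw [cb]
    generalize p ^ f = q at hq
    calc 4 * q ^ 8 * (4 * q ^ 8) * (q ^ 6 * (q + 1) ^ 6) = 16 * (q ^ 22 * (q + 1) ^ 6) := by ring
      _ ≤ q * (q ^ 22 * (q + 1) ^ 6) := Nat.mul_le_mul_right _ (by omega)
      _ = _ := by ring
  have a4 := all X.a X.b hq hcard i a29 fun j hj => au j 4 (by rw [(h16 j hj).resolve_right fun k => h6 ⟨j, k⟩]; decide)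
  by_cases hc3 : Fintype.card ι ≤ 3
  · exact fin X.a X.b hq w6 a4 (by omega) (Nat.zero_le _)
  obtain ⟨y, y1, y2⟩ : ∃ y, y ≠ i ∧ ¬ E y := by
    by_cases e : E j₀
    · obtain ⟨x, x1, x2⟩ := ex3 i j₀
      exact ⟨x, x1, fun k => x2 (X.n.ee x j₀ k e)⟩
    · exact ⟨j₀, hj₀, e⟩
  have hiJ : i ∈ univ.erase y := mem_erase.2 ⟨y1.symm, mem_univ i⟩
  obtain ⟨ρ, ρ', e, x, x1, k3, k4, -, k5, -, -, -, k6⟩ := X.c.c3 (univ.erase y) i y r n false hiJ (fun j _ => k1 j)
    (notMem_erase _ _) h3 ((hc y).three (n5 y)) fun _ => y2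
  have k7 := k2 _ ρ hiJ k3
  rw [card_erase_of_mem (mem_univ y), card_univ, Nat.totient_two] at k7
  have k8 := k4 (le_trans (by omega) (show 5 ≤ g3 6 by decide))
  obtain rfl : ρ' = 0 := by omega
  obtain rfl : e = 0 := Nat.le_zero.1 k5
  obtain ⟨k, o, w, -, ⟨k', rfl⟩, k9⟩ := k6 5 fun j _ => (k1 j).1
  have k10 : x.1 ≤ 30 := by
    have : ∀ z ∈ X3 6 false, z.1 ≤ 30 := by decide
    exact this x x1
  exact fin X.a X.b hq w a4 (by omega) (Nat.zero_le _)

end Cfsg.Agent.N2.Ex.Mu
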