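import Cfsg.Agent.N2.Ex.Mu.Num.Defs
import Cfsg.Agent.N2.Ex.Mu.NumB
import Cfsg.Agent.N2.Ex.Mu.Fr
import Cfsg.Agent.N2.Ex.Sim.Num
import Cfsg.Agent.N2.Ex.Cb.Main

/-!
# N2 (S3519), several components, the arithmetic: the row `E₇`, `q ≥ 32` (helper76)
-/

set_option autoImplicit false
set_option linter.unusedSectionVars false

namespace Cfsg.Agent.N2.Ex.Mu

open Cfsg Cfsg.Agent.H902 Finset
open Cfsg.Agent.N2.Ex.Sm (Ch sh dimT Ty)
open Cfsg.Agent.SB.Exc (dM ordU)
open Cfsg.Agent.H290.ElReg (Fth)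

namespace G7

section one

variable {N : Type} [Group N] [Finite N] [IsSimpleGroup N] (hn : ¬ IsMulCommutative N)
include hn

theorem cen {t : N} (h : ∀ x, x * t = t * x) : t = 1 := by
  rcases (inferInstance : (Subgroup.center N).Normal).eq_bot_or_eq_top with k | k
  · exact Subgroup.mem_bot.1 (k ▸ Subgroup.mem_center_iff.2 h)
  · exact (hn ⟨⟨fun a b => Subgroup.mem_center_iff.1 (k.ge (Subgroup.mem_top b)) a⟩⟩).elim

theorem le_aut : Nat.card N ≤ Nat.card (MulAut N) :=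
  Nat.card_le_card_of_injective _ ((injective_iff_map_eq_one (MulAut.conj (G := N))).2 fun _ h => cen hn fun x =>
    (mul_inv_eq_iff_eq_mul.1 (DFunLike.congr_fun h x)).symm)

/-- no faithful representation of degree two in odd characteristic -/
theorem three_le {K : Type} [Field K] (h2 : (2 : K) ≠ 0) {n : ℕ} (h : Fth n K N) : 3 ≤ n := by
  obtain ⟨ρ, hρ⟩ := h
  by_contra k
  have := Fact.mk Nat.prime_two
  obtain ⟨t, ht⟩ := exists_prime_orderOf_dvd_card' (G := N) 2 (Fr.even_card ‹_› hn).two_dvd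
  have h1 : Matrix.GeneralLinearGroup.det (ρ t) = 1 := by
    rcases (MonoidHom.normal_ker (Matrix.GeneralLinearGroup.det.comp ρ)).eq_bot_or_eq_top with e | e
    · exact (hn ⟨⟨fun a b => (MonoidHom.ker_eq_bot_iff _).1 e (by rw [map_mul, map_mul, mul_comm])⟩⟩).elim
    · exact e.ge (Subgroup.mem_top t)
  have h3 : ρ t * ρ t = 1 := by rw [← map_mul, ← pow_two, ← ht, pow_orderOf_eq_one, map_one]
  have h4 : ∀ x, ρ x * ρ t = ρ t * ρ x := fun x => Units.ext (by
    have k1 : (ρ t).1.det = 1 := congrArg Units.val h1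
    have k2 : (ρ t).1 * (ρ t).1 = 1 := congrArg Units.val h3
    rw [Units.val_mul, Units.val_mul]
    generalize (ρ t).1 = A at k1 k2
    generalize (ρ x).1 = B
    obtain rfl | rfl | rfl : n = 0 ∨ n = 1 ∨ n = 2 := by omega
    · exact Subsingleton.elim _ _
    · ext i j
      simp [Matrix.mul_apply, Subsingleton.elim i 0, Subsingleton.elim j 0, mul_comm]
    · rw [Matrix.det_fin_two] at k1
      have e := fun i j => congrFun (congrFun k2 i) j
      have e0 := e 0 0
      have e1 := e 0 1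
      have e2 := e 1 0
      have e3 := e 1 1
      simp [Matrix.mul_apply, Fin.sum_univ_two] at e0 e1 e2 e3
      have b1 : A 0 0 * (A 0 0 + A 1 1) = 2 := by linear_combination e0 + k1
      have b2 : A 1 1 * (A 0 0 + A 1 1) = 2 := by linear_combination e3 + k1
      have a1 : A 0 1 = 0 := mul_left_cancel₀ h2 (by linear_combination A 0 0 * e1 - A 0 1 * b1)
      have a2 : A 1 0 = 0 := mul_left_cancel₀ h2 (by linear_combination A 0 0 * e2 - A 1 0 * b1)
      have a3 : A 1 1 = A 0 0 := mul_left_cancel₀ h2 (by linear_combination A 0 0 * (b2 - b1) - (A 1 1 - A 0 0) * b1)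
      ext i j
      fin_cases i <;> fin_cases j <;> simp [Matrix.mul_apply, Fin.sum_univ_two, a1, a2, a3, mul_comm])
  have h5 := cen hn fun x => hρ (show ρ (x * t) = ρ (t * x) by rw [map_mul, map_mul, h4])
  rw [h5, orderOf_one] at ht
  omega

end one

variable {l : ℕ} {tw : Bool}

/-- the uniform test with a constant -/
theorem unifC {p e T : ℕ} (ht : Ty l tw) (h : Art.Real (sh l tw) p e T) {q1 C K L : ℕ} (h0 : 0 < q1) (hq : q1 ≤ p ^ e)
    (hk : K + L ≤ dimT l) (hc : dM l * (C * (q1 ^ K * (q1 + 1) ^ L)) ≤ ordU l q1) :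
    C * ((p ^ e) ^ K * (p ^ e + 1) ^ L) ≤ T := by
  have h1 := Sm.ordU_le ht h
  have h2 := Sm.ordU_mono ht hq
  have h3 := Sm.succ_mono hq K L
  generalize p ^ e = q at *
  obtain ⟨E, hE⟩ := Nat.exists_eq_add_of_le hk
  refine Nat.le_of_mul_le_mul_left ?_ (Nat.mul_pos (pow_pos h0 (dimT l)) (Sm.dM_pos l))
  calc _ = dM l * C * q1 ^ E * (q ^ K * (q + 1) ^ L * q1 ^ (K + L)) := by rw [hE]; ring
    _ ≤ dM l * C * q ^ E * (q1 ^ K * (q1 + 1) ^ L * q ^ (K + L)) := by gcongr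
    _ = dM l * (C * (q1 ^ K * (q1 + 1) ^ L)) * q ^ dimT l := by rw [hE]; ring
    _ ≤ ordU l q1 * q ^ dimT l := Nat.mul_le_mul_right _ hc
    _ ≤ q1 ^ dimT l * (dM l * T) := h2.trans (Nat.mul_le_mul_left _ h1)
    _ = _ := by ring

variable {ι : Type} [Fintype ι] [DecidableEq ι]

theorem mu_le (t : ι → ℕ) : mu t ≤ (Fintype.card ι).factorial := by
  rw [← card_univ, card_eq_sum_card_image t]
  exact Nat.le_of_dvd (Nat.factorial_pos _) (Nat.prod_factorial_dvd_factorial_sum _ _)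

variable {p f T κ : ℕ} {S : ι → Type} [∀ i, Group (S i)] {G : Prop} {W : Finset ι → ℕ → ℕ → Prop}
  (a : MA l p f T S G κ W) (b : MB l tw p f T S) (hq : 32 ≤ p ^ f)

/-- the test for `finO` -/
def tO (l C k k' e : ℕ) : Prop :=
  3 * k + k' + e + 4 * l ≤ dimT l ∧ dM l * (C * (32 ^ (3 * k + k' + e) * (32 + 1) ^ (4 * l))) ≤ ordU l 32

/-- the test for `finA` -/
def tA (l C k e : ℕ) : Prop :=
  3 * k + e + 3 * l ≤ dimT l ∧ dM l * (C.factorial * (32 ^ (3 * k + e) * (32 + 1) ^ (3 * l))) ≤ ordU l 32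

include a b hq

/-- the order of `A` from the orbit of an element -/
theorem finO {I : Finset ι} {j : ι} {k k' o o' e C : ℕ} (h : W I k o) (h' : W {j} k' o') (he : Nat.card (S j) ≤ (p ^ f) ^ e)
    (hC : Fintype.card ι ≤ C) (t : tO l C k k' e) : G := by
  have h1 := a.orb _ _ _ h'
  rw [prod_singleton] at h1
  refine a.win _ _ _ h ((Nat.mul_le_mul_left _ (h1.trans (Nat.mul_le_mul_right _
    (Nat.mul_le_mul ((card_le_univ _).trans hC) he)))).trans (le_trans (le_of_eq ?_)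
    (unifC b.typ b.real (by norm_num) hq t.1 t.2)))
  simp only [cb]
  ring

/-- the order of `A` from the automorphism groups -/
theorem finA {I : Finset ι} {k o e C : ℕ} (h : W I k o) {x : ι → ℕ} (hx : ∀ i, Nat.card (MulAut (S i)) ≤ (p ^ f) ^ x i)
    (he : ∑ i, x i ≤ e) (hC : Fintype.card ι ≤ C) (t : tA l C k e) : G := by
  have h0 : ∀ i, 0 < Nat.card (MulAut (S i)) / Nat.card (S i) := fun i => by
    have := b.fin i
    have := b.simple i
    exact Nat.div_pos (le_aut (b.nonab i)) Nat.card_pos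
  have h1 := Nat.le_of_dvd (Nat.mul_pos (prod_pos fun i _ => h0 i) (prod_pos fun _ _ => Nat.factorial_pos _)) a.kdv
  have h2 : (∏ i, Nat.card (S i)) * κ ≤ (p ^ f) ^ e * C.factorial := by
    refine (Nat.mul_le_mul_left _ h1).trans ?_
    rw [← mul_assoc, ← prod_mul_distrib]
    refine Nat.mul_le_mul ((prod_le_prod' fun i _ => (Nat.mul_div_le _ _).trans (hx i)).trans ?_)
      ((mu_le _).trans (Nat.factorial_le hC))
    rw [prod_pow_eq_pow_sum]
    exact Nat.pow_le_pow_right (by omega) he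
  refine a.win _ _ _ h ((Nat.mul_le_mul_left _ h2).trans (le_trans (le_of_eq ?_)
    (unifC b.typ b.real (by norm_num) hq t.1 t.2)))
  simp only [cb]
  ring

omit a hq in
/-- the number of components in odd characteristic -/
theorem c_odd (h2 : p ≠ 2) : 9 * (Fintype.card ι * Fintype.card ι - Fintype.card ι) ≤ 2 * dimT l := by
  obtain ⟨K, _, _, -, h⟩ := b.deg
  have h0 : (2 : K) ≠ 0 := fun k => h2 ((Nat.prime_dvd_prime_iff_eq b.real.hp Nat.prime_two).1
    ((CharP.cast_eq_zero_iff K p 2).1 (by exact_mod_cast k)))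
  have := h (fun _ => 3) (fun _ => le_rfl) fun i n hn => by
    have := b.fin i
    have := b.simple i
    exact three_le (b.nonab i) h0 hn
  rwa [sum_const, offDiag_card, card_univ, smul_eq_mul, mul_comm] at this

end G7

open G7 NB

theorem G7.el4 {q l c : ℕ} {N : Type} [Group N] (P : Pf l q N c) (h : c = 4 ∨ c = 5 ∨ c = 8) : ∃ r, El q N r 4 := by
  rcases h with h | h | h
  exacts [P.four (.inl h), P.four (.inr h), let ⟨r, _, _, k, _⟩ := P.both h; ⟨r, k⟩]

theorem G7.el6 {q l c : ℕ} {N : Type} [Group N] (P : Pf l q N c) (h : c = 6 ∨ c = 7 ∨ c = 8) : ∃ r, El q N r 6 := by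
  rcases h with h | h | h
  exacts [P.six h, let ⟨r, _, _, k, _⟩ := P.six2 h; ⟨r, k⟩, let ⟨_, r, _, _, k⟩ := P.both h; ⟨r, k⟩]

/-- **[G]** for `E₇` -/
theorem boxG7 : BoxG 7 := by
  rintro - tw p f T ι _ _ S _ G κ W E X ⟨hq, c, P⟩
  have := X.b.two
  have fO := @finO _ _ _ _ _ _ _ _ _ _ _ _ _ X.a X.b hq
  have fA := @finA _ _ _ _ _ _ _ _ _ _ _ _ _ X.a X.b hq
  have w4 : ∀ {i r}, El (p ^ f) (S i) r 4 → W {i} 26 r := fun h => Cb.bd_E7.2.2.2.1 ▸ (X.t.t0 _ _ _ h).1
  have w6 : ∀ {i r}, El (p ^ f) (S i) r 6 → W {i} 30 r := fun h => Cb.bd_E7.2.2.2.2.2.1 ▸ (X.t.t0 _ _ _ h).1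
  have cd : ∀ i e, et 7 (c i) ≤ e → Nat.card (S i) ≤ (p ^ f) ^ e := fun i e h =>
    (P i).card.trans (Nat.pow_le_pow_right (by omega) h)
  have c28 : ∀ i, et 7 (c i) ≤ 28 := fun i => by
    rcases (P i).mem with h | h | h | h | h | h <;> rw [h] <;> decide
  have sm : (∀ i, c i = 1) → (∀ i, Nat.card (MulAut (S i)) < (p ^ f) ^ nt 7) ∧
      ∑ i, ea 7 (c i) = 4 * Fintype.card ι := fun h => ⟨fun i => (P i).aut.trans_lt (by
    rw [h i]
    exact Nat.pow_lt_pow_right (by omega) (by decide)), by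
      rw [sum_congr rfl fun i _ => (by rw [h i]; rfl : ea 7 (c i) = 4), sum_const, card_univ, smul_eq_mul, mul_comm]⟩
  by_cases h2 : p ≠ 2
  · have hc : Fintype.card ι ≤ 5 := by
      have := c_odd X.b h2
      by_contra k
      have k1 : 6 * Fintype.card ι ≤ Fintype.card ι * Fintype.card ι := Nat.mul_le_mul_right _ (by omega)
      rw [show dimT 7 = 133 from rfl] at this
      omega
    by_cases h4 : ∃ i, c i = 4 ∨ c i = 5 ∨ c i = 8
    · obtain ⟨i, hi⟩ := h4
      obtain ⟨r, hr⟩ := el4 (P i) hi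
      obtain ⟨j, hj⟩ := exists_ne i
      obtain ⟨k, k1, k2⟩ := X.t.t2 i j r 4 hj.symm hr h2 (.inr (by decide))
      obtain rfl : 12 = k := Option.some.inj k1
      exact fO k2 (w4 hr) (cd i 28 (c28 i)) hc ⟨by decide, by decide +kernel⟩
    by_cases h6 : ∃ i, c i = 6 ∨ c i = 7
    · obtain ⟨i, hi⟩ := h6
      obtain ⟨r, hr⟩ := el6 (P i) (hi.imp_right .inl)
      obtain ⟨j, hj⟩ := exists_ne i
      obtain ⟨k, k1, k2⟩ := X.t.t2 i j r 6 hj.symm hr h2 (.inr (by decide))
      obtain rfl : 20 = k := Option.some.inj k1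
      exact fO k2 (w6 hr) (cd i 14 (by rcases hi with h | h <;> rw [h] <;> decide)) hc ⟨by decide, by decide +kernel⟩
    have h1 : ∀ i, c i = 1 := fun i => by
      have := (P i).mem
      have k1 := not_exists.1 h4 i
      have k2 := not_exists.1 h6 i
      omega
    obtain ⟨i, j, o, -, w⟩ := X.n.n2 (by decide) h2 (sm h1).1
    exact fA w (fun i => (P i).aut) (e := 20) (by rw [(sm h1).2]; omega) hc ⟨by decide, by decide +kernel⟩
  obtain rfl : p = 2 := not_not.1 h2
  have e2 : ∀ i, ∃ r, 5 ≤ r ∧ El (2 ^ f) (S i) r 2 := fun i => by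
    have := X.b.fin i
    have := X.b.simple i
    obtain ⟨r, r1, r2, r3, r4⟩ := exists_third (X.b.nonab i) 2 3
    exact ⟨r, r1.five_le_of_ne_two_of_ne_three r2 r3, El.mono (el_of r1 r2 (fun k =>
      r2 ((Nat.prime_dvd_prime_iff_eq r1 Nat.prime_two).1 (r1.dvd_of_dvd_pow k))) r4) (Nat.dvd_lcm_left _ _)⟩
  obtain ⟨u, u0, u1⟩ : ∃ u : ι → ℕ, (∀ i, c i = 1 → u i = 0) ∧ ∀ i, c i ≠ 1 → u i = 1 :=
    ⟨fun i => if c i = 1 then 0 else 1, fun i h => if_pos h, fun i h => if_neg h⟩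
  have s1 : Fintype.card ι + ∑ i, u i ≤ 7 := by
    have k : ∀ i, ∃ r n, (5 ≤ r ∧ El (2 ^ f) (S i) r n) ∧ n.totient = 1 + u i ∧ n.totient ≤ 2 := fun i => by
      by_cases k1 : c i = 1
      · obtain ⟨r, hr⟩ := e2 i
        exact ⟨r, 2, hr, by rw [u0 i k1]; decide, by decide⟩
      by_cases k2 : c i = 4 ∨ c i = 5 ∨ c i = 8
      · obtain ⟨r, hr⟩ := el4 (P i) k2
        exact ⟨r, 4, ⟨El.five hr (by decide), hr⟩, by rw [u1 i k1]; decide, by decide⟩
      · obtain ⟨r, hr⟩ := el6 (P i) (by have := (P i).mem; omega)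
        exact ⟨r, 6, ⟨El.five hr (by decide), hr⟩, by rw [u1 i k1]; decide, by decide⟩
    choose r n k1 k2 k3 using k
    obtain ⟨i⟩ : Nonempty ι := inferInstance
    obtain ⟨ρ, -, h, -⟩ := X.c.c1 univ i r n (mem_univ i) fun j _ => k1 j
    have h3 := add_sum_erase univ (fun j => (n j).totient) (mem_univ i)
    rw [sum_congr (s₁ := univ) rfl fun j _ => k2 j, sum_add_distrib, sum_const, card_univ, smul_eq_mul, mul_one] at h3
    have h4 := k3 i
    simp only [Rc, rk1] at h h3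
    rw [if_neg (by omega), if_neg (by omega)] at h
    omega
  have s2 : ∑ i, u i ≤ Fintype.card ι := by
    rw [← card_univ, card_eq_sum_ones]
    exact sum_le_sum fun i _ => by by_cases k : c i = 1 <;> simp [u0, u1, k]
  have t3 : ∀ i j r n k, i ≠ j → El (2 ^ f) (S i) r n → c j ≠ 5 → ¬ n ∣ 2 → gT 7 3 n = some k → W {i, j} k (3 * r) :=
    fun i j r n k h1 h3 h4 h5 h6 => by
      obtain ⟨k', k1, k2⟩ := X.t.t3 i j r n h1 h3 (by decide) (El.five h3 h5) ((P j).three h4) (.inr h5)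
      obtain rfl : k' = k := Option.some.inj (k1.symm.trans h6)
      exact k2
  by_cases h6 : ∃ i, c i = 6 ∨ c i = 7 ∨ c i = 8
  · obtain ⟨i, hi⟩ := h6
    by_cases h5 : ∃ j, j ≠ i ∧ c j ≠ 5
    · obtain ⟨j, hj, h5⟩ := h5
      obtain ⟨r, hr⟩ := el6 (P i) hi
      exact fO (t3 i j r 6 12 hj.symm hr h5 (by decide) rfl) (w6 hr) (cd i 28 (c28 i)) (C := 7) (by omega)
        ⟨by decide, by decide +kernel⟩
    · obtain ⟨j, hj⟩ := exists_ne i
      have k1 : c j = 5 := not_not.1 fun k => h5 ⟨j, hj, k⟩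
      obtain ⟨r, hr⟩ := el4 (P j) (.inr (.inl k1))
      have k2 := single_le_sum (f := u) (fun _ _ => Nat.zero_le _) (mem_univ j)
      rw [u1 j (by omega)] at k2
      exact fO (t3 j i r 4 24 hj hr (by omega) (by decide) rfl) (w4 hr) (cd j 6 (by rw [k1]; decide)) (C := 6) (by omega)
        ⟨by decide, by decide +kernel⟩
  have m : ∀ i, c i = 1 ∨ c i = 4 ∨ c i = 5 := fun i => by
    have := (P i).mem
    have k2 := not_exists.1 h6 i
    omega
  by_cases h4 : ∃ i j, i ≠ j ∧ c i ≠ 1 ∧ c j ≠ 5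
  · obtain ⟨i, j, h1, h3, h5⟩ := h4
    obtain ⟨r, hr⟩ := el4 (P i) (by have := m i; omega)
    have k : ∑ i, ea 7 (c i) ≤ ∑ i, (4 + 7 * u i) := sum_le_sum fun i _ => by
      rcases m i with h | h | h
      · rw [u0 i h, h]; decide
      · rw [u1 i (by omega), h]; decide
      · rw [u1 i (by omega), h]; decide
    rw [sum_add_distrib, sum_const, card_univ, smul_eq_mul, ← mul_sum] at k
    exact fA (t3 i j r 4 24 h1 hr h5 (by decide) rfl) (fun i => (P i).aut) (e := 37) (by omega) (C := 7) (by omega)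
      ⟨by decide, by decide +kernel⟩
  by_cases h1 : ∀ i, c i = 1
  · by_cases hc : Fintype.card ι ≤ 5
    · obtain ⟨i, j, o, -, w⟩ := X.n.n3 (by decide) (by decide) (sm h1).1 fun i => ⟨(P i).three (by rw [h1 i]; decide), e2 i⟩
      rw [if_neg (by omega)] at w
      exact fA w (fun i => (P i).aut) (e := 20) (by rw [(sm h1).2]; omega) hc ⟨by decide, by decide +kernel⟩
    choose r k1 using e2
    obtain ⟨i, j, hij⟩ := exists_pair_ne ι
    obtain ⟨ρ, ρ', e, x, hx, -, -, h3, h5, -, -, -, h7⟩ := X.c.c3 (univ.erase i) j i r (fun _ => 2) true (by simpa using hij.symm)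
      (fun j _ => k1 j) (notMem_erase i _) (by decide) ((P i).three (by rw [h1 i]; decide)) (by simp)
    obtain ⟨k, o, w, -, -, h8⟩ := h7 5 fun j _ => (k1 j).1
    rw [sum_const, card_erase_of_mem (mem_univ i), card_univ, Nat.totient_two, smul_eq_mul, mul_one] at h3
    have h9 : k ≤ 15 := by
      have z : SZ 7 0 = 0 ∧ SZ 7 1 = 2 ∧ SZ 7 2 = 6 := by decide
      simp only [X3, col, if_neg (show ¬ 7 = 4 by decide), if_neg (show ¬ 7 = 6 by decide), if_true, List.mem_cons,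
        List.not_mem_nil, or_false] at hx
      rcases hx with rfl | rfl <;> dsimp only at h3 h8
      · obtain rfl | rfl : ρ' = 0 ∨ ρ' = 1 := by omega
        all_goals omega
      · obtain rfl | rfl | rfl : ρ' = 0 ∨ ρ' = 1 ∨ ρ' = 2 := by omega
        all_goals omega
    exact fA (X.a.mono _ _ _ _ _ w subset_rfl h9) (fun i => (P i).aut) (e := 28) (by rw [(sm h1).2]; omega) (C := 7)
      (by omega) ⟨by decide, by decide +kernel⟩
  obtain ⟨i, hi⟩ := not_forall.1 h1
  have h5 : ∀ j, c j = 5 := fun j => by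
    obtain ⟨k, hk⟩ := exists_ne i
    have k1 : ∀ j, j ≠ i → c j = 5 := fun j hj => not_not.1 fun e => h4 ⟨i, j, hj.symm, hi, e⟩
    by_cases e : j = i
    · exact not_not.1 fun e' => h4 ⟨k, j, e ▸ hk, by rw [k1 k hk]; decide, e'⟩
    · exact k1 j e
  obtain ⟨r, hr⟩ := el4 (P i) (.inr (.inl (h5 i)))
  rw [sum_congr rfl fun j _ => u1 j (by rw [h5 j]; decide), sum_const, card_univ, smul_eq_mul, mul_one] at s1
  refine fA (w4 hr) (fun i => (P i).aut) (e := 18) ?_ (C := 7) (by omega) ⟨by decide, by decide +kernel⟩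
  rw [sum_congr rfl fun j _ => (by rw [h5 j]; rfl : ea 7 (c j) = 6), sum_const, card_univ, smul_eq_mul]
  omega

end Cfsg.Agent.N2.Ex.Mu
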