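import Cfsg.Agent.N2.Ex.Mu.Num.Base

/-!
# N2 (S3519), several components, `E₇`, `q ≥ 32`: no automizer four (helper43)
-/

set_option autoImplicit false
set_option maxHeartbeats 400000

namespace Cfsg.Agent.N2.Ex.Mu

open Cfsg Finset

variable {ι : Type} [Fintype ι] [DecidableEq ι] {tw : Bool} {p f T : ℕ} {S : ι → Type} [∀ i, Group (S i)] {G : Prop}
  {κ : ℕ} {W : Finset ι → ℕ → ℕ → Prop} {E : ι → Prop}

namespace G7b

variable (X : Mx 7 tw p f T S G κ W E) (hq : 32 ≤ p ^ f) {c : ι → ℕ} (hc : ∀ i, Pf 7 (p ^ f) (S i) (c i))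
include X hq hc

/-- an automizer six -/
theorem six (h4 : ∀ i, c i = 1 ∨ c i = 6 ∨ c i = 7) {i : ι} (hi : c i ≠ 1) : G := by
  have := X.b.two
  obtain ⟨j, hj⟩ := exists_ne i
  obtain ⟨r, hr⟩ : ∃ r, El (p ^ f) (S i) r 6 := ((h4 i).resolve_left hi).elim (hc i).six fun k =>
    ((hc i).six2 k).imp fun _ ⟨_, h⟩ => h.2.1
  by_cases h3 : p = 3
  · obtain ⟨k, k1, k2⟩ := X.t.t2 i j r 6 hj.symm hr (by omega) (Or.inr (by norm_num))
    obtain rfl : 20 = k := Option.some.inj k1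
    have w := X.weights (Or.inr h3) hc i
    rw [if_neg (by norm_num), if_neg (by norm_num), if_neg hi] at w
    refine X.fin hq k2 3 (X.A_sum (e := fun j => if c j = 1 then 4 else 15) (c := 5) (a := 49) (fun j => (hc j).aut.trans
      (Nat.pow_le_pow_right (by omega) (by rcases h4 j with k | k | k <;> simp [k, ea]))) (X.card_odd (by omega)) ?_)
      (by decide) (by decide +kernel)
    rw [← add_sum_erase _ _ (mem_univ i), if_neg hi, sum_ite, sum_const, sum_const, smul_eq_mul, smul_eq_mul]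
    simp only [ne_eq] at w
    omega
  · obtain ⟨k, k1, k2⟩ := X.t.t3 i j r 6 hj.symm hr h3 (by have := hr.seven; omega) ((hc j).three (by have := h4 j; omega))
      (Or.inr (by norm_num))
    obtain rfl : 12 = k := Option.some.inj k1
    have w : W {i} 30 r := (X.t.t0 i r 6 hr).1
    refine X.fin hq k2 2 (X.A_orb1 w (e := 14) (c := 7) (a := 44) ((hc i).card.trans
      (Nat.pow_le_pow_right (by omega) (by rcases h4 i with k | k | k <;> simp [k, et]))) ?_ le_rfl) (by decide) (by decide +kernel)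
    by_cases h2 : p = 2
    · exact X.card_le (Or.inl h2)
    · exact (X.card_odd h2).trans (by decide)

/-- all components are small -/
theorem one (h1 : ∀ i, c i = 1) : G := by
  have a4 : ∀ i, Nat.card (MulAut (S i)) ≤ (p ^ f) ^ 4 := fun i => by simpa [h1 i, ea] using (hc i).aut
  have a5 : ∀ i, Nat.card (MulAut (S i)) < (p ^ f) ^ nt 7 := fun i =>
    (a4 i).trans_lt (Nat.pow_lt_pow_right (by omega) (by decide))
  have sm : ∀ n, Fintype.card ι ≤ n → ∑ _i : ι, 4 ≤ n * 4 := fun n hn => by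
    rw [sum_const, card_univ, smul_eq_mul]
    exact Nat.mul_le_mul_right _ hn
  have five : ∀ I o, Fintype.card ι ≤ 5 → W I 30 o → G := fun I o h5 w =>
    X.fin hq w 2 (X.A_sum a4 h5 (sm 5 h5)) (by decide) (by decide +kernel)
  by_cases h2 : p = 2
  swap
  · obtain ⟨i, j, o, -, w⟩ := X.n.n2 (by norm_num) h2 a5
    exact five _ _ (X.card_odd h2) w
  have h3 : ∀ i, 3 ∣ Nat.card (S i) := fun i => (hc i).three (by rw [h1 i]; norm_num)
  by_cases h5 : Fintype.card ι ≤ 5
  · obtain ⟨i, j, o, -, w⟩ := X.n.n3 (by norm_num) (by omega) a5 fun i => ⟨h3 i, X.exists_el5 (Or.inl h2) i⟩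
    rw [if_neg (by norm_num)] at w
    exact five _ _ h5 w
  have := X.b.two
  obtain ⟨i, j, hij⟩ := exists_pair_ne ι
  choose r hr using X.exists_el5 (Or.inl h2)
  have hj : j ∈ univ.erase i := mem_erase.2 ⟨hij.symm, mem_univ _⟩
  obtain ⟨ρ, ρ', e, x, x1, x2, x3, -, x5, -, -, -, x6⟩ := X.c.c3 (univ.erase i) j i r (fun _ => 2) true hj (fun k _ => hr k)
    (notMem_erase _ _) (by omega) (h3 i) (by simp)
  obtain ⟨k, o, w, -, -, hk⟩ := x6 5 fun k _ => (hr k).1
  rw [Rc, sum_const, card_erase_of_mem hj, card_erase_of_mem (mem_univ i), card_univ, Nat.totient_two, smul_eq_mul,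
    show rk1 7 (r j) 2 = 6 by simp [rk1]] at x2
  have b1 : ρ' ≤ 1 := by have := x3 (by rw [show g3 7 = 5 from rfl]; omega); omega
  have b2 : e ≤ 2 := x5.trans (by interval_cases ρ' <;> decide)
  have b3 : x.1 ≤ 72 := (by decide : ∀ x ∈ X3 7 true, x.1 ≤ 72) x x1
  have h7 := X.card_le (Or.inl h2)
  exact X.fin hq (X.a.mono _ _ _ 15 _ w subset_rfl (by omega)) 4 (X.A_sum a4 (c := 7) h7 (sm 7 h7)) (by decide)
    (by decide +kernel)

end G7b

/-- **`E₇` without an automizer four** -/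
theorem g7_no4 (X : Mx 7 tw p f T S G κ W E) (hq : 32 ≤ p ^ f) (c : ι → ℕ) (hc : ∀ i, Pf 7 (p ^ f) (S i) (c i))
    (h4 : ∀ i, c i = 1 ∨ c i = 6 ∨ c i = 7) : G := by
  by_cases h : ∀ i, c i = 1
  · exact G7b.one X hq hc h
  · obtain ⟨i, hi⟩ := not_forall.1 h
    exact G7b.six X hq hc h4 hi

end Cfsg.Agent.N2.Ex.Mu
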