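import Cfsg.Agent.N2.Ex.Mu.Num.SDefs

/-!
# N2 (S3519), several components, `q < 32`: the chains (helper83)
-/

set_option autoImplicit false

namespace Cfsg.Agent.N2.Ex.Mu.Sq

open Cfsg Finset

theorem ph_le (n : ℕ) : ph n ≤ n.totient := by
  unfold ph
  split_ifs with h1 h2
  · rw [h1]; decide
  · rcases h2 with rfl | rfl <;> decide
  · exact Nat.zero_le _

theorem rk1_le (l r n : ℕ) : rk1 l r n ≤ rk l r n := by
  have h := ph_le n
  have h' : 4 ∣ n → n ≠ 4 → ph n = 0 := fun h1 h2 => by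
    unfold ph
    rw [if_neg (by omega), if_neg (by omega)]
  unfold rk1 rk
  split_ifs <;> omega

theorem SZ_mono {l a b : ℕ} (hl : l = 4 ∨ l = 6 ∨ l = 7 ∨ l = 8) (h : a ≤ b) : SZ l a ≤ SZ l b := by
  have h1 : ∀ l ∈ [4, 6, 7, 8], ∀ b < 9, ∀ a ≤ b, SZ l a ≤ SZ l b := by decide
  have h2 : ∀ c, SZ l c = SZ l (min c 8) := fun c => by
    rcases le_total c 8 with k | k
    · rw [min_eq_left k]
    · rw [min_eq_right k, SZ, SZ, if_pos (by omega), if_pos (by omega)]
  rw [h2 a, h2 b]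
  exact h1 l (by simpa using hl) _ (by omega) _ (min_le_min_right _ h)

theorem le_avg {e E nx r k : ℕ} (h1 : e < nx) (h2 : e ≤ E) (h3 : Even k) (h4 : 0 < r) (h5 : r * k + e < r * e + nx) :
    k ≤ avg E nx r := by
  rw [avg, fo_eq]
  obtain ⟨d, hd⟩ : ∃ d, min E (nx - 1) = e + d := Nat.exists_eq_add_of_le (by omega)
  have h6 : k ≤ (r * min E (nx - 1) + nx - min E (nx - 1) - 1) / r := by
    rw [Nat.le_div_iff_mul_le h4, hd, mul_add, mul_comm k]
    have := Nat.le_mul_of_pos_left d h4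
    omega
  obtain ⟨m, rfl⟩ := h3
  omega

theorem best_mem {a : Rec} {e : ℕ × ℕ} (h : best a = some e) : e ∈ a.el ∧ 5 ≤ e.1 := by
  rcases Option.or_eq_some_iff.1 h with k | ⟨-, k⟩
  · have k1 := List.find?_some k
    exact ⟨List.mem_of_find?_eq_some k, (of_decide_eq_true k1).1⟩
  · have k1 := List.find?_some k
    exact ⟨List.mem_of_find?_eq_some k, of_decide_eq_true k1⟩

theorem rmin_le {J : List (ℕ × ℕ)} {e : ℕ × ℕ} (h : e ∈ J) : rmin J ≤ e.1 := by
  induction J with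
  | nil => cases h
  | cons a J ih =>
    rcases List.mem_cons.1 h with rfl | k
    exacts [min_le_left _ _, (min_le_right _ _).trans (ih k)]

theorem rmin_pos {J : List (ℕ × ℕ)} (h : ∀ e ∈ J, 5 ≤ e.1) : 0 < rmin J := by
  induction J with
  | nil => decide
  | cons a J ih =>
    exact lt_min (by have := h a List.mem_cons_self; omega) (ih fun e k => h e (List.mem_cons_of_mem _ k))

theorem le_foldr_max {k a : ℕ} {ks : List ℕ} (h : a ∈ k :: ks) : a ≤ ks.foldr max k := by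
  induction ks with
  | nil => exact (List.mem_singleton.1 h).le
  | cons b ks ih =>
    by_cases k1 : a = b
    · exact k1.le.trans (le_max_left _ _)
    · exact (ih (by simp only [List.mem_cons] at h ⊢; tauto)).trans (le_max_right _ _)

/-- the chain of a list of components -/
theorem exists_chain {ι : Type} [DecidableEq ι] (P : Par) (x : ι → Rec) {li : List ι} (h : li.Nodup) {e : ℕ × ℕ}
    (he : fst0 P ((li.map x).filterMap best) = some e) : ∃ (J : Finset ι) (j₀ : ι) (r n : ι → ℕ), j₀ ∈ J ∧ (∀ j ∈ J, j ∈ li) ∧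
      (∀ j ∈ J, 5 ≤ r j ∧ (r j, n j) ∈ (x j).el ∧ rmin ((li.map x).filterMap best) ≤ r j) ∧ e = (r j₀, n j₀) ∧
      0 < rmin ((li.map x).filterMap best) ∧ wt ((li.map x).filterMap best) ≤ ∑ j ∈ J, (n j).totient ∧
      wt ((li.map x).filterMap best) ≤ ∑ j ∈ J.erase j₀, (n j).totient + ph (n j₀) := by
  obtain ⟨lj, b, h1, h2, h3, h4⟩ : ∃ (lj : List ι) (b : ι → ℕ × ℕ), lj.Nodup ∧ (∀ j ∈ lj, j ∈ li) ∧
      (∀ j ∈ lj, best (x j) = some (b j)) ∧ (li.map x).filterMap best = lj.map b := by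
    refine ⟨li.filter fun j => (best (x j)).isSome, fun j => (best (x j)).getD (0, 0), h.filter _,
      fun j k => (List.mem_filter.1 k).1, fun j k => ?_, ?_⟩
    · obtain ⟨c, hc⟩ := Option.isSome_iff_exists.1 (List.mem_filter.1 k).2
      simp [hc]
    · clear he h
      induction li with
      | nil => rfl
      | cons a li ih =>
        rw [List.map_cons, List.filterMap_cons, List.filter_cons]
        cases k : best (x a) <;> simp [k, ← ih]
  rw [h4] at he ⊢
  obtain ⟨j₀, k1, rfl⟩ := List.mem_map.1 (List.argmin_mem (Option.mem_def.2 he))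
  have k2 : wt (lj.map b) = ∑ j ∈ lj.toFinset, ph (b j).2 := by
    rw [wt, List.map_map, List.sum_toFinset _ h1]
    rfl
  refine ⟨lj.toFinset, j₀, fun j => (b j).1, fun j => (b j).2, List.mem_toFinset.2 k1, fun j k => h2 j (List.mem_toFinset.1 k),
    fun j k => ?_, rfl, rmin_pos fun e k => ?_, k2 ▸ sum_le_sum fun j _ => ph_le _, ?_⟩
  · have k3 := best_mem (h3 j (List.mem_toFinset.1 k))
    exact ⟨k3.2, k3.1, rmin_le (List.mem_map_of_mem (List.mem_toFinset.1 k))⟩
  · obtain ⟨j, k3, rfl⟩ := List.mem_map.1 k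
    exact (best_mem (h3 j k3)).2
  · rw [k2, ← sum_erase_add _ _ (List.mem_toFinset.2 k1)]
    exact Nat.add_le_add_right (sum_le_sum fun j _ => ph_le _) _

/-- **[C1]** -/
theorem boxC1 : BoxC1 := by
  intro l tw p f T M ι _ _ S _ G κ W E x X hx hM li hli φ hφ
  unfold rC1 at hφ
  split at hφ
  · cases hφ
  rename_i e he
  obtain ⟨J, j₀, r, n, h1, -, h3, rfl, h5, -, h7⟩ := exists_chain _ x hli he
  obtain ⟨ρ, e, k1, k2, k3, -, -, k4⟩ := X.c.c1 J j₀ r n h1 fun j k => ⟨(h3 j k).1, (hx j).el _ (h3 j k).2.1⟩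
  obtain ⟨k, o, k5, ko, k6, k7⟩ := k4 _ fun j k => (h3 j k).2.2
  have k8 := k1.trans (rk1_le _ _ _)
  simp only [fo_eq] at hφ
  by_cases k9 : rk l (r j₀) (n j₀) + ph (n j₀) < wt ((li.map x).filterMap best)
  · omega
  rw [if_neg k9] at hφ
  rw [List.mem_singleton.1 hφ]
  have k10 := X.a.mono _ _ _ _ _ k5 subset_rfl (le_avg k3 (k2.trans (SZ_mono X.hl (b := rk l (r j₀) (n j₀) + ph (n j₀) -
    wt ((li.map x).filterMap best)) (by omega))) k6 h5 k7)
  refine Or.inr ⟨J, o, ?_, fun k => absurd rfl k, fun k => absurd rfl k⟩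
  dsimp only
  split_ifs with k11
  · rcases min_choice _ 8 with k12 | k12 <;> rw [k12]
    · exact k10
    refine X.a.gap _ _ _ k10 k11.1 (Nat.Coprime.coprime_dvd_left ko ?_) k11.2
    rw [one_mul]
    refine Nat.Coprime.prod_left fun j k => ?_
    have k13 := ((hx j).el _ (h3 j k).2.1).1
    have k14 := (h3 j k).1
    exact Nat.Coprime.mul_right ((Nat.coprime_primes k13 Nat.prime_two).2 (by omega))
      ((Nat.coprime_primes k13 Nat.prime_three).2 (by omega))
  · exact k10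

/-- **[C3]** -/
theorem boxC3 : BoxC3 := by
  intro l tw p f T M ι _ _ S _ G κ W E x X hx hM b i li hli hi hb φ hφ
  unfold rC3 at hφ
  split_ifs at hφ with h0
  swap
  · cases hφ
  split at hφ
  · cases hφ
  rename_i e he
  obtain ⟨J, j₀, r, n, h1, h2, h3, rfl, h5, h6, h7⟩ := exists_chain _ x hli he
  obtain ⟨ρ, ρ', e, y, hy, k1, k2, k3, k4, k5, -, -, k6⟩ := X.c.c3 J j₀ i r n b h1
    (fun j k => ⟨(h3 j k).1, (hx j).el _ (h3 j k).2.1⟩) (fun k => hi (h2 i k)) h0.1
    ((hx i).card ▸ Nat.dvd_of_mod_eq_zero h0.2) hb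
  obtain ⟨k, o, k7, -, k8, k9⟩ := k6 _ fun j k => (h3 j k).2.2
  have k10 := k1.trans (rk1_le _ _ _)
  have k11 : 3 ≤ g3 l := by unfold g3; split_ifs <;> omega
  simp only [fo_eq] at hφ
  generalize wt ((li.map x).filterMap best) = s at *
  generalize rmin ((li.map x).filterMap best) = r₀ at *
  generalize rk l (r j₀) (n j₀) = a at *
  have k12 : avg (SZ l (if a + ph (n j₀) - s ≤ g3 l then min (y.2 - s) (a + ph (n j₀) - s - 1) else y.2 - s)) y.1 r₀ ∈
      (X3 l b).filterMap fun y => if y.2 < s ∨ a + ph (n j₀) ≤ s then none else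
        some (avg (SZ l (if a + ph (n j₀) - s ≤ g3 l then min (y.2 - s) (a + ph (n j₀) - s - 1) else y.2 - s)) y.1 r₀) :=
    List.mem_filterMap.2 ⟨y, hy, if_neg (by omega)⟩
  split at hφ
  · rename_i k13
    rw [k13] at k12
    cases k12
  rename_i k₀ ks k13
  rw [k13] at k12
  rw [List.mem_singleton.1 hφ]
  refine Or.inr ⟨_, o, X.a.mono _ _ _ _ _ k7 subset_rfl ((le_avg k5 (k4.trans (SZ_mono X.hl ?_)) k8 h5 k9).trans (le_foldr_max k12)),
    fun k => absurd rfl k, fun k => absurd rfl k⟩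
  split_ifs <;> omega

end Cfsg.Agent.N2.Ex.Mu.Sq
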