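import Cfsg.Agent.N2.Ex.Mu.Num.SDefs

/-!
# N2 (S3519), several components, `q < 32`: the search is sound (helper93)
-/

set_option autoImplicit false
set_option linter.unusedSectionVars false

namespace Cfsg.Agent.N2.Ex.Mu.Sq

open Cfsg

namespace Ck

/-- `M` lists members of `tb` in the order of `tb`, with repetitions -/
inductive Sub {α : Type} : List α → List α → Prop
  | nil (tb : List α) : Sub tb []
  | here (x : α) (tb M : List α) : Sub (x :: tb) M → Sub (x :: tb) (x :: M)
  | skip (x : α) (tb M : List α) : Sub tb M → Sub (x :: tb) M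

theorem Sub.mem {α : Type} {tb M : List α} (h : Sub tb M) : ∀ y ∈ M, y ∈ tb := by
  induction h with
  | nil => exact fun _ h => absurd h List.not_mem_nil
  | here x tb M _ ih => exact fun y hy => (List.mem_cons.1 hy).elim (fun h => h ▸ List.mem_cons_self) (ih y)
  | skip x tb M _ ih => exact fun y hy => List.mem_cons_of_mem _ (ih y hy)

theorem exists_sub {α β : Type} (e : β → α) (tb : List α) (l : List β) (h : ∀ b ∈ l, e b ∈ tb) :
    ∃ l' : List β, l'.Perm l ∧ Sub tb (l'.map e) := by
  classical
  induction tb generalizing l with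
  | nil =>
    cases l with
    | nil => exact ⟨[], .refl _, .nil _⟩
    | cons b l => exact absurd (h b List.mem_cons_self) List.not_mem_nil
  | cons x tb ih =>
    obtain ⟨l', h1, h2⟩ := ih (l.filter fun b => !decide (e b = x)) fun b hb => by
      rw [List.mem_filter] at hb
      exact (List.mem_cons.1 (h b hb.1)).resolve_left (by simpa using hb.2)
    refine ⟨l.filter (fun b => decide (e b = x)) ++ l', (h1.append_left _).trans (List.filter_append_perm _ l), ?_⟩
    have h3 : ∀ b ∈ l.filter fun b => decide (e b = x), e b = x := fun b hb => by simpa using (List.mem_filter.1 hb).2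
    generalize l.filter (fun b => decide (e b = x)) = m at h3
    induction m with
    | nil => exact .skip _ _ _ h2
    | cons b m ih' =>
      rw [List.cons_append, List.map_cons, h3 b List.mem_cons_self]
      exact .here _ _ _ (ih' fun c hc => h3 c (List.mem_cons_of_mem _ hc))

theorem foE_eq (l : List (ℕ × ℕ)) (c : List (ℕ × ℕ) → Bool) : foE l c = c l := by
  induction l generalizing c with
  | nil => rfl
  | cons e l ih =>
    show (fo e.1 fun r => fo e.2 fun n => foE l fun l => c ((r, n) :: l)) = _
    rw [fo_eq, fo_eq, ih]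

theorem foL_eq (g : Rec → Bool) (L : List Rec) (c : List Rec → Bool) : foL g L c = c (L.filter g) := by
  induction L generalizing c with
  | nil => rfl
  | cons a L ih =>
    show (fo a.t fun t => fo a.ou fun ou => foE a.el fun el =>
      cond a.e9 (cond (g ⟨t, ou, el, true⟩) (foL g L fun l => c (⟨t, ou, el, true⟩ :: l)) (foL g L c))
        (cond (g ⟨t, ou, el, false⟩) (foL g L fun l => c (⟨t, ou, el, false⟩ :: l)) (foL g L c))) = _
    rw [fo_eq, fo_eq, foE_eq, ih, ih, ih, List.filter_cons]
    obtain ⟨t, ou, el, _ | _⟩ := a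
    · show cond (g ⟨t, ou, el, false⟩) _ _ = _
      cases g ⟨t, ou, el, false⟩ <;> rfl
    · show cond (g ⟨t, ou, el, true⟩) _ _ = _
      cases g ⟨t, ou, el, true⟩ <;> rfl

section

variable {P : Par} {ι : Type} {x : ι → Rec} {G : Prop} (h2 : Nontrivial ι)
  (hW : ∀ (li : List ι) (tb : List Rec), li.Nodup → (∀ i, i ∉ li → x i ∈ tb) → win P (li.map x) tb = true → G)

/-- what a correct search with `n` steps gives -/
def Good (x : ι → Rec) (G : Prop) (n : ℕ) (nx : List Rec → List Rec → Bool) : Prop :=
  ∀ (K M : List ι) (tb : List Rec), (M ++ K).Nodup → (∀ i, i ∈ M ++ K) → Sub tb (M.map x) → M ≠ [] → M.length ≤ n →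
    nx (K.map x) tb = true → G

include h2 hW

theorem step_ok {n : ℕ} {nx : List Rec → List Rec → Bool} (hn : Good x G n nx) : Good x G (n + 1) (step P nx) := by
  intro K M tb h1 h3 h4 h5 h6 h
  induction tb with
  | nil =>
    obtain ⟨i, M, rfl⟩ := List.exists_cons_of_ne_nil h5
    cases h4
  | cons a tb ih =>
    have h' : ((win P (a :: K.map x) (a :: tb) || (((K.map x).isEmpty || win P (a :: K.map x) []) &&
      nx (a :: K.map x) (a :: tb))) && step P nx (K.map x) tb) = true := h
    rw [Bool.and_eq_true, Bool.or_eq_true, Bool.and_eq_true, Bool.or_eq_true] at h'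
    obtain ⟨i, M, rfl⟩ := List.exists_cons_of_ne_nil h5
    rw [List.map_cons] at h4
    generalize hi : x i = y at h4
    cases h4 with
    | skip _ _ _ h4 => exact ih (by rwa [List.map_cons, hi]) h'.2
    | here _ _ _ h4 =>
      have e : (i :: M ++ K).Perm (M ++ i :: K) := List.perm_middle.symm
      have h7 : (i :: K).Nodup := (e.nodup_iff.1 h1).of_append_right
      rw [← hi] at h' h4
      rcases h'.1 with k | ⟨k1, k2⟩
      · exact hW (i :: K) _ h7 (fun j hj => h4.mem _ (List.mem_map_of_mem ((List.mem_append.1 (e.subset (h3 j))).resolve_right hj))) k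
      by_cases h8 : M = []
      · subst h8
        rcases k1 with k1 | k1
        · obtain rfl : K = [] := by simpa using k1
          obtain ⟨j, hj⟩ := exists_ne i
          exact absurd (by simpa using h3 j) hj
        · exact hW (i :: K) [] h7 (fun j hj => absurd (h3 j) hj) k1
      · exact hn (i :: K) M _ (e.nodup_iff.1 h1) (fun j => e.subset (h3 j)) h4 h8 (by simpa using h6) k2

theorem dfs_ok (n : ℕ) : Good x G n (dfs P n) := by
  induction n with
  | zero => exact fun _ _ _ _ _ _ h1 h3 _ => absurd (List.length_eq_zero_iff.1 (Nat.le_zero.1 h3)) h1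
  | succ n ih => exact step_ok h2 hW ih

theorem filt {L : List Rec} (h : ∀ i, x i ∈ L) : G ∨ ∀ i, x i ∈ L.filter fun a => !win P [a] L := by
  by_cases hG : G
  · exact Or.inl hG
  refine Or.inr fun i => List.mem_filter.2 ⟨h i, ?_⟩
  rw [Bool.not_eq_true', ← Bool.not_eq_true]
  exact fun k => hG (hW [i] L (List.nodup_singleton i) (fun j _ => h j) k)

end

end Ck

open Ck in
theorem boxChk_of (hW : BoxWin) : BoxChk := by
  intro l tw p f T M ι _ _ S _ G κ W E x X hx hM L hL h
  have w := hW l tw p f T M ι S G κ W E x X hx hM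
  have h2 := X.b.two
  rw [chk, foL_eq, foL_eq, foL_eq] at h
  have h1 : ∀ i, x i ∈ L.filter fun a => Nat.beq (T % a.t) 0 := fun i => List.mem_filter.2 ⟨hL i, by
    rw [Nat.beq_eq, ← (hx i).card]
    exact Nat.mod_eq_zero_of_dvd ((Finset.dvd_prod_of_mem (fun i => Nat.card (S i)) (Finset.mem_univ i)).trans
      ((dvd_mul_right _ κ).trans X.a.lag))⟩
  refine (filt h2 w h1).elim id fun h3 => (filt h2 w h3).elim id fun h4 => ?_
  obtain ⟨li, h5, h6⟩ := exists_sub x _ Finset.univ.toList fun i _ => h4 i
  refine dfs_ok h2 w M [] li _ ?_ (fun i => ?_) h6 (fun k => ?_) ?_ h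
  · rw [List.append_nil]
    exact h5.nodup_iff.2 (Finset.nodup_toList _)
  · rw [List.append_nil]
    exact h5.symm.subset (Finset.mem_toList.2 (Finset.mem_univ i))
  · obtain ⟨i⟩ : Nonempty ι := inferInstance
    exact absurd (k ▸ h5.symm.subset (Finset.mem_toList.2 (Finset.mem_univ i))) List.not_mem_nil
  · rwa [h5.length_eq, Finset.length_toList, Finset.card_univ]

theorem boxS_of (hC : BoxChk) {cand : ℕ → ℕ → List Rec} (c : BoxCand cand) {l : ℕ} (r : BoxRun cand l) : BoxS l := by
  rintro cf tw p f T ι _ _ S _ G κ W E X ⟨h1, h2⟩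
  choose x hx hx' using c cf l tw p f T ι S G κ W E X h1 h2
  have h3 := r tw p f (X.b.typ.imp_right And.left) X.b.real.hp X.b.real.hf h1
  rw [par, ← X.b.real.eq, Nat.mul_div_cancel_left _ (Nat.pos_of_ne_zero X.b.real.dd_ne)] at h3
  refine hC l tw p f T _ ι S G κ W E x X hx' ?_ _ hx h3
  split_ifs with hp
  exacts [X.card_le (.inl hp), X.card_odd hp]

end Cfsg.Agent.N2.Ex.Mu.Sq
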