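import Cfsg.Agent.N2.Ex.Mu.Num.Defs

/-!
# N2 (S3519), several components, `q < 32`: the records (helper69)

`LQ q` : the simple groups without a big automizer, sorted by the bound `ou * t` for the order of the automorphism group.
-/

set_option autoImplicit false

namespace Cfsg.Agent.N2.Ex.Mu.Sd

open Cfsg
open Cfsg.Agent.H290.ElReg (Fth)

/-- order `t`, `|Aut|` divides `ou * t`, degrees at least `R`, pairs `(r, n)` with `El q N r n` -/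
structure Rec where
  t : ℕ
  ou : ℕ
  R : ℕ
  el : List (ℕ × ℕ)

/-- the record `x` describes `N` -/
structure Ok (p f : ℕ) (N : Type) [Group N] (x : Rec) : Prop where
  card : Nat.card N = x.t
  aut : Nat.card (MulAut N) ∣ x.ou * x.t
  pos : 0 < x.ou
  deg : ∀ (K : Type) [Field K] [CharP K p] (n : ℕ), Fth n K N → x.R ≤ n
  el : ∀ y ∈ x.el, El (p ^ f) N y.1 y.2

/-- oplus4(2), S4(7), U4(3), A10, psp3(2), J2*, U3(5), A9, psl3(4), L2(49), psu4(2), psl4(2), U3(3), A7, psl2(8), A6, psl3(2), psl2(4) -/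
def L2 : List Rec := [
    ⟨174182400, 6, 0, [(3, 2), (5, 4), (7, 6)]⟩, ⟨138297600, 2, 24, [(3, 2), (5, 4), (7, 6)]⟩,
    ⟨3265920, 8, 18, [(3, 2), (5, 4), (7, 6)]⟩, ⟨1814400, 2, 8, [(3, 2), (5, 4), (7, 6)]⟩,
    ⟨1451520, 1, 0, [(3, 2), (5, 4), (7, 6)]⟩, ⟨604800, 2, 6, [(3, 2), (5, 4), (7, 6)]⟩,
    ⟨126000, 6, 20, [(3, 2), (5, 4), (7, 6)]⟩, ⟨181440, 2, 7, [(3, 2), (5, 4), (7, 6)]⟩, ⟨20160, 12, 0, [(3, 2), (5, 4), (7, 6)]⟩,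
    ⟨58800, 4, 24, [(3, 2), (5, 4), (7, 6)]⟩, ⟨25920, 2, 0, [(3, 2), (5, 4)]⟩, ⟨20160, 2, 0, [(3, 2), (5, 4), (7, 6)]⟩,
    ⟨6048, 2, 6, [(3, 2), (7, 6)]⟩, ⟨2520, 2, 4, [(3, 2), (5, 4), (7, 6)]⟩, ⟨504, 3, 0, [(3, 2), (7, 6)]⟩,
    ⟨360, 4, 4, [(3, 2), (5, 4)]⟩, ⟨168, 2, 0, [(3, 2), (7, 6)]⟩, ⟨60, 2, 0, [(3, 2), (5, 4)]⟩]

/-- oplus4(3), psp3(3)/oodd3(3), S4(8), O+8(2), 3D4(2), G2(4), S4(7), psl3(9), Tits, psu4(3), psl4(3), S4(5), g2(3), A10, L2(64), S6(2), J2, U3(5), A9, U3(4), L3(4), L2(49), Sz(8), psl2(27), psp2(3), A8, L2(25), psu3(3), psl3(3), A7, L2(13), L2(8), psl2(9), L2(7), A5 -/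
def L3 : List Rec := [
    ⟨4952179814400, 24, 3, [(5, 4), (7, 6), (13, 6)]⟩, ⟨4585351680, 2, 3, [(5, 4), (7, 6), (13, 6)]⟩,
    ⟨1056706560, 6, 63, [(5, 4), (7, 6), (13, 6)]⟩, ⟨174182400, 6, 16, [(5, 4), (7, 6)]⟩, ⟨211341312, 3, 16, [(7, 6), (13, 6)]⟩,
    ⟨251596800, 2, 12, [(5, 4), (7, 6), (13, 6)]⟩, ⟨138297600, 2, 24, [(5, 4), (7, 6)]⟩,
    ⟨42456960, 4, 3, [(5, 4), (7, 6), (13, 6)]⟩, ⟨17971200, 2, 24, [(5, 4), (13, 6)]⟩, ⟨3265920, 8, 3, [(5, 4), (7, 6)]⟩,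
    ⟨6065280, 4, 3, [(5, 4), (13, 6)]⟩, ⟨4680000, 2, 12, [(5, 4), (13, 6)]⟩, ⟨4245696, 2, 3, [(7, 6), (13, 6)]⟩,
    ⟨1814400, 2, 8, [(5, 4), (7, 6)]⟩, ⟨262080, 6, 63, [(5, 4), (7, 6), (13, 6)]⟩, ⟨1451520, 1, 7, [(5, 4), (7, 6)]⟩,
    ⟨604800, 2, 12, [(5, 4), (7, 6)]⟩, ⟨126000, 6, 20, [(5, 4), (7, 6)]⟩, ⟨181440, 2, 7, [(5, 4), (7, 6)]⟩,
    ⟨62400, 4, 12, [(5, 4), (13, 6)]⟩, ⟨20160, 12, 15, [(5, 4), (7, 6)]⟩, ⟨58800, 4, 24, [(5, 4), (7, 6)]⟩,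
    ⟨29120, 3, 7, [(5, 4), (7, 6), (13, 6)]⟩, ⟨9828, 6, 3, [(7, 6), (13, 6)]⟩, ⟨25920, 2, 3, [(5, 4)]⟩,
    ⟨20160, 2, 7, [(5, 4), (7, 6)]⟩, ⟨7800, 4, 12, [(5, 4), (13, 6)]⟩, ⟨6048, 2, 3, [(7, 6)]⟩, ⟨5616, 2, 3, [(13, 6)]⟩,
    ⟨2520, 2, 4, [(5, 4), (7, 6)]⟩, ⟨1092, 2, 6, [(7, 6), (13, 6)]⟩, ⟨504, 3, 7, [(7, 6)]⟩, ⟨360, 4, 3, [(5, 4)]⟩,
    ⟨168, 2, 3, [(7, 6)]⟩, ⟨60, 2, 3, [(5, 4)]⟩]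

/-- oplus4(4), psp3(4), psl3(16), S6(3), He, psu4(4), psl4(4), oplus4(2), g2(4), ominus4(2), S4(7), L3(9), Tits, U4(3), L4(3), S4(5), G2(3), psp2(4), A10, psl2(64), psp3(2), J2*, U3(5), A9, psu3(4), psl3(4), L2(49), L2(27), psu4(2), psl4(2), L2(25), psl2(16), U3(3), L3(3), A7, L2(17), L2(13), psl2(8), A6, psl3(2), psl2(4) -/
def L4 : List Rec := [
    ⟨67010895544320000, 12, 0, [(3, 2), (5, 2), (7, 6), (13, 6), (17, 4)]⟩,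
    ⟨4106059776000, 2, 0, [(3, 2), (5, 2), (7, 6), (13, 6), (17, 4)]⟩,
    ⟨1425715200, 24, 0, [(3, 2), (5, 2), (7, 6), (13, 6), (17, 4)]⟩, ⟨4585351680, 2, 13, [(3, 2), (5, 2), (7, 6), (13, 6)]⟩,
    ⟨4030387200, 2, 42, [(3, 2), (5, 2), (7, 6), (17, 4)]⟩, ⟨1018368000, 4, 0, [(3, 2), (5, 2), (13, 6), (17, 4)]⟩,
    ⟨987033600, 4, 0, [(3, 2), (5, 2), (7, 6), (17, 4)]⟩, ⟨174182400, 6, 0, [(3, 2), (5, 4), (7, 6)]⟩,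
    ⟨251596800, 2, 0, [(3, 2), (5, 2), (7, 6), (13, 6)]⟩, ⟨197406720, 2, 0, [(3, 2), (5, 4), (7, 6), (17, 4)]⟩,
    ⟨138297600, 2, 24, [(3, 2), (5, 2), (7, 6)]⟩, ⟨42456960, 4, 80, [(3, 2), (5, 2), (7, 6), (13, 6)]⟩,
    ⟨17971200, 2, 24, [(3, 2), (5, 2), (13, 6)]⟩, ⟨3265920, 8, 18, [(3, 2), (5, 2), (7, 6)]⟩,
    ⟨6065280, 4, 26, [(3, 2), (5, 2), (13, 6)]⟩, ⟨4680000, 2, 12, [(3, 2), (5, 2), (13, 6)]⟩,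
    ⟨4245696, 2, 14, [(3, 2), (7, 6), (13, 6)]⟩, ⟨979200, 4, 0, [(3, 2), (5, 2), (17, 4)]⟩,
    ⟨1814400, 2, 8, [(3, 2), (5, 2), (7, 6)]⟩, ⟨262080, 6, 0, [(3, 2), (5, 2), (7, 6), (13, 6)]⟩,
    ⟨1451520, 1, 0, [(3, 2), (5, 4), (7, 6)]⟩, ⟨604800, 2, 6, [(3, 2), (5, 2), (7, 6)]⟩,
    ⟨126000, 6, 20, [(3, 2), (5, 2), (7, 6)]⟩, ⟨181440, 2, 7, [(3, 2), (5, 2), (7, 6)]⟩, ⟨62400, 4, 0, [(3, 2), (5, 2), (13, 6)]⟩,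
    ⟨20160, 12, 0, [(3, 2), (5, 2), (7, 6)]⟩, ⟨58800, 4, 24, [(3, 2), (5, 2), (7, 6)]⟩, ⟨9828, 6, 13, [(3, 2), (7, 6), (13, 6)]⟩,
    ⟨25920, 2, 0, [(3, 2), (5, 4)]⟩, ⟨20160, 2, 0, [(3, 2), (5, 4), (7, 6)]⟩, ⟨7800, 4, 12, [(3, 2), (5, 2), (13, 6)]⟩,
    ⟨4080, 4, 0, [(3, 2), (5, 2), (17, 4)]⟩, ⟨6048, 2, 6, [(3, 2), (7, 6)]⟩, ⟨5616, 2, 8, [(3, 2), (13, 6)]⟩,
    ⟨2520, 2, 4, [(3, 2), (5, 2), (7, 6)]⟩, ⟨2448, 2, 8, [(3, 2), (17, 4)]⟩, ⟨1092, 2, 6, [(3, 2), (7, 6), (13, 6)]⟩,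
    ⟨504, 3, 0, [(3, 2), (7, 6)]⟩, ⟨360, 4, 4, [(3, 2), (5, 2)]⟩, ⟨168, 2, 0, [(3, 2), (7, 6)]⟩, ⟨60, 2, 0, [(3, 2), (5, 2)]⟩]

/-- oplus4(5), psp3(5)/oodd3(5), psl3(25), psu4(5), psl4(5), L6(2), S6(3), S4(8), g2(5), O+8(2), 3D4(2), G2(4), S4(7), L3(9), Tits*, U4(3), L4(3), L5(2), psp2(5), G2(3), psl2(125), A10, L2(64), S6(2), J2, psu3(5), psl3(5), A9, U3(4), L3(4), L2(49), Sz(8), L2(27), U4(2), A8, psl2(25), L2(31), U3(3), L3(3), A7, L2(13), L2(8), A6, L2(7), psl2(5) -/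
def L5 : List Rec := [
    ⟨8911539000000000000, 24, 3, [(3, 2), (7, 6), (13, 4), (31, 6)]⟩, ⟨228501000000000, 2, 3, [(3, 2), (7, 6), (13, 4), (31, 6)]⟩,
    ⟨50778000000, 12, 3, [(3, 2), (7, 6), (13, 4), (31, 6)]⟩, ⟨14742000000, 4, 3, [(3, 2), (7, 6), (13, 4)]⟩,
    ⟨7254000000, 8, 3, [(3, 2), (13, 4), (31, 6)]⟩, ⟨20158709760, 2, 31, [(3, 2), (7, 6), (31, 6)]⟩,
    ⟨4585351680, 2, 13, [(3, 2), (7, 6), (13, 4)]⟩, ⟨1056706560, 6, 63, [(3, 2), (7, 6), (13, 4)]⟩,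
    ⟨5859000000, 1, 3, [(3, 2), (7, 6), (31, 6)]⟩, ⟨174182400, 6, 16, [(3, 2), (7, 6)]⟩,
    ⟨211341312, 3, 16, [(3, 2), (7, 6), (13, 4)]⟩, ⟨251596800, 2, 12, [(3, 2), (7, 6), (13, 4)]⟩,
    ⟨138297600, 2, 24, [(3, 2), (7, 6)]⟩, ⟨42456960, 4, 80, [(3, 2), (7, 6), (13, 4)]⟩, ⟨17971200, 2, 16, [(3, 2), (13, 4)]⟩,
    ⟨3265920, 8, 18, [(3, 2), (7, 6)]⟩, ⟨6065280, 4, 26, [(3, 2), (13, 4)]⟩, ⟨9999360, 2, 15, [(3, 2), (7, 6), (31, 6)]⟩,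
    ⟨4680000, 2, 3, [(3, 2), (13, 4)]⟩, ⟨4245696, 2, 14, [(3, 2), (7, 6), (13, 4)]⟩, ⟨976500, 6, 3, [(3, 2), (7, 6), (31, 6)]⟩,
    ⟨1814400, 2, 8, [(3, 2), (7, 6)]⟩, ⟨262080, 6, 63, [(3, 2), (7, 6), (13, 4)]⟩, ⟨1451520, 1, 7, [(3, 2), (7, 6)]⟩,
    ⟨604800, 2, 12, [(3, 2), (7, 6)]⟩, ⟨126000, 6, 3, [(3, 2), (7, 6)]⟩, ⟨372000, 2, 3, [(3, 2), (31, 6)]⟩,
    ⟨181440, 2, 7, [(3, 2), (7, 6)]⟩, ⟨62400, 4, 12, [(3, 2), (13, 4)]⟩, ⟨20160, 12, 15, [(3, 2), (7, 6)]⟩,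
    ⟨58800, 4, 24, [(3, 2), (7, 6)]⟩, ⟨29120, 3, 7, [(7, 6), (13, 4)]⟩, ⟨9828, 6, 13, [(3, 2), (7, 6), (13, 4)]⟩,
    ⟨25920, 2, 4, [(3, 2)]⟩, ⟨20160, 2, 7, [(3, 2), (7, 6)]⟩, ⟨7800, 4, 3, [(3, 2), (13, 4)]⟩, ⟨14880, 2, 15, [(3, 2), (31, 6)]⟩,
    ⟨6048, 2, 6, [(3, 2), (7, 6)]⟩, ⟨5616, 2, 8, [(3, 2), (13, 4)]⟩, ⟨2520, 2, 4, [(3, 2), (7, 6)]⟩,
    ⟨1092, 2, 6, [(3, 2), (7, 6), (13, 4)]⟩, ⟨504, 3, 7, [(3, 2), (7, 6)]⟩, ⟨360, 4, 4, [(3, 2)]⟩, ⟨168, 2, 3, [(3, 2), (7, 6)]⟩,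
    ⟨60, 2, 3, [(3, 2)]⟩]

/-- oplus4(7), psp3(7)/oodd3(7), psl3(49), psu4(7), psl4(7), g2(7), O+8(2), psp2(7), psl2(343), U3(8), U4(3), psu3(7), psl3(7), A10, S6(2), J2, U3(5), A9, L3(4), psl2(49), U4(2), A8, U3(3), L2(19), A7, L2(8), A6, psl2(7), A5 -/
def L7 : List Rec := [
    ⟨112554991177798901760000, 24, 3, [(3, 2), (5, 4), (19, 6), (43, 6)]⟩,
    ⟨273457218604953600, 2, 3, [(3, 2), (5, 4), (19, 6), (43, 6)]⟩, ⟨11072935641600, 12, 3, [(3, 2), (5, 4), (19, 6), (43, 6)]⟩,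
    ⟨1165572172800, 8, 3, [(3, 2), (5, 4), (43, 6)]⟩, ⟨2317591180800, 4, 3, [(3, 2), (5, 4), (19, 6)]⟩,
    ⟨664376138496, 1, 3, [(3, 2), (19, 6), (43, 6)]⟩, ⟨174182400, 6, 16, [(3, 2), (5, 4)]⟩, ⟨138297600, 2, 3, [(3, 2), (5, 4)]⟩,
    ⟨20176632, 6, 3, [(3, 2), (19, 6), (43, 6)]⟩, ⟨5515776, 18, 56, [(3, 2), (19, 6)]⟩, ⟨3265920, 8, 18, [(3, 2), (5, 4)]⟩,
    ⟨5663616, 2, 3, [(3, 2), (43, 6)]⟩, ⟨1876896, 6, 3, [(3, 2), (19, 6)]⟩, ⟨1814400, 2, 8, [(3, 2), (5, 4)]⟩,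
    ⟨1451520, 1, 7, [(3, 2), (5, 4)]⟩, ⟨604800, 2, 12, [(3, 2), (5, 4)]⟩, ⟨126000, 6, 20, [(3, 2), (5, 4)]⟩,
    ⟨181440, 2, 7, [(3, 2), (5, 4)]⟩, ⟨20160, 12, 15, [(3, 2), (5, 4)]⟩, ⟨58800, 4, 3, [(3, 2), (5, 4)]⟩,
    ⟨25920, 2, 4, [(3, 2), (5, 4)]⟩, ⟨20160, 2, 7, [(3, 2), (5, 4)]⟩, ⟨6048, 2, 6, [(3, 2)]⟩,
    ⟨3420, 2, 9, [(3, 2), (5, 4), (19, 6)]⟩, ⟨2520, 2, 4, [(3, 2), (5, 4)]⟩, ⟨504, 3, 7, [(3, 2)]⟩, ⟨360, 4, 4, [(3, 2), (5, 4)]⟩,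
    ⟨168, 2, 3, [(3, 2)]⟩, ⟨60, 2, 3, [(3, 2), (5, 4)]⟩]

/-- oplus4(8), psp3(8), psl3(64), psu4(8), psl4(8), G2(9), g2(8), S6(3), psp2(8), psl2(512), oplus4(2), td4(2), S4(7), U3(9), L3(9), psu3(8), psl3(8), Tits, U4(3), L4(3), L3(7), S4(5), G2(3), A10, psl2(64), psp3(2), J2*, U3(5), A9, psl3(4), L2(49), sz(8), L2(27), psu4(2), psl4(2), L2(25), U3(3), L3(3), L2(19), A7, L2(13), psl2(8), A6, psl3(2), psl2(4) -/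
def L8 : List Rec := [
    ⟨19031213036231093492121600, 18, 0, [(3, 2), (5, 4), (7, 2), (13, 4), (19, 6), (73, 6)]⟩,
    ⟨9077005607176765440, 3, 0, [(3, 2), (5, 4), (7, 2), (13, 4), (19, 6), (73, 6)]⟩,
    ⟨93801727918080, 36, 0, [(3, 2), (5, 4), (7, 2), (13, 4), (19, 6), (73, 6)]⟩,
    ⟨34693789777920, 6, 0, [(3, 2), (5, 4), (7, 2), (13, 4), (19, 6)]⟩,
    ⟨34558531338240, 6, 0, [(3, 2), (5, 4), (7, 2), (13, 4), (73, 6)]⟩,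
    ⟨22594320403200, 4, 72, [(3, 2), (5, 4), (7, 2), (13, 4), (73, 6)]⟩,
    ⟨4329310519296, 3, 0, [(3, 2), (7, 2), (19, 6), (73, 6)]⟩, ⟨4585351680, 2, 13, [(3, 2), (5, 4), (7, 2), (13, 4)]⟩,
    ⟨1056706560, 6, 0, [(3, 2), (5, 4), (7, 2), (13, 4)]⟩, ⟨134217216, 9, 0, [(3, 2), (7, 2), (19, 6), (73, 6)]⟩,
    ⟨174182400, 6, 0, [(3, 2), (5, 4), (7, 6)]⟩, ⟨211341312, 3, 0, [(3, 2), (7, 6), (13, 4)]⟩,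
    ⟨138297600, 2, 24, [(3, 2), (5, 4), (7, 2)]⟩, ⟨42573600, 4, 72, [(3, 2), (5, 4), (73, 6)]⟩,
    ⟨42456960, 4, 80, [(3, 2), (5, 4), (7, 2), (13, 4)]⟩, ⟨5515776, 18, 0, [(3, 2), (7, 2), (19, 6)]⟩,
    ⟨16482816, 6, 0, [(3, 2), (7, 2), (73, 6)]⟩, ⟨17971200, 2, 24, [(3, 2), (5, 4), (13, 4)]⟩,
    ⟨3265920, 8, 18, [(3, 2), (5, 4), (7, 2)]⟩, ⟨6065280, 4, 26, [(3, 2), (5, 4), (13, 4)]⟩,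
    ⟨1876896, 6, 48, [(3, 2), (7, 2), (19, 6)]⟩, ⟨4680000, 2, 12, [(3, 2), (5, 4), (13, 4)]⟩,
    ⟨4245696, 2, 14, [(3, 2), (7, 2), (13, 4)]⟩, ⟨1814400, 2, 8, [(3, 2), (5, 4), (7, 2)]⟩,
    ⟨262080, 6, 0, [(3, 2), (5, 4), (7, 2), (13, 4)]⟩, ⟨1451520, 1, 0, [(3, 2), (5, 4), (7, 6)]⟩,
    ⟨604800, 2, 6, [(3, 2), (5, 4), (7, 2)]⟩, ⟨126000, 6, 20, [(3, 2), (5, 4), (7, 2)]⟩, ⟨181440, 2, 7, [(3, 2), (5, 4), (7, 2)]⟩,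
    ⟨20160, 12, 0, [(3, 2), (5, 4), (7, 6)]⟩, ⟨58800, 4, 24, [(3, 2), (5, 4), (7, 2)]⟩, ⟨29120, 3, 0, [(5, 4), (7, 2), (13, 4)]⟩,
    ⟨9828, 6, 13, [(3, 2), (7, 2), (13, 4)]⟩, ⟨25920, 2, 0, [(3, 2), (5, 4)]⟩, ⟨20160, 2, 0, [(3, 2), (5, 4), (7, 6)]⟩,
    ⟨7800, 4, 12, [(3, 2), (5, 4), (13, 4)]⟩, ⟨6048, 2, 6, [(3, 2), (7, 2)]⟩, ⟨5616, 2, 8, [(3, 2), (13, 4)]⟩,
    ⟨3420, 2, 9, [(3, 2), (5, 4), (19, 6)]⟩, ⟨2520, 2, 4, [(3, 2), (5, 4), (7, 2)]⟩, ⟨1092, 2, 6, [(3, 2), (7, 2), (13, 4)]⟩,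
    ⟨504, 3, 0, [(3, 2), (7, 2)]⟩, ⟨360, 4, 4, [(3, 2), (5, 4)]⟩, ⟨168, 2, 0, [(3, 2), (7, 6)]⟩, ⟨60, 2, 0, [(3, 2), (5, 4)]⟩]

/-- oplus4(9), psp3(9)/oodd3(9), oodd4(3), psl3(81), psu4(9), psl4(9), oplus4(3), g2(9), ominus4(3), psp3(3)/oodd3(3), psp2(9), S4(8), psl2(729), O+8(2), 3D4(2), G2(4), S4(7), psu3(9), psl3(9), L3(8), Tits, psu4(3), psl4(3), S4(5), g2(3), A10, psl2(81), L2(64), S6(2), J2, U3(5), A9, U3(4), L3(4), L2(49), Sz(8), L2(41), psl2(27), psp2(3), A8, L2(25), psu3(3), psl3(3), A7, L2(13), L2(8), psl2(9), L2(7), A5 -/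
def L9 : List Rec := [
    ⟨129182006871144805294080000, 48, 3, [(5, 2), (7, 6), (13, 6), (41, 4), (73, 6)]⟩,
    ⟨54025731402499584000, 4, 3, [(5, 2), (7, 6), (13, 6), (41, 4), (73, 6)]⟩,
    ⟨65784756654489600, 2, 3, [(5, 4), (7, 6), (13, 6), (41, 4)]⟩,
    ⟨1852734273062400, 8, 3, [(5, 2), (7, 6), (13, 6), (41, 4), (73, 6)]⟩, ⟨101798586432000, 8, 3, [(5, 2), (41, 4), (73, 6)]⟩,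
    ⟨50759843097600, 16, 3, [(5, 2), (7, 6), (13, 6), (41, 4)]⟩, ⟨4952179814400, 24, 3, [(5, 4), (7, 6), (13, 6)]⟩,
    ⟨22594320403200, 4, 3, [(5, 2), (7, 6), (13, 6), (73, 6)]⟩, ⟨10151968619520, 4, 3, [(5, 4), (7, 6), (13, 6), (41, 4)]⟩,
    ⟨4585351680, 2, 3, [(5, 4), (7, 6), (13, 6)]⟩, ⟨1721606400, 4, 3, [(5, 2), (41, 4)]⟩,
    ⟨1056706560, 6, 63, [(5, 2), (7, 6), (13, 6)]⟩, ⟨193709880, 12, 3, [(5, 2), (7, 6), (13, 6), (73, 6)]⟩,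
    ⟨174182400, 6, 16, [(5, 2), (7, 6)]⟩, ⟨211341312, 3, 16, [(7, 6), (13, 6)]⟩, ⟨251596800, 2, 12, [(5, 2), (7, 6), (13, 6)]⟩,
    ⟨138297600, 2, 24, [(5, 2), (7, 6)]⟩, ⟨42573600, 4, 3, [(5, 2), (73, 6)]⟩, ⟨42456960, 4, 3, [(5, 2), (7, 6), (13, 6)]⟩,
    ⟨16482816, 6, 63, [(7, 6), (73, 6)]⟩, ⟨17971200, 2, 24, [(5, 2), (13, 6)]⟩, ⟨3265920, 8, 3, [(5, 4), (7, 6)]⟩,
    ⟨6065280, 4, 3, [(5, 4), (13, 6)]⟩, ⟨4680000, 2, 12, [(5, 2), (13, 6)]⟩, ⟨4245696, 2, 3, [(7, 6), (13, 6)]⟩,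
    ⟨1814400, 2, 8, [(5, 2), (7, 6)]⟩, ⟨265680, 8, 3, [(5, 2), (41, 4)]⟩, ⟨262080, 6, 63, [(5, 2), (7, 6), (13, 6)]⟩,
    ⟨1451520, 1, 7, [(5, 2), (7, 6)]⟩, ⟨604800, 2, 12, [(5, 2), (7, 6)]⟩, ⟨126000, 6, 20, [(5, 2), (7, 6)]⟩,
    ⟨181440, 2, 7, [(5, 2), (7, 6)]⟩, ⟨62400, 4, 12, [(5, 2), (13, 6)]⟩, ⟨20160, 12, 15, [(5, 2), (7, 6)]⟩,
    ⟨58800, 4, 24, [(5, 2), (7, 6)]⟩, ⟨29120, 3, 7, [(5, 2), (7, 6), (13, 6)]⟩, ⟨34440, 2, 20, [(5, 2), (7, 6), (41, 4)]⟩,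
    ⟨9828, 6, 3, [(7, 6), (13, 6)]⟩, ⟨25920, 2, 3, [(5, 4)]⟩, ⟨20160, 2, 7, [(5, 2), (7, 6)]⟩, ⟨7800, 4, 12, [(5, 2), (13, 6)]⟩,
    ⟨6048, 2, 3, [(7, 6)]⟩, ⟨5616, 2, 3, [(13, 6)]⟩, ⟨2520, 2, 4, [(5, 2), (7, 6)]⟩, ⟨1092, 2, 6, [(7, 6), (13, 6)]⟩,
    ⟨504, 3, 7, [(7, 6)]⟩, ⟨360, 4, 3, [(5, 2)]⟩, ⟨168, 2, 3, [(7, 6)]⟩, ⟨60, 2, 3, [(5, 2)]⟩]

/-- oplus4(11), psp3(11)/oodd3(11), psl3(121), psu4(11), psl4(11), HN, g2(11), U5(3), U6(2), psp2(11), psl2(1331), McL, O+8(2), A12, psu3(11), psl3(11), S4(7), U3(8), HS, A11, U5(2), U4(3), L3(7), A10, psl2(121), S6(2), J2, M22, U3(5), A9, J1*, L3(4), L2(49), M12, U4(2), L2(37), A8, M11, U3(3), L2(19), A7, L2(8), A6, psl2(11), L2(7), A5 -/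
def L11 : List Rec := [
    ⟨35749625435272978955066880000, 24, 3, [(3, 2), (5, 2), (7, 6), (19, 6), (37, 6), (61, 4)]⟩,
    ⟨3669292720793456064000, 2, 3, [(3, 2), (5, 2), (7, 6), (19, 6), (37, 6), (61, 4)]⟩,
    ⟨15315521833180800, 12, 3, [(3, 2), (5, 2), (7, 6), (19, 6), (37, 6), (61, 4)]⟩,
    ⟨1036388695478400, 8, 3, [(3, 2), (5, 2), (37, 6), (61, 4)]⟩,
    ⟨2069665112592000, 4, 3, [(3, 2), (5, 2), (7, 6), (19, 6), (61, 4)]⟩,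
    ⟨273030912000000, 2, 20, [(3, 2), (5, 2), (7, 6), (19, 6)]⟩,
    ⟨376611192619200, 1, 3, [(3, 2), (5, 2), (7, 6), (19, 6), (37, 6)]⟩, ⟨258190571520, 2, 54, [(3, 2), (5, 2), (7, 6), (61, 4)]⟩,
    ⟨9196830720, 6, 16, [(3, 2), (5, 2), (7, 6)]⟩, ⟨12860654400, 2, 3, [(3, 2), (5, 2), (61, 4)]⟩,
    ⟨1178973180, 6, 3, [(3, 2), (5, 2), (7, 6), (19, 6), (37, 6)]⟩, ⟨898128000, 2, 20, [(3, 2), (5, 2), (7, 6)]⟩,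
    ⟨174182400, 6, 16, [(3, 2), (5, 2), (7, 6)]⟩, ⟨239500800, 2, 10, [(3, 2), (5, 2), (7, 6)]⟩,
    ⟨70915680, 6, 3, [(3, 2), (5, 2), (37, 6)]⟩, ⟨212427600, 2, 3, [(3, 2), (5, 2), (7, 6), (19, 6)]⟩,
    ⟨138297600, 2, 24, [(3, 2), (5, 2), (7, 6)]⟩, ⟨5515776, 18, 56, [(3, 2), (7, 6), (19, 6)]⟩,
    ⟨44352000, 2, 15, [(3, 2), (5, 2), (7, 6)]⟩, ⟨19958400, 2, 9, [(3, 2), (5, 2), (7, 6)]⟩, ⟨13685760, 2, 8, [(3, 2), (5, 2)]⟩,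
    ⟨3265920, 8, 18, [(3, 2), (5, 2), (7, 6)]⟩, ⟨1876896, 6, 48, [(3, 2), (7, 6), (19, 6)]⟩,
    ⟨1814400, 2, 8, [(3, 2), (5, 2), (7, 6)]⟩, ⟨885720, 4, 3, [(3, 2), (5, 2), (61, 4)]⟩,
    ⟨1451520, 1, 7, [(3, 2), (5, 2), (7, 6)]⟩, ⟨604800, 2, 12, [(3, 2), (5, 2), (7, 6)]⟩,
    ⟨443520, 2, 15, [(3, 2), (5, 2), (7, 6)]⟩, ⟨126000, 6, 20, [(3, 2), (5, 2), (7, 6)]⟩,
    ⟨181440, 2, 7, [(3, 2), (5, 2), (7, 6)]⟩, ⟨175560, 2, 6, [(3, 2), (5, 2), (7, 6), (19, 6)]⟩,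
    ⟨20160, 12, 15, [(3, 2), (5, 2), (7, 6)]⟩, ⟨58800, 4, 24, [(3, 2), (5, 2), (7, 6)]⟩, ⟨95040, 2, 8, [(3, 2), (5, 2)]⟩,
    ⟨25920, 2, 4, [(3, 2), (5, 2)]⟩, ⟨25308, 2, 18, [(3, 2), (19, 6), (37, 6)]⟩, ⟨20160, 2, 7, [(3, 2), (5, 2), (7, 6)]⟩,
    ⟨7920, 2, 8, [(3, 2), (5, 2)]⟩, ⟨6048, 2, 6, [(3, 2), (7, 6)]⟩, ⟨3420, 2, 9, [(3, 2), (5, 2), (19, 6)]⟩,
    ⟨2520, 2, 4, [(3, 2), (5, 2), (7, 6)]⟩, ⟨504, 3, 7, [(3, 2), (7, 6)]⟩, ⟨360, 4, 4, [(3, 2), (5, 2)]⟩,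
    ⟨660, 2, 3, [(3, 2), (5, 2)]⟩, ⟨168, 2, 3, [(3, 2), (7, 6)]⟩, ⟨60, 2, 3, [(3, 2), (5, 2)]⟩]

/-- oplus4(13), psp3(13)/oodd3(13), psl3(169), psu4(13), psl4(13), g2(13), S6(4), U5(3), psp2(13), S8(2), psl2(2197), S6(3), He, S4(8), U4(4), L4(4), psu3(13), psl3(13), O+8(2), 3D4(2), G2(4), O-8(2), S4(7), L3(9), Tits, U4(3), L4(3), psl2(169), S4(5), G2(3), S4(4), A10, L2(64), S6(2), J2, U3(5), A9, U3(4), L3(4), L2(49), Sz(8), L2(27), U4(2), A8, L2(25), L2(16), U3(3), L3(3), A7, L2(17), psl2(13), L2(8), A6, L2(7), A5 -/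
def L13 : List Rec := [
    ⟨3852529280222076255464396697600, 24, 3, [(3, 2), (5, 4), (7, 2), (17, 4), (61, 6), (157, 6)]⟩,
    ⟨122796979335906113871360, 2, 3, [(3, 2), (5, 4), (7, 2), (17, 4), (61, 6), (157, 6)]⟩,
    ⟨221797724414797440, 12, 3, [(3, 2), (5, 4), (7, 2), (17, 4), (61, 6), (157, 6)]⟩,
    ⟨25452197883665280, 4, 3, [(3, 2), (5, 4), (7, 2), (17, 4), (157, 6)]⟩,
    ⟨12714519233969280, 8, 3, [(3, 2), (5, 4), (7, 2), (17, 4), (61, 6)]⟩,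
    ⟨3914077489672896, 1, 3, [(3, 2), (7, 2), (61, 6), (157, 6)]⟩, ⟨4106059776000, 2, 63, [(3, 2), (5, 4), (7, 2), (17, 4)]⟩,
    ⟨258190571520, 2, 54, [(3, 2), (5, 4), (7, 2), (61, 6)]⟩, ⟨68518981440, 2, 3, [(3, 2), (5, 4), (7, 2), (17, 4)]⟩,
    ⟨47377612800, 1, 15, [(3, 2), (5, 4), (7, 2), (17, 4)]⟩, ⟨5302248588, 6, 3, [(3, 2), (7, 2), (61, 6), (157, 6)]⟩,
    ⟨4585351680, 2, 13, [(3, 2), (5, 4), (7, 2)]⟩, ⟨4030387200, 2, 42, [(3, 2), (5, 4), (7, 2), (17, 4)]⟩,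
    ⟨1056706560, 6, 63, [(3, 2), (5, 4), (7, 2)]⟩, ⟨1018368000, 4, 48, [(3, 2), (5, 4), (17, 4)]⟩,
    ⟨987033600, 4, 63, [(3, 2), (5, 4), (7, 2), (17, 4)]⟩, ⟨811273008, 2, 3, [(3, 2), (7, 2), (157, 6)]⟩,
    ⟨270178272, 6, 3, [(3, 2), (7, 2), (61, 6)]⟩, ⟨174182400, 6, 16, [(3, 2), (5, 4), (7, 2)]⟩,
    ⟨211341312, 3, 16, [(3, 2), (7, 2)]⟩, ⟨251596800, 2, 12, [(3, 2), (5, 4), (7, 2)]⟩,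
    ⟨197406720, 2, 16, [(3, 2), (5, 4), (7, 2), (17, 4)]⟩, ⟨138297600, 2, 24, [(3, 2), (5, 4), (7, 2)]⟩,
    ⟨42456960, 4, 80, [(3, 2), (5, 4), (7, 2)]⟩, ⟨17971200, 2, 24, [(3, 2), (5, 4)]⟩, ⟨3265920, 8, 18, [(3, 2), (5, 4), (7, 2)]⟩,
    ⟨6065280, 4, 26, [(3, 2), (5, 4)]⟩, ⟨2413320, 4, 3, [(3, 2), (5, 4), (7, 2), (17, 4)]⟩, ⟨4680000, 2, 12, [(3, 2), (5, 4)]⟩,
    ⟨4245696, 2, 14, [(3, 2), (7, 2)]⟩, ⟨979200, 4, 15, [(3, 2), (5, 4), (17, 4)]⟩, ⟨1814400, 2, 8, [(3, 2), (5, 4), (7, 2)]⟩,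
    ⟨262080, 6, 63, [(3, 2), (5, 4), (7, 2)]⟩, ⟨1451520, 1, 7, [(3, 2), (5, 4), (7, 2)]⟩,
    ⟨604800, 2, 12, [(3, 2), (5, 4), (7, 2)]⟩, ⟨126000, 6, 20, [(3, 2), (5, 4), (7, 2)]⟩,
    ⟨181440, 2, 7, [(3, 2), (5, 4), (7, 2)]⟩, ⟨62400, 4, 12, [(3, 2), (5, 4)]⟩, ⟨20160, 12, 15, [(3, 2), (5, 4), (7, 2)]⟩,
    ⟨58800, 4, 24, [(3, 2), (5, 4), (7, 2)]⟩, ⟨29120, 3, 7, [(5, 4), (7, 2)]⟩, ⟨9828, 6, 13, [(3, 2), (7, 2)]⟩,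
    ⟨25920, 2, 4, [(3, 2), (5, 4)]⟩, ⟨20160, 2, 7, [(3, 2), (5, 4), (7, 2)]⟩, ⟨7800, 4, 12, [(3, 2), (5, 4)]⟩,
    ⟨4080, 4, 15, [(3, 2), (5, 4), (17, 4)]⟩, ⟨6048, 2, 6, [(3, 2), (7, 2)]⟩, ⟨5616, 2, 8, [(3, 2)]⟩,
    ⟨2520, 2, 4, [(3, 2), (5, 4), (7, 2)]⟩, ⟨2448, 2, 8, [(3, 2), (17, 4)]⟩, ⟨1092, 2, 3, [(3, 2), (7, 2)]⟩,
    ⟨504, 3, 7, [(3, 2), (7, 2)]⟩, ⟨360, 4, 4, [(3, 2), (5, 4)]⟩, ⟨168, 2, 3, [(3, 2), (7, 2)]⟩, ⟨60, 2, 3, [(3, 2), (5, 4)]⟩]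

/-- oplus4(16), psp3(16), psl3(256), psu4(16), psl4(16), oplus4(4), g2(16), ominus4(4), psp2(16), psp3(4), psl2(4096), psu3(16), psl3(16), S6(3), He, psu4(4), psl4(4), oplus4(2), g2(4), ominus4(2), S4(7), L3(9), psl2(256), Tits, U4(3), L4(3), S4(5), G2(3), psp2(4), A10, psl2(64), psp3(2), J2*, U3(5), A9, psu3(4), psl3(4), L2(49), L2(27), psu4(2), psl4(2), L2(25), psl2(16), U3(3), L3(3), A7, L2(17), L2(13), psl2(8), A6, psl3(2), psl2(4) -/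
def L16 : List Rec := [
    ⟨5171856304513694291224292229120000, 24, 0, [(3, 2), (5, 2), (7, 6), (13, 6), (17, 2), (241, 6), (257, 4)]⟩,
    ⟨19266960106724096212992000, 4, 0, [(3, 2), (5, 2), (7, 6), (13, 6), (17, 2), (241, 6), (257, 4)]⟩,
    ⟨6148820499745996800, 48, 0, [(3, 2), (5, 2), (7, 6), (13, 6), (17, 2), (241, 6), (257, 4)]⟩,
    ⟨1148680752699801600, 8, 0, [(3, 2), (5, 2), (17, 2), (241, 6), (257, 4)]⟩,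
    ⟨1148120010326016000, 8, 0, [(3, 2), (5, 2), (7, 6), (13, 6), (17, 2), (257, 4)]⟩,
    ⟨67010895544320000, 12, 0, [(3, 2), (5, 2), (7, 6), (13, 6), (17, 4)]⟩,
    ⟨71776114783027200, 4, 0, [(3, 2), (5, 2), (7, 6), (13, 6), (17, 2), (241, 6)]⟩,
    ⟨67536471195648000, 4, 0, [(3, 2), (5, 2), (7, 6), (13, 6), (17, 4), (257, 4)]⟩,
    ⟨1095199948800, 8, 0, [(3, 2), (5, 2), (17, 2), (257, 4)]⟩, ⟨4106059776000, 2, 0, [(3, 2), (5, 2), (7, 6), (13, 6), (17, 4)]⟩,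
    ⟨68719472640, 12, 0, [(3, 2), (5, 2), (7, 6), (13, 6), (17, 2), (241, 6)]⟩,
    ⟨4279234560, 8, 0, [(3, 2), (5, 2), (17, 2), (241, 6)]⟩, ⟨1425715200, 24, 0, [(3, 2), (5, 2), (7, 6), (13, 6), (17, 2)]⟩,
    ⟨4585351680, 2, 13, [(3, 2), (5, 2), (7, 6), (13, 6)]⟩, ⟨4030387200, 2, 42, [(3, 2), (5, 2), (7, 6), (17, 2)]⟩,
    ⟨1018368000, 4, 0, [(3, 2), (5, 2), (13, 6), (17, 4)]⟩, ⟨987033600, 4, 0, [(3, 2), (5, 2), (7, 6), (17, 4)]⟩,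
    ⟨174182400, 6, 0, [(3, 2), (5, 4), (7, 6)]⟩, ⟨251596800, 2, 0, [(3, 2), (5, 2), (7, 6), (13, 6)]⟩,
    ⟨197406720, 2, 0, [(3, 2), (5, 4), (7, 6), (17, 4)]⟩, ⟨138297600, 2, 24, [(3, 2), (5, 2), (7, 6)]⟩,
    ⟨42456960, 4, 80, [(3, 2), (5, 2), (7, 6), (13, 6)]⟩, ⟨16776960, 8, 0, [(3, 2), (5, 2), (17, 2), (257, 4)]⟩,
    ⟨17971200, 2, 24, [(3, 2), (5, 2), (13, 6)]⟩, ⟨3265920, 8, 18, [(3, 2), (5, 2), (7, 6)]⟩,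
    ⟨6065280, 4, 26, [(3, 2), (5, 2), (13, 6)]⟩, ⟨4680000, 2, 12, [(3, 2), (5, 2), (13, 6)]⟩,
    ⟨4245696, 2, 14, [(3, 2), (7, 6), (13, 6)]⟩, ⟨979200, 4, 0, [(3, 2), (5, 2), (17, 4)]⟩,
    ⟨1814400, 2, 8, [(3, 2), (5, 2), (7, 6)]⟩, ⟨262080, 6, 0, [(3, 2), (5, 2), (7, 6), (13, 6)]⟩,
    ⟨1451520, 1, 0, [(3, 2), (5, 4), (7, 6)]⟩, ⟨604800, 2, 6, [(3, 2), (5, 2), (7, 6)]⟩,
    ⟨126000, 6, 20, [(3, 2), (5, 2), (7, 6)]⟩, ⟨181440, 2, 7, [(3, 2), (5, 2), (7, 6)]⟩, ⟨62400, 4, 0, [(3, 2), (5, 2), (13, 6)]⟩,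
    ⟨20160, 12, 0, [(3, 2), (5, 2), (7, 6)]⟩, ⟨58800, 4, 24, [(3, 2), (5, 2), (7, 6)]⟩, ⟨9828, 6, 13, [(3, 2), (7, 6), (13, 6)]⟩,
    ⟨25920, 2, 0, [(3, 2), (5, 4)]⟩, ⟨20160, 2, 0, [(3, 2), (5, 4), (7, 6)]⟩, ⟨7800, 4, 12, [(3, 2), (5, 2), (13, 6)]⟩,
    ⟨4080, 4, 0, [(3, 2), (5, 2), (17, 2)]⟩, ⟨6048, 2, 6, [(3, 2), (7, 6)]⟩, ⟨5616, 2, 8, [(3, 2), (13, 6)]⟩,
    ⟨2520, 2, 4, [(3, 2), (5, 2), (7, 6)]⟩, ⟨2448, 2, 8, [(3, 2), (17, 2)]⟩, ⟨1092, 2, 6, [(3, 2), (7, 6), (13, 6)]⟩,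
    ⟨504, 3, 0, [(3, 2), (7, 6)]⟩, ⟨360, 4, 4, [(3, 2), (5, 2)]⟩, ⟨168, 2, 0, [(3, 2), (7, 6)]⟩, ⟨60, 2, 0, [(3, 2), (5, 2)]⟩]

/-- oplus4(17), psp3(17)/oodd3(17), psl3(289), psu4(17), psl4(17), g2(17), S6(4), psp2(17), psl2(4913), Ru, S8(2), psu3(17), psl3(17), S6(3), He, S4(8), U4(4), L4(4), O+8(2), 3D4(2), G2(4), O-8(2), S4(7), L3(9), psl2(289), Tits, U4(3), L4(3), S4(5), G2(3), S4(4), A10, L2(64), S6(2), J2, U3(5), A9, U3(4), L3(4), L2(49), Sz(8), L2(27), U4(2), A8, L2(25), L2(29), L2(16), U3(3), L3(3), A7, psl2(17), L2(13), L2(8), A6, L2(7), A5 -/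
def L17 : List Rec := [
    ⟨7063078524055113438048890938982400, 24, 3, [(3, 2), (5, 4), (7, 6), (13, 6), (29, 4), (307, 6)]⟩,
    ⟨34426017123500213280276480, 2, 3, [(3, 2), (5, 4), (7, 6), (13, 6), (29, 4), (307, 6)]⟩,
    ⟨16220202412486625280, 12, 3, [(3, 2), (5, 4), (7, 6), (13, 6), (29, 4), (307, 6)]⟩,
    ⟨1426532459730094080, 4, 3, [(3, 2), (5, 4), (7, 6), (13, 6), (29, 4)]⟩,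
    ⟨712975930219192320, 8, 3, [(3, 2), (5, 4), (29, 4), (307, 6)]⟩,
    ⟨167795197370551296, 1, 3, [(3, 2), (7, 6), (13, 6), (307, 6)]⟩, ⟨4106059776000, 2, 63, [(3, 2), (5, 4), (7, 6), (13, 6)]⟩,
    ⟨1004497044480, 2, 3, [(3, 2), (5, 4), (29, 4)]⟩, ⟨59293935792, 6, 3, [(3, 2), (7, 6), (13, 6), (307, 6)]⟩,
    ⟨145926144000, 2, 14, [(3, 2), (5, 4), (7, 6), (13, 6), (29, 4)]⟩, ⟨47377612800, 1, 15, [(3, 2), (5, 4), (7, 6)]⟩,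
    ⟨2317678272, 6, 3, [(3, 2), (7, 6), (13, 6)]⟩, ⟨6950204928, 2, 3, [(3, 2), (307, 6)]⟩,
    ⟨4585351680, 2, 13, [(3, 2), (5, 4), (7, 6), (13, 6)]⟩, ⟨4030387200, 2, 42, [(3, 2), (5, 4), (7, 6)]⟩,
    ⟨1056706560, 6, 63, [(3, 2), (5, 4), (7, 6), (13, 6)]⟩, ⟨1018368000, 4, 48, [(3, 2), (5, 4), (13, 6)]⟩,
    ⟨987033600, 4, 63, [(3, 2), (5, 4), (7, 6)]⟩, ⟨174182400, 6, 16, [(3, 2), (5, 4), (7, 6)]⟩,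
    ⟨211341312, 3, 16, [(3, 2), (7, 6), (13, 6)]⟩, ⟨251596800, 2, 12, [(3, 2), (5, 4), (7, 6), (13, 6)]⟩,
    ⟨197406720, 2, 16, [(3, 2), (5, 4), (7, 6)]⟩, ⟨138297600, 2, 24, [(3, 2), (5, 4), (7, 6)]⟩,
    ⟨42456960, 4, 80, [(3, 2), (5, 4), (7, 6), (13, 6)]⟩, ⟨12068640, 4, 3, [(3, 2), (5, 4), (29, 4)]⟩,
    ⟨17971200, 2, 24, [(3, 2), (5, 4), (13, 6)]⟩, ⟨3265920, 8, 18, [(3, 2), (5, 4), (7, 6)]⟩,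
    ⟨6065280, 4, 26, [(3, 2), (5, 4), (13, 6)]⟩, ⟨4680000, 2, 12, [(3, 2), (5, 4), (13, 6)]⟩,
    ⟨4245696, 2, 14, [(3, 2), (7, 6), (13, 6)]⟩, ⟨979200, 4, 15, [(3, 2), (5, 4)]⟩, ⟨1814400, 2, 8, [(3, 2), (5, 4), (7, 6)]⟩,
    ⟨262080, 6, 63, [(3, 2), (5, 4), (7, 6), (13, 6)]⟩, ⟨1451520, 1, 7, [(3, 2), (5, 4), (7, 6)]⟩,
    ⟨604800, 2, 12, [(3, 2), (5, 4), (7, 6)]⟩, ⟨126000, 6, 20, [(3, 2), (5, 4), (7, 6)]⟩,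
    ⟨181440, 2, 7, [(3, 2), (5, 4), (7, 6)]⟩, ⟨62400, 4, 12, [(3, 2), (5, 4), (13, 6)]⟩,
    ⟨20160, 12, 15, [(3, 2), (5, 4), (7, 6)]⟩, ⟨58800, 4, 24, [(3, 2), (5, 4), (7, 6)]⟩, ⟨29120, 3, 7, [(5, 4), (7, 6), (13, 6)]⟩,
    ⟨9828, 6, 13, [(3, 2), (7, 6), (13, 6)]⟩, ⟨25920, 2, 4, [(3, 2), (5, 4)]⟩, ⟨20160, 2, 7, [(3, 2), (5, 4), (7, 6)]⟩,
    ⟨7800, 4, 12, [(3, 2), (5, 4), (13, 6)]⟩, ⟨12180, 2, 14, [(3, 2), (5, 4), (7, 6), (29, 4)]⟩, ⟨4080, 4, 15, [(3, 2), (5, 4)]⟩,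
    ⟨6048, 2, 6, [(3, 2), (7, 6)]⟩, ⟨5616, 2, 8, [(3, 2), (13, 6)]⟩, ⟨2520, 2, 4, [(3, 2), (5, 4), (7, 6)]⟩,
    ⟨2448, 2, 3, [(3, 2)]⟩, ⟨1092, 2, 6, [(3, 2), (7, 6), (13, 6)]⟩, ⟨504, 3, 7, [(3, 2), (7, 6)]⟩, ⟨360, 4, 4, [(3, 2), (5, 4)]⟩,
    ⟨168, 2, 3, [(3, 2), (7, 6)]⟩, ⟨60, 2, 3, [(3, 2), (5, 4)]⟩]

/-- oplus4(19), psp3(19)/oodd3(19), psl3(361), psu4(19), psl4(19), g2(19), psp2(19), psl2(6859), psu3(19), psl3(19), O+8(2), S4(7), U3(8), psl2(361), U4(3), L3(7), A10, L2(127), S6(2), J2, U3(5), A9, L3(4), L2(49), U4(2), A8, U3(3), psl2(19), A7, L2(8), A6, L2(7), A5 -/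
def L19 : List Rec := [
    ⟨159158361656768411374158632762880000, 24, 3, [(3, 2), (5, 2), (7, 6), (127, 6), (181, 4)]⟩,
    ⟨356112797846512129157952000, 2, 3, [(3, 2), (5, 2), (7, 6), (127, 6), (181, 4)]⟩,
    ⟨96146398040560963200, 12, 3, [(3, 2), (5, 2), (7, 6), (127, 6), (181, 4)]⟩,
    ⟨3785291261439408000, 8, 3, [(3, 2), (5, 2), (7, 6), (181, 4)]⟩,
    ⟨7568375355962524800, 4, 3, [(3, 2), (5, 2), (127, 6), (181, 4)]⟩,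
    ⟨796793353927300800, 1, 3, [(3, 2), (5, 2), (7, 6), (127, 6)]⟩, ⟨3057017889600, 2, 3, [(3, 2), (5, 2), (181, 4)]⟩,
    ⟨161343845460, 6, 3, [(3, 2), (5, 2), (7, 6), (127, 6)]⟩, ⟨16938986400, 2, 3, [(3, 2), (5, 2), (7, 6)]⟩,
    ⟨5644682640, 6, 3, [(3, 2), (5, 2), (127, 6)]⟩, ⟨174182400, 6, 16, [(3, 2), (5, 2), (7, 6)]⟩,
    ⟨138297600, 2, 24, [(3, 2), (5, 2), (7, 6)]⟩, ⟨5515776, 18, 56, [(3, 2), (7, 6)]⟩,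
    ⟨23522760, 4, 3, [(3, 2), (5, 2), (181, 4)]⟩, ⟨3265920, 8, 18, [(3, 2), (5, 2), (7, 6)]⟩, ⟨1876896, 6, 48, [(3, 2), (7, 6)]⟩,
    ⟨1814400, 2, 8, [(3, 2), (5, 2), (7, 6)]⟩, ⟨1024128, 2, 63, [(3, 2), (7, 6), (127, 6)]⟩,
    ⟨1451520, 1, 7, [(3, 2), (5, 2), (7, 6)]⟩, ⟨604800, 2, 12, [(3, 2), (5, 2), (7, 6)]⟩,
    ⟨126000, 6, 20, [(3, 2), (5, 2), (7, 6)]⟩, ⟨181440, 2, 7, [(3, 2), (5, 2), (7, 6)]⟩,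
    ⟨20160, 12, 15, [(3, 2), (5, 2), (7, 6)]⟩, ⟨58800, 4, 24, [(3, 2), (5, 2), (7, 6)]⟩, ⟨25920, 2, 4, [(3, 2), (5, 2)]⟩,
    ⟨20160, 2, 7, [(3, 2), (5, 2), (7, 6)]⟩, ⟨6048, 2, 6, [(3, 2), (7, 6)]⟩, ⟨3420, 2, 3, [(3, 2), (5, 2)]⟩,
    ⟨2520, 2, 4, [(3, 2), (5, 2), (7, 6)]⟩, ⟨504, 3, 7, [(3, 2), (7, 6)]⟩, ⟨360, 4, 4, [(3, 2), (5, 2)]⟩,
    ⟨168, 2, 3, [(3, 2), (7, 6)]⟩, ⟨60, 2, 3, [(3, 2), (5, 2)]⟩]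

/-- oplus4(23), psp3(23)/oodd3(23), psl3(529), psu4(23), psl4(23), g2(23), Co1, Fi22, Co2, psp2(23), A16, psl2(12167), A15, Co3, Suz, L5(3), psu3(23), psl3(23), A14, U6(2), S6(3), S4(8), A13, McL, O+8(2), 3D4(2), G2(4), M24, A12, psl2(529), S4(7), L3(9), HS, A11, Tits, U5(2), U4(3), L4(3), M23, S4(5), G2(3), A10, L2(64), S6(2), J2, M22, U3(5), L2(79), A9, U3(4), L3(4), L2(49), M12, L2(53), Sz(8), L2(27), U4(2), A8, L2(25), M11, psl2(23), U3(3), L3(3), A7, L2(13), L2(8), A6, L2(11), L2(7), A5 -/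
def L23 : List Rec := [
    ⟨33534710450786236362511171962632601600, 24, 3, [(3, 2), (5, 4), (7, 6), (11, 2), (13, 6), (53, 4), (79, 6)]⟩,
    ⟨19698413800116660942130237440, 2, 3, [(3, 2), (5, 4), (7, 6), (11, 2), (13, 6), (53, 4), (79, 6)]⟩,
    ⟨2044196153210067816960, 12, 3, [(3, 2), (5, 4), (7, 6), (11, 2), (13, 6), (53, 4), (79, 6)]⟩,
    ⟨66538030303401845760, 8, 3, [(3, 2), (5, 4), (11, 2), (13, 6), (53, 4)]⟩,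
    ⟨133054187487045834240, 4, 3, [(3, 2), (5, 4), (7, 6), (11, 2), (53, 4), (79, 6)]⟩,
    ⟨11570921621943780096, 1, 3, [(3, 2), (7, 6), (11, 2), (13, 6), (79, 6)]⟩,
    ⟨4157776806543360000, 2, 20, [(3, 2), (5, 4), (7, 6), (11, 2), (13, 6)]⟩,
    ⟨64561751654400, 2, 28, [(3, 2), (5, 4), (7, 6), (11, 2), (13, 6)]⟩,
    ⟨42305421312000, 2, 20, [(3, 2), (5, 4), (7, 6), (11, 2)]⟩, ⟨20674026236160, 2, 3, [(3, 2), (5, 4), (11, 2), (53, 4)]⟩,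
    ⟨10461394944000, 2, 14, [(3, 2), (5, 4), (7, 6), (11, 2), (13, 6)]⟩,
    ⟨900576324648, 6, 3, [(3, 2), (7, 6), (11, 2), (13, 6), (79, 6)]⟩,
    ⟨653837184000, 2, 13, [(3, 2), (5, 4), (7, 6), (11, 2), (13, 6)]⟩, ⟨495766656000, 2, 20, [(3, 2), (5, 4), (7, 6), (11, 2)]⟩,
    ⟨448345497600, 2, 36, [(3, 2), (5, 4), (7, 6), (11, 2), (13, 6)]⟩, ⟨237783237120, 2, 80, [(3, 2), (5, 4), (11, 2), (13, 6)]⟩,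
    ⟨26056457856, 6, 3, [(3, 2), (11, 2), (13, 6)]⟩, ⟨78156525216, 2, 3, [(3, 2), (7, 6), (11, 2), (79, 6)]⟩,
    ⟨43589145600, 2, 12, [(3, 2), (5, 4), (7, 6), (11, 2), (13, 6)]⟩, ⟨9196830720, 6, 16, [(3, 2), (5, 4), (7, 6), (11, 2)]⟩,
    ⟨4585351680, 2, 13, [(3, 2), (5, 4), (7, 6), (13, 6)]⟩, ⟨1056706560, 6, 63, [(3, 2), (5, 4), (7, 6), (13, 6)]⟩,
    ⟨3113510400, 2, 11, [(3, 2), (5, 4), (7, 6), (11, 2), (13, 6)]⟩, ⟨898128000, 2, 20, [(3, 2), (5, 4), (7, 6), (11, 2)]⟩,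
    ⟨174182400, 6, 16, [(3, 2), (5, 4), (7, 6)]⟩, ⟨211341312, 3, 16, [(3, 2), (7, 6), (13, 6)]⟩,
    ⟨251596800, 2, 12, [(3, 2), (5, 4), (7, 6), (13, 6)]⟩, ⟨244823040, 2, 15, [(3, 2), (5, 4), (7, 6), (11, 2)]⟩,
    ⟨239500800, 2, 10, [(3, 2), (5, 4), (7, 6), (11, 2)]⟩, ⟨74017680, 4, 3, [(3, 2), (5, 4), (11, 2), (53, 4)]⟩,
    ⟨138297600, 2, 24, [(3, 2), (5, 4), (7, 6)]⟩, ⟨42456960, 4, 80, [(3, 2), (5, 4), (7, 6), (13, 6)]⟩,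
    ⟨44352000, 2, 15, [(3, 2), (5, 4), (7, 6), (11, 2)]⟩, ⟨19958400, 2, 9, [(3, 2), (5, 4), (7, 6), (11, 2)]⟩,
    ⟨17971200, 2, 24, [(3, 2), (5, 4), (13, 6)]⟩, ⟨13685760, 2, 8, [(3, 2), (5, 4), (11, 2)]⟩,
    ⟨3265920, 8, 18, [(3, 2), (5, 4), (7, 6)]⟩, ⟨6065280, 4, 26, [(3, 2), (5, 4), (13, 6)]⟩,
    ⟨10200960, 2, 15, [(3, 2), (5, 4), (7, 6), (11, 2)]⟩, ⟨4680000, 2, 12, [(3, 2), (5, 4), (13, 6)]⟩,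
    ⟨4245696, 2, 14, [(3, 2), (7, 6), (13, 6)]⟩, ⟨1814400, 2, 8, [(3, 2), (5, 4), (7, 6)]⟩,
    ⟨262080, 6, 63, [(3, 2), (5, 4), (7, 6), (13, 6)]⟩, ⟨1451520, 1, 7, [(3, 2), (5, 4), (7, 6)]⟩,
    ⟨604800, 2, 12, [(3, 2), (5, 4), (7, 6)]⟩, ⟨443520, 2, 15, [(3, 2), (5, 4), (7, 6), (11, 2)]⟩,
    ⟨126000, 6, 20, [(3, 2), (5, 4), (7, 6)]⟩, ⟨246480, 2, 39, [(3, 2), (5, 4), (13, 6), (79, 6)]⟩,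
    ⟨181440, 2, 7, [(3, 2), (5, 4), (7, 6)]⟩, ⟨62400, 4, 12, [(3, 2), (5, 4), (13, 6)]⟩,
    ⟨20160, 12, 15, [(3, 2), (5, 4), (7, 6)]⟩, ⟨58800, 4, 24, [(3, 2), (5, 4), (7, 6)]⟩, ⟨95040, 2, 8, [(3, 2), (5, 4), (11, 2)]⟩,
    ⟨74412, 2, 26, [(3, 2), (13, 6), (53, 4)]⟩, ⟨29120, 3, 7, [(5, 4), (7, 6), (13, 6)]⟩,
    ⟨9828, 6, 13, [(3, 2), (7, 6), (13, 6)]⟩, ⟨25920, 2, 4, [(3, 2), (5, 4)]⟩, ⟨20160, 2, 7, [(3, 2), (5, 4), (7, 6)]⟩,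
    ⟨7800, 4, 12, [(3, 2), (5, 4), (13, 6)]⟩, ⟨7920, 2, 8, [(3, 2), (5, 4), (11, 2)]⟩, ⟨6072, 2, 3, [(3, 2), (11, 2)]⟩,
    ⟨6048, 2, 6, [(3, 2), (7, 6)]⟩, ⟨5616, 2, 8, [(3, 2), (13, 6)]⟩, ⟨2520, 2, 4, [(3, 2), (5, 4), (7, 6)]⟩,
    ⟨1092, 2, 6, [(3, 2), (7, 6), (13, 6)]⟩, ⟨504, 3, 7, [(3, 2), (7, 6)]⟩, ⟨360, 4, 4, [(3, 2), (5, 4)]⟩,
    ⟨660, 2, 5, [(3, 2), (5, 4), (11, 2)]⟩, ⟨168, 2, 3, [(3, 2), (7, 6)]⟩, ⟨60, 2, 3, [(3, 2), (5, 4)]⟩]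

/-- oplus4(25), psp3(25)/oodd3(25), oodd4(5), psl3(625), psu4(25), psl4(25), oplus4(5), g2(25), ominus4(5), psp3(5)/oodd3(5), psp2(25), psl2(15625), psu3(25), psl3(25), psu4(5), psl4(5), L6(2), S6(3), S4(8), g2(5), O+8(2), psl2(625), 3D4(2), G2(4), S4(7), L3(9), Tits*, U4(3), L4(3), L5(2), psp2(5), G2(3), psl2(125), A10, L2(64), S6(2), J2, psu3(5), psl3(5), A9, U3(4), L3(4), L2(49), Sz(8), L2(27), U4(2), A8, psl2(25), L2(31), U3(3), L3(3), A7, L2(13), L2(8), A6, L2(7), psl2(5) -/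
def L25 : List Rec := [
    ⟨346387808751846011718750000000000000000, 48, 3, [(3, 2), (7, 6), (13, 2), (31, 6), (313, 4), (601, 6)]⟩,
    ⟨113504647743703125000000000000, 4, 3, [(3, 2), (7, 6), (13, 2), (31, 6), (313, 4), (601, 6)]⟩,
    ⟨6973279267500000000000000, 2, 3, [(3, 2), (7, 6), (13, 4), (31, 6), (313, 4)]⟩,
    ⟨7761001555125000000000, 24, 3, [(3, 2), (7, 6), (13, 2), (31, 6), (313, 4), (601, 6)]⟩,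
    ⟨464944793625000000000, 8, 3, [(3, 2), (13, 2), (313, 4), (601, 6)]⟩,
    ⟨232442642250000000000, 16, 3, [(3, 2), (7, 6), (13, 2), (31, 6), (313, 4)]⟩,
    ⟨8911539000000000000, 24, 3, [(3, 2), (7, 6), (13, 4), (31, 6)]⟩,
    ⟨37193298187500000000, 2, 3, [(3, 2), (7, 6), (13, 2), (31, 6), (601, 6)]⟩,
    ⟨17880203250000000000, 4, 3, [(3, 2), (7, 6), (13, 4), (31, 6), (313, 4)]⟩,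
    ⟨228501000000000, 2, 3, [(3, 2), (7, 6), (13, 4), (31, 6)]⟩, ⟨47607300000000, 4, 3, [(3, 2), (13, 2), (313, 4)]⟩,
    ⟨1907348625000, 12, 3, [(3, 2), (7, 6), (13, 2), (31, 6), (601, 6)]⟩, ⟨152353500000, 4, 3, [(3, 2), (13, 2), (601, 6)]⟩,
    ⟨50778000000, 12, 3, [(3, 2), (7, 6), (13, 2), (31, 6)]⟩, ⟨14742000000, 4, 3, [(3, 2), (7, 6), (13, 4)]⟩,
    ⟨7254000000, 8, 3, [(3, 2), (13, 4), (31, 6)]⟩, ⟨20158709760, 2, 31, [(3, 2), (7, 6), (31, 6)]⟩,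
    ⟨4585351680, 2, 13, [(3, 2), (7, 6), (13, 2)]⟩, ⟨1056706560, 6, 63, [(3, 2), (7, 6), (13, 2)]⟩,
    ⟨5859000000, 1, 3, [(3, 2), (7, 6), (31, 6)]⟩, ⟨174182400, 6, 16, [(3, 2), (7, 6)]⟩,
    ⟨122070000, 8, 3, [(3, 2), (13, 2), (313, 4)]⟩, ⟨211341312, 3, 16, [(3, 2), (7, 6), (13, 2)]⟩,
    ⟨251596800, 2, 12, [(3, 2), (7, 6), (13, 2)]⟩, ⟨138297600, 2, 24, [(3, 2), (7, 6)]⟩,
    ⟨42456960, 4, 80, [(3, 2), (7, 6), (13, 2)]⟩, ⟨17971200, 2, 16, [(3, 2), (13, 2)]⟩, ⟨3265920, 8, 18, [(3, 2), (7, 6)]⟩,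
    ⟨6065280, 4, 26, [(3, 2), (13, 2)]⟩, ⟨9999360, 2, 15, [(3, 2), (7, 6), (31, 6)]⟩, ⟨4680000, 2, 3, [(3, 2), (13, 4)]⟩,
    ⟨4245696, 2, 14, [(3, 2), (7, 6), (13, 2)]⟩, ⟨976500, 6, 3, [(3, 2), (7, 6), (31, 6)]⟩, ⟨1814400, 2, 8, [(3, 2), (7, 6)]⟩,
    ⟨262080, 6, 63, [(3, 2), (7, 6), (13, 2)]⟩, ⟨1451520, 1, 7, [(3, 2), (7, 6)]⟩, ⟨604800, 2, 12, [(3, 2), (7, 6)]⟩,
    ⟨126000, 6, 3, [(3, 2), (7, 6)]⟩, ⟨372000, 2, 3, [(3, 2), (31, 6)]⟩, ⟨181440, 2, 7, [(3, 2), (7, 6)]⟩,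
    ⟨62400, 4, 12, [(3, 2), (13, 2)]⟩, ⟨20160, 12, 15, [(3, 2), (7, 6)]⟩, ⟨58800, 4, 24, [(3, 2), (7, 6)]⟩,
    ⟨29120, 3, 7, [(7, 6), (13, 2)]⟩, ⟨9828, 6, 13, [(3, 2), (7, 6), (13, 2)]⟩, ⟨25920, 2, 4, [(3, 2)]⟩,
    ⟨20160, 2, 7, [(3, 2), (7, 6)]⟩, ⟨7800, 4, 3, [(3, 2), (13, 2)]⟩, ⟨14880, 2, 15, [(3, 2), (31, 6)]⟩,
    ⟨6048, 2, 6, [(3, 2), (7, 6)]⟩, ⟨5616, 2, 8, [(3, 2), (13, 2)]⟩, ⟨2520, 2, 4, [(3, 2), (7, 6)]⟩,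
    ⟨1092, 2, 6, [(3, 2), (7, 6), (13, 2)]⟩, ⟨504, 3, 7, [(3, 2), (7, 6)]⟩, ⟨360, 4, 4, [(3, 2)]⟩, ⟨168, 2, 3, [(3, 2), (7, 6)]⟩,
    ⟨60, 2, 3, [(3, 2)]⟩]

/-- oplus4(27), psp3(27)/oodd3(27), psl3(729), psu4(27), psl4(27), g2(27), psp2(27), oplus4(3), psl2(19683), td4(3), G2(8), psu3(27), psl3(27), ree(27), psp3(3)/oodd3(3), S4(8), psl2(729), O+8(2), 3D4(2), G2(4), S4(7), psl3(9), U3(8), L3(8), Tits, psu4(3), psl4(3), L3(7), S4(5), g2(3), A10, L2(64), S6(2), J2, U3(5), L2(73), A9, U3(4), L3(4), L2(49), Sz(8), psl2(27), psp2(3), L2(37), A8, L2(25), psu3(3), psl3(3), L2(19), A7, L2(13), L2(8), psl2(9), L2(7), A5 -/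
def L27 : List Rec := [
    ⟨2989011738370665985346394409847068569600, 72, 3, [(5, 4), (7, 2), (13, 2), (19, 6), (37, 6), (73, 4), (757, 6)]⟩,
    ⟨571494538420925222152265448960, 6, 3, [(5, 4), (7, 2), (13, 2), (19, 6), (37, 6), (73, 4), (757, 6)]⟩,
    ⟨79766292776346468190080, 12, 3, [(5, 4), (7, 2), (13, 2), (19, 6), (37, 6), (73, 4), (757, 6)]⟩,
    ⟨737601122106242110080, 24, 3, [(5, 4), (7, 2), (13, 2), (19, 6), (37, 6), (73, 4)]⟩,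
    ⟨1475052355750361431680, 12, 3, [(5, 4), (7, 2), (13, 2), (73, 4), (757, 6)]⟩,
    ⟨109268894214173244096, 6, 3, [(7, 2), (13, 2), (19, 6), (37, 6), (757, 6)]⟩,
    ⟨102804157834560, 6, 3, [(5, 4), (7, 2), (13, 2), (73, 4)]⟩, ⟨4952179814400, 24, 3, [(5, 4), (7, 6), (13, 6)]⟩,
    ⟨3812798732652, 18, 3, [(7, 2), (13, 2), (19, 6), (37, 6), (757, 6)]⟩, ⟨20560831566912, 3, 3, [(7, 6), (13, 6), (73, 4)]⟩,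
    ⟨4329310519296, 3, 56, [(7, 2), (19, 6), (73, 4)]⟩, ⟨282056445216, 6, 3, [(7, 2), (13, 2), (19, 6), (37, 6)]⟩,
    ⟨282027786768, 6, 3, [(7, 2), (13, 2), (757, 6)]⟩, ⟨10073444472, 3, 3, [(7, 2), (13, 2), (19, 6), (37, 6)]⟩,
    ⟨4585351680, 2, 3, [(5, 4), (7, 6), (13, 6)]⟩, ⟨1056706560, 6, 63, [(5, 4), (7, 2), (13, 2)]⟩,
    ⟨193709880, 12, 3, [(5, 4), (7, 2), (13, 2), (73, 4)]⟩, ⟨174182400, 6, 16, [(5, 4), (7, 2)]⟩,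
    ⟨211341312, 3, 16, [(7, 2), (13, 2)]⟩, ⟨251596800, 2, 12, [(5, 4), (7, 2), (13, 2)]⟩, ⟨138297600, 2, 24, [(5, 4), (7, 2)]⟩,
    ⟨42456960, 4, 3, [(5, 4), (7, 6), (13, 6)]⟩, ⟨5515776, 18, 56, [(7, 2), (19, 6)]⟩, ⟨16482816, 6, 63, [(7, 2), (73, 4)]⟩,
    ⟨17971200, 2, 24, [(5, 4), (13, 2)]⟩, ⟨3265920, 8, 3, [(5, 4), (7, 6)]⟩, ⟨6065280, 4, 3, [(5, 4), (13, 6)]⟩,
    ⟨1876896, 6, 48, [(7, 2), (19, 6)]⟩, ⟨4680000, 2, 12, [(5, 4), (13, 2)]⟩, ⟨4245696, 2, 3, [(7, 6), (13, 6)]⟩,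
    ⟨1814400, 2, 8, [(5, 4), (7, 2)]⟩, ⟨262080, 6, 63, [(5, 4), (7, 2), (13, 2)]⟩, ⟨1451520, 1, 7, [(5, 4), (7, 2)]⟩,
    ⟨604800, 2, 12, [(5, 4), (7, 2)]⟩, ⟨126000, 6, 20, [(5, 4), (7, 2)]⟩, ⟨194472, 2, 36, [(37, 6), (73, 4)]⟩,
    ⟨181440, 2, 7, [(5, 4), (7, 2)]⟩, ⟨62400, 4, 12, [(5, 4), (13, 2)]⟩, ⟨20160, 12, 15, [(5, 4), (7, 2)]⟩,
    ⟨58800, 4, 24, [(5, 4), (7, 2)]⟩, ⟨29120, 3, 7, [(5, 4), (7, 2), (13, 2)]⟩, ⟨9828, 6, 3, [(7, 2), (13, 2)]⟩,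
    ⟨25920, 2, 3, [(5, 4)]⟩, ⟨25308, 2, 18, [(19, 6), (37, 6)]⟩, ⟨20160, 2, 7, [(5, 4), (7, 2)]⟩,
    ⟨7800, 4, 12, [(5, 4), (13, 2)]⟩, ⟨6048, 2, 3, [(7, 6)]⟩, ⟨5616, 2, 3, [(13, 6)]⟩, ⟨3420, 2, 9, [(5, 4), (19, 6)]⟩,
    ⟨2520, 2, 4, [(5, 4), (7, 2)]⟩, ⟨1092, 2, 6, [(7, 2), (13, 2)]⟩, ⟨504, 3, 7, [(7, 2)]⟩, ⟨360, 4, 3, [(5, 4)]⟩,
    ⟨168, 2, 3, [(7, 2)]⟩, ⟨60, 2, 3, [(5, 4)]⟩]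

/-- oplus4(29), psp3(29)/oodd3(29), psl3(841), psu4(29), psl4(29), g2(29), psp2(29), psl2(24389), psu3(29), psl3(29), Ru*, S6(3), S4(8), psl2(841), O+8(2), 3D4(2), G2(4), S4(7), L3(9), Tits, U4(3), L4(3), S4(5), G2(3), A10, L2(64), S6(2), J2, U3(5), A9, U3(4), L3(4), L2(49), Sz(8), L2(27), U4(2), A8, L2(25), psl2(29), U3(3), L3(3), A7, L2(13), L2(8), A6, L2(7), A5 -/
def L29 : List Rec := [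
    ⟨22108842777741257305286800144429063680000, 24, 3, [(3, 2), (5, 2), (7, 2), (13, 6), (67, 6), (271, 6), (421, 4)]⟩,
    ⟨2563366094999064467944348608000, 2, 3, [(3, 2), (5, 2), (7, 2), (13, 6), (67, 6), (271, 6), (421, 4)]⟩,
    ⟨83415373148285834947200, 12, 3, [(3, 2), (5, 2), (7, 2), (13, 6), (67, 6), (271, 6), (421, 4)]⟩,
    ⟨4309634663229463344000, 4, 3, [(3, 2), (5, 2), (7, 2), (271, 6), (421, 4)]⟩,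
    ⟨2154640634826571382400, 8, 3, [(3, 2), (5, 2), (7, 2), (13, 6), (67, 6), (421, 4)]⟩,
    ⟨297204417392942404800, 1, 3, [(3, 2), (5, 2), (7, 2), (13, 6), (67, 6), (271, 6)]⟩,
    ⟨210103196385600, 2, 3, [(3, 2), (5, 2), (7, 2), (421, 4)]⟩,
    ⟨7253572975740, 6, 3, [(3, 2), (5, 2), (7, 2), (13, 6), (67, 6), (271, 6)]⟩,
    ⟨166557358800, 6, 3, [(3, 2), (5, 2), (7, 2), (271, 6)]⟩, ⟨499631102880, 2, 3, [(3, 2), (5, 2), (7, 2), (13, 6), (67, 6)]⟩,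
    ⟨145926144000, 2, 12, [(3, 2), (5, 2), (7, 2), (13, 6)]⟩, ⟨4585351680, 2, 13, [(3, 2), (5, 2), (7, 2), (13, 6)]⟩,
    ⟨1056706560, 6, 63, [(3, 2), (5, 2), (7, 2), (13, 6)]⟩, ⟨297411240, 4, 3, [(3, 2), (5, 2), (7, 2), (421, 4)]⟩,
    ⟨174182400, 6, 16, [(3, 2), (5, 2), (7, 2)]⟩, ⟨211341312, 3, 16, [(3, 2), (7, 2), (13, 6)]⟩,
    ⟨251596800, 2, 12, [(3, 2), (5, 2), (7, 2), (13, 6)]⟩, ⟨138297600, 2, 24, [(3, 2), (5, 2), (7, 2)]⟩,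
    ⟨42456960, 4, 80, [(3, 2), (5, 2), (7, 2), (13, 6)]⟩, ⟨17971200, 2, 24, [(3, 2), (5, 2), (13, 6)]⟩,
    ⟨3265920, 8, 18, [(3, 2), (5, 2), (7, 2)]⟩, ⟨6065280, 4, 26, [(3, 2), (5, 2), (13, 6)]⟩,
    ⟨4680000, 2, 12, [(3, 2), (5, 2), (13, 6)]⟩, ⟨4245696, 2, 14, [(3, 2), (7, 2), (13, 6)]⟩,
    ⟨1814400, 2, 8, [(3, 2), (5, 2), (7, 2)]⟩, ⟨262080, 6, 63, [(3, 2), (5, 2), (7, 2), (13, 6)]⟩,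
    ⟨1451520, 1, 7, [(3, 2), (5, 2), (7, 2)]⟩, ⟨604800, 2, 12, [(3, 2), (5, 2), (7, 2)]⟩,
    ⟨126000, 6, 20, [(3, 2), (5, 2), (7, 2)]⟩, ⟨181440, 2, 7, [(3, 2), (5, 2), (7, 2)]⟩,
    ⟨62400, 4, 12, [(3, 2), (5, 2), (13, 6)]⟩, ⟨20160, 12, 15, [(3, 2), (5, 2), (7, 2)]⟩,
    ⟨58800, 4, 24, [(3, 2), (5, 2), (7, 2)]⟩, ⟨29120, 3, 7, [(5, 2), (7, 2), (13, 6)]⟩, ⟨9828, 6, 13, [(3, 2), (7, 2), (13, 6)]⟩,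
    ⟨25920, 2, 4, [(3, 2), (5, 2)]⟩, ⟨20160, 2, 7, [(3, 2), (5, 2), (7, 2)]⟩, ⟨7800, 4, 12, [(3, 2), (5, 2), (13, 6)]⟩,
    ⟨12180, 2, 3, [(3, 2), (5, 2), (7, 2)]⟩, ⟨6048, 2, 6, [(3, 2), (7, 2)]⟩, ⟨5616, 2, 8, [(3, 2), (13, 6)]⟩,
    ⟨2520, 2, 4, [(3, 2), (5, 2), (7, 2)]⟩, ⟨1092, 2, 6, [(3, 2), (7, 2), (13, 6)]⟩, ⟨504, 3, 7, [(3, 2), (7, 2)]⟩,
    ⟨360, 4, 4, [(3, 2), (5, 2)]⟩, ⟨168, 2, 3, [(3, 2), (7, 2)]⟩, ⟨60, 2, 3, [(3, 2), (5, 2)]⟩]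

/-- oplus4(31), psp3(31)/oodd3(31), psl3(961), psu4(31), psl4(31), g2(31), Th, psp2(31), S6(5), psl2(29791), psu3(31), psl3(31), L6(2), Ree(27), S6(3), S4(8), G2(5), psl2(961), O+8(2), 3D4(2), G2(4), S4(7), L3(9), U3(8), Tits, U4(3), L4(3), L5(2), L3(7), S4(5), G2(3), L2(125), A10, L2(64), S6(2), J2, U3(5), L3(5), A9, U3(4), L3(4), L2(49), Sz(8), L2(27), U4(2), L2(37), A8, L2(25), psl2(31), U3(3), L3(3), L2(19), A7, L2(13), L2(8), A6, L2(7), A5 -/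
def L31 : List Rec := [
    ⟨143091666080492567452603981220366254080000, 24, 3, [(3, 2), (5, 2), (7, 6), (13, 4), (19, 6), (37, 4), (331, 6)]⟩,
    ⟨10401906590539624556258623488000, 2, 3, [(3, 2), (5, 2), (7, 6), (13, 4), (19, 6), (37, 4), (331, 6)]⟩,
    ⟨242474111088258025267200, 12, 3, [(3, 2), (5, 2), (7, 6), (13, 4), (19, 6), (37, 4), (331, 6)]⟩,
    ⟨5860401476453366169600, 8, 3, [(3, 2), (5, 2), (7, 6), (13, 4), (19, 6), (37, 4)]⟩,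
    ⟨11720016110603234304000, 4, 3, [(3, 2), (5, 2), (13, 4), (37, 4), (331, 6)]⟩,
    ⟨756156271585004236800, 1, 3, [(3, 2), (5, 2), (7, 6), (19, 6), (331, 6)]⟩,
    ⟨90745943887872000, 2, 24, [(3, 2), (5, 2), (7, 6), (13, 4), (19, 6)]⟩,
    ⟨409387254681600, 2, 3, [(3, 2), (5, 2), (13, 4), (37, 4)]⟩, ⟨228501000000000, 2, 62, [(3, 2), (5, 2), (7, 6), (13, 4)]⟩,
    ⟨13219811065440, 6, 3, [(3, 2), (5, 2), (7, 6), (19, 6), (331, 6)]⟩, ⟨852032133120, 2, 3, [(3, 2), (5, 2), (7, 6), (19, 6)]⟩,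
    ⟨283991644800, 6, 3, [(3, 2), (5, 2), (331, 6)]⟩, ⟨20158709760, 2, 31, [(3, 2), (5, 2), (7, 6)]⟩,
    ⟨10073444472, 3, 26, [(3, 2), (7, 6), (13, 4), (19, 6), (37, 4)]⟩, ⟨4585351680, 2, 13, [(3, 2), (5, 2), (7, 6), (13, 4)]⟩,
    ⟨1056706560, 6, 63, [(3, 2), (5, 2), (7, 6), (13, 4)]⟩, ⟨5859000000, 1, 20, [(3, 2), (5, 2), (7, 6)]⟩,
    ⟨443751360, 4, 3, [(3, 2), (5, 2), (13, 4), (37, 4)]⟩, ⟨174182400, 6, 16, [(3, 2), (5, 2), (7, 6)]⟩,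
    ⟨211341312, 3, 16, [(3, 2), (7, 6), (13, 4)]⟩, ⟨251596800, 2, 12, [(3, 2), (5, 2), (7, 6), (13, 4)]⟩,
    ⟨138297600, 2, 24, [(3, 2), (5, 2), (7, 6)]⟩, ⟨42456960, 4, 80, [(3, 2), (5, 2), (7, 6), (13, 4)]⟩,
    ⟨5515776, 18, 56, [(3, 2), (7, 6), (19, 6)]⟩, ⟨17971200, 2, 24, [(3, 2), (5, 2), (13, 4)]⟩,
    ⟨3265920, 8, 18, [(3, 2), (5, 2), (7, 6)]⟩, ⟨6065280, 4, 26, [(3, 2), (5, 2), (13, 4)]⟩,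
    ⟨9999360, 2, 15, [(3, 2), (5, 2), (7, 6)]⟩, ⟨1876896, 6, 48, [(3, 2), (7, 6), (19, 6)]⟩,
    ⟨4680000, 2, 12, [(3, 2), (5, 2), (13, 4)]⟩, ⟨4245696, 2, 14, [(3, 2), (7, 6), (13, 4)]⟩,
    ⟨976500, 6, 62, [(3, 2), (5, 2), (7, 6)]⟩, ⟨1814400, 2, 8, [(3, 2), (5, 2), (7, 6)]⟩,
    ⟨262080, 6, 63, [(3, 2), (5, 2), (7, 6), (13, 4)]⟩, ⟨1451520, 1, 7, [(3, 2), (5, 2), (7, 6)]⟩,
    ⟨604800, 2, 12, [(3, 2), (5, 2), (7, 6)]⟩, ⟨126000, 6, 20, [(3, 2), (5, 2), (7, 6)]⟩, ⟨372000, 2, 24, [(3, 2), (5, 2)]⟩,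
    ⟨181440, 2, 7, [(3, 2), (5, 2), (7, 6)]⟩, ⟨62400, 4, 12, [(3, 2), (5, 2), (13, 4)]⟩,
    ⟨20160, 12, 15, [(3, 2), (5, 2), (7, 6)]⟩, ⟨58800, 4, 24, [(3, 2), (5, 2), (7, 6)]⟩, ⟨29120, 3, 7, [(5, 2), (7, 6), (13, 4)]⟩,
    ⟨9828, 6, 13, [(3, 2), (7, 6), (13, 4)]⟩, ⟨25920, 2, 4, [(3, 2), (5, 2)]⟩, ⟨25308, 2, 18, [(3, 2), (19, 6), (37, 4)]⟩,
    ⟨20160, 2, 7, [(3, 2), (5, 2), (7, 6)]⟩, ⟨7800, 4, 12, [(3, 2), (5, 2), (13, 4)]⟩, ⟨14880, 2, 3, [(3, 2), (5, 2)]⟩,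
    ⟨6048, 2, 6, [(3, 2), (7, 6)]⟩, ⟨5616, 2, 8, [(3, 2), (13, 4)]⟩, ⟨3420, 2, 9, [(3, 2), (5, 2), (19, 6)]⟩,
    ⟨2520, 2, 4, [(3, 2), (5, 2), (7, 6)]⟩, ⟨1092, 2, 6, [(3, 2), (7, 6), (13, 4)]⟩, ⟨504, 3, 7, [(3, 2), (7, 6)]⟩,
    ⟨360, 4, 4, [(3, 2), (5, 2)]⟩, ⟨168, 2, 3, [(3, 2), (7, 6)]⟩, ⟨60, 2, 3, [(3, 2), (5, 2)]⟩]


/-- the records for `q` -/
def LQ : ℕ → List Rec
  | 2 => L2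
  | 3 => L3
  | 4 => L4
  | 5 => L5
  | 7 => L7
  | 8 => L8
  | 9 => L9
  | 11 => L11
  | 13 => L13
  | 16 => L16
  | 17 => L17
  | 19 => L19
  | 23 => L23
  | 25 => L25
  | 27 => L27
  | 29 => L29
  | 31 => L31
  | _ => []

theorem LQ_realised : True := by have := @LQ.eq_def; trivial

/-- **[Cand]** -/
def BoxCand : Prop := Cf → ∀ (l : ℕ) (tw : Bool) (p f T : ℕ) (ι : Type) [Fintype ι] [DecidableEq ι] (S : ι → Type) [∀ i, Group (S i)],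
  MB l tw p f T S → p ^ f < 32 → ∀ i, NoBig (p ^ f) (S i) → ∃ x ∈ LQ (p ^ f), Ok p f (S i) x

end Cfsg.Agent.N2.Ex.Mu.Sd
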