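import Cfsg.Agent.N2.Ex.Mu.Num.SDefs
import Cfsg.Agent.N2.Ex.Mu.Num.SRec

/-!
# N2 (S3519), several components, `q < 32`: the lists for the search (helper83)
-/

set_option autoImplicit false

namespace Cfsg.Agent.N2.Ex.Mu.Sq

/-- the record for the search -/
def cv (x : Sd.Rec) : Rec := ⟨x.t, x.ou, x.el.reverse, Nat.beq x.t 360 || Nat.beq x.t 6048 || Nat.beq x.t 25920⟩

/-- the list for the field of `p ^ f` elements -/
def cand (p f : ℕ) : List Rec := (Sd.LQ (p ^ f)).map cv

/-- the five runs for one field -/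
def Five (p f : ℕ) : Prop :=
  chk (par 4 false p f) (cand p f) = true ∧ chk (par 6 false p f) (cand p f) = true ∧ chk (par 6 true p f) (cand p f) = true ∧
    chk (par 7 false p f) (cand p f) = true ∧ chk (par 8 false p f) (cand p f) = true

end Cfsg.Agent.N2.Ex.Mu.Sq
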