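import Cfsg.Agent.N2.Ex.Mu.Num.Base

/-!
# N2 (S3519), several components, `q < 32`: records, rules, search (helper83)

`Rec`, `Ok` : the data of a component.  A fact `some (k, o, u)` says `W I k o'` with `o' ∣ o` (if `o ≠ 0`) and bounds the
factor of `MA.orb` by `u` (if `u ≠ 0`); `none` is a contradiction.  Mirror: `notes/N2/mu_eng83.py.txt`.
-/

set_option autoImplicit false

namespace Cfsg.Agent.N2.Ex.Mu.Sq

open Cfsg Finset

/-- order `t`, `|Aut| ∣ ou * t`, pairs `(r, n)` with `El`, a subgroup `3 ^ 2` -/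
structure Rec where
  t : ℕ
  ou : ℕ
  el : List (ℕ × ℕ)
  e9 : Bool

/-- the record `x` describes `N` -/
structure Ok (q : ℕ) (N : Type) [Group N] (x : Rec) : Prop where
  card : Nat.card N = x.t
  aut : Nat.card (MulAut N) ∣ x.ou * x.t
  pos : 0 < x.ou
  el : ∀ e ∈ x.el, El q N e.1 e.2
  e9 : x.e9 = true → ∃ a b : N, orderOf a = 3 ∧ orderOf b = 3 ∧ a * b = b * a ∧ b ≠ a ∧ b ≠ a⁻¹

/-- rank, characteristic, order of the field, order of the group, bound for the number of components -/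
structure Par where
  l : ℕ
  p : ℕ
  q : ℕ
  T : ℕ
  M : ℕ

/-- facts -/
abbrev Fct : Type := Option (ℕ × ℕ × ℕ)

/-- evaluate first -/
def fo {α : Type} (n : ℕ) (f : ℕ → α) : α := Nat.rec (motive := fun _ => α) (f 0) (fun k _ => f (Nat.succ k)) n

theorem fo_eq {α : Type} (n : ℕ) (f : ℕ → α) : fo n f = f n := by cases n <;> rfl

/-- one member and the others -/
def picks {α : Type} (l : List α) : List (α × List α) :=
  List.rec (motive := fun _ => List (α × List α)) [] (fun a l ih => (a, l) :: ih.map fun z => (z.1, a :: z.2)) l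

/-- a lower bound for the totient -/
def ph (n : ℕ) : ℕ := if n = 2 then 1 else if n = 4 ∨ n = 6 then 2 else 0

/-- an upper bound for `rk1` -/
def rk (l r n : ℕ) : ℕ := if l = 6 ∧ n = 4 then 3 else if l = 8 ∧ r = 5 then 8 else l - ph n

/-- `Cb.bd` -/
def bdT (l n : ℕ) : ℕ := if n = 4 then col l 8 12 26 60 else if n = 6 then col l 6 24 30 72 else col l 18 40 72 126

/-- the bound of the averaging -/
def avg (e nx r : ℕ) : ℕ := fo (min e (nx - 1)) fun e => (r * e + nx - e - 1) / r / 2 * 2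

variable (P : Par)

/-- one component (`t0`, and `t2` with any partner) -/
def r1 (a : Rec) : List Fct := a.el.flatMap fun e =>
  some (bdT P.l e.2, e.1, P.M * a.t) ::
    if P.p ≠ 2 ∧ (P.l = 4 ∨ e.2 = 4 ∨ e.2 = 6) then [(gT P.l 2 e.2).map fun k => (k, 0, 0)] else []

/-- two components (`e9`, `t2`, `t3`, `c7`, `c1`) -/
def r2 (a b : Rec) : List Fct := fo (P.M * a.t * (P.M * b.t)) fun u =>
  (if a.e9 = true ∧ P.l = 4 ∧ 5 ≤ P.p then [some (8, 6, u)] else []) ++ a.el.flatMap fun e =>
    (if P.l = 4 ∨ e.2 = 4 ∨ e.2 = 6 then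
      (if P.p ≠ 2 then [(gT P.l 2 e.2).map fun k => (k, 2 * e.1, u)]
        else if 5 ≤ e.1 ∧ b.t % 3 = 0 then [(gT P.l 3 e.2).map fun k => (k, 3 * e.1, u)] else []) else []) ++
    (if P.l = 7 ∧ e.2 = 4 ∧ P.p ≠ 3 ∧ b.t % 3 = 0 ∧ b.el.any (fun e' => ph e'.2 = 2) = true then [some (14, 3 * e.1, u)] else []) ++
    (if 5 ≤ e.1 then b.el.flatMap fun e' => if 5 ≤ e'.1 then
      (if rk P.l e.1 e.2 < ph e'.2 then [none] else if e.1 ≠ e'.1 then [some (SZ P.l (rk P.l e.1 e.2 - ph e'.2), e.1 * e'.1, u)] else [])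
      else [] else [])

/-- three components (`t33`) -/
def r3 (K : List Rec) : List Fct :=
  if 5 ≤ P.p ∧ P.l ≠ 8 ∧ 3 ≤ (K.filter fun a => a.t % 3 = 0).length then [some (col P.l 6 10 24 0, 0, 0)] else []

/-- the row `n = 2`; `A` contains the records of all components, there are at least `n` components -/
def rN (A : List Rec) (n : ℕ) : List Fct :=
  if P.l ≠ 4 ∧ A.all (fun a => a.ou * a.t < P.q ^ nt P.l) = true then
    (if P.p ≠ 2 then [some (gN P.l 2, 0, 0)] else []) ++
      if P.p ≠ 3 ∧ A.all (fun a => a.t % 3 = 0 && a.el.any fun e => 5 ≤ e.1) = true then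
        [some (if P.l = 6 ∧ 3 ≤ n then 12 else gN P.l 3, 0, 0)] else []
  else []

/-- the element for the chains -/
def best (a : Rec) : Option (ℕ × ℕ) := (a.el.find? fun e => 5 ≤ e.1 ∧ ph e.2 = 2).or (a.el.find? fun e => 5 ≤ e.1)

/-- the first member of the chain -/
def fst0 (J : List (ℕ × ℕ)) : Option (ℕ × ℕ) := J.argmin fun e => rk P.l e.1 e.2 + ph e.2

/-- the sum of the weights -/
def wt (J : List (ℕ × ℕ)) : ℕ := (J.map fun e => ph e.2).sum

/-- the least prime -/
def rmin (J : List (ℕ × ℕ)) : ℕ := (J.map Prod.fst).foldr min 1000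

/-- the chain `c1` -/
def rC1 (K : List Rec) : List Fct :=
  match fst0 P (K.filterMap best) with
  | none => []
  | some e => fo (wt (K.filterMap best)) fun s => fo (rk P.l e.1 e.2 + ph e.2) fun a =>
    if a < s then [none] else fo (avg (SZ P.l (a - s)) (SZ P.l P.l) (rmin (K.filterMap best))) fun k =>
      [some (if P.l = 4 ∧ k < 18 then min k 8 else k, 0, 0)]

/-- the chain `c3`: `x` gives the element of order three, `K` the chain -/
def rC3 (b : Bool) (x : Rec) (K : List Rec) : List Fct :=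
  if P.p ≠ 3 ∧ x.t % 3 = 0 then
    match fst0 P (K.filterMap best) with
    | none => []
    | some e => fo (wt (K.filterMap best)) fun s => fo (rk P.l e.1 e.2 + ph e.2) fun a => fo (rmin (K.filterMap best)) fun r =>
      match (X3 P.l b).filterMap fun y =>
        if y.2 < s ∨ a ≤ s then none else some (avg (SZ P.l (if a - s ≤ g3 P.l then min (y.2 - s) (a - s - 1) else y.2 - s)) y.1 r) with
      | [] => [none]
      | k :: ks => [some (ks.foldr max k, 0, 0)]
  else []

theorem rC_realised : True := by have := @rC1.eq_def; have := @rC3.eq_def; trivial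

/-- the cheap facts -/
def fA (K : List Rec) : List Fct := K.flatMap (r1 P) ++ (picks K).flatMap fun z => z.2.flatMap (r2 P z.1)

/-- the other facts; `tb` contains the records of the components outside `K` -/
def fB (K tb : List Rec) : List Fct :=
  r3 P K ++ rN P (K ++ tb) K.length ++ rC1 P K ++ (picks K).flatMap fun z => rC3 P true z.1 z.2

/-- the least `k`; `none` : a contradiction -/
def kmin (F : List Fct) (k₀ : ℕ) (c : ℕ → Bool) : Bool :=
  List.rec (motive := fun _ => ℕ → Bool) c (fun φ _ ih k => Option.rec true (fun z => fo (min z.1 k) ih) φ) F k₀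

/-- the least orbit bound -/
def umin (F : List Fct) (u₀ : ℕ) (c : ℕ → Bool) : Bool :=
  List.rec (motive := fun _ => ℕ → Bool) c
    (fun φ _ ih u => Option.rec true (fun z => cond (Nat.beq z.2.2 0) (ih u) (fo (min (z.2.2 * cb P.l P.q z.1) u) ih)) φ) F u₀

/-- the test of `MA.win`; the start value `1000` of `kmin` never wins -/
def ok (A k : ℕ) : Bool := Nat.blt k 1000 && Nat.ble (cb P.l P.q k ^ 3 * A) P.T

/-- the number of the permutations which keep the orders -/
def muL (t : List ℕ) : ℕ := (t.dedup.map fun v => (t.count v).factorial).prod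

/-- a bound for `|A|` -/
def aB (K tb : List Rec) : ℕ := (K.map fun a => a.ou * a.t).prod *
  (if tb = [] ∨ P.M ≤ K.length then muL (K.map Rec.t) else ((tb.map fun a => a.ou * a.t).foldr max 1) ^ (P.M - K.length) * P.M.factorial)

/-- the test of `MA.winK` -/
def okK (K : List Rec) (F : List Fct) : Bool :=
  fo ((K.map Rec.ou).prod * muL (K.map Rec.t)) fun u => fo (K.map Rec.t).prod fun E =>
    F.any fun φ => Option.rec true (fun z => !Nat.beq z.2.1 0 && Nat.beq (Nat.gcd z.2.1 u) 1 && ok P E z.1) φ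

/-- **the test**: the members of `K` are components, the other components have records in `tb` -/
def win (K tb : List Rec) : Bool :=
  !Nat.beq (P.T % (K.map Rec.t).prod) 0 || umin P (fA P K) (aB P K tb) fun A => kmin (fA P K) 1000 fun k => ok P A k ||
    (kmin (fB P K tb) k (ok P A) ||
      ((Nat.beq P.l 6 && Nat.ble 2 ((picks K).filter fun z => kmin (rC3 P false z.1 z.2) 1000 (ok P A)).length) ||
        (tb.isEmpty && okK P K (fA P K))))

/-- the loop over the rest of the list -/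
def step (nx : List Rec → List Rec → Bool) (K tb : List Rec) : Bool :=
  List.rec (motive := fun _ => Bool) true (fun a tb ih =>
    (win P (a :: K) (a :: tb) || ((K.isEmpty || win P (a :: K) []) && nx (a :: K) (a :: tb))) && ih) tb

/-- the search -/
def dfs (fuel : ℕ) : List Rec → List Rec → Bool :=
  Nat.rec (motive := fun _ => List Rec → List Rec → Bool) (fun _ _ => true) (fun _ ih => step P ih) fuel

/-- evaluate a list of pairs first -/
def foE (l : List (ℕ × ℕ)) (c : List (ℕ × ℕ) → Bool) : Bool :=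
  List.rec (motive := fun _ => (List (ℕ × ℕ) → Bool) → Bool) (fun c => c [])
    (fun e _ ih c => fo e.1 fun r => fo e.2 fun n => ih fun l => c ((r, n) :: l)) l c

/-- evaluate the records with the property `g` first, drop the others -/
def foL (g : Rec → Bool) (L : List Rec) (c : List Rec → Bool) : Bool :=
  List.rec (motive := fun _ => (List Rec → Bool) → Bool) (fun c => c [])
    (fun a _ ih c => fo a.t fun t => fo a.ou fun ou => foE a.el fun el =>
      cond a.e9 (cond (g ⟨t, ou, el, true⟩) (ih fun l => c (⟨t, ou, el, true⟩ :: l)) (ih c))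
        (cond (g ⟨t, ou, el, false⟩) (ih fun l => c (⟨t, ou, el, false⟩ :: l)) (ih c))) L c

/-- **the kernel test**: two rounds of the filter by one record, then the search -/
def chk (L : List Rec) : Bool :=
  foL (fun a => Nat.beq (P.T % a.t) 0) L fun L => foL (fun a => !win P [a] L) L fun L => foL (fun a => !win P [a] L) L fun L =>
    dfs P P.M [] L

/-- the parameters -/
def par (l : ℕ) (tw : Bool) (p f : ℕ) : Par :=
  ⟨l, p, p ^ f, (p ^ f) ^ H902.Art.NN (Sm.sh l tw) * H902.Art.num (Sm.sh l tw) (p ^ f) / H902.Art.dd (Sm.sh l tw) (p ^ f),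
    if p = 2 then col l 4 6 7 9 else col l 3 4 5 7⟩

/-! ### soundness: statements -/

section

variable {ι : Type} [Fintype ι] [DecidableEq ι] (S : ι → Type) [∀ i, Group (S i)] (G : Prop) (W : Finset ι → ℕ → ℕ → Prop)

/-- the meaning of a fact -/
def Holds : Fct → Prop
  | none => G
  | some z => G ∨ ∃ I o, W I z.1 o ∧ (z.2.1 ≠ 0 → o ∣ z.2.1) ∧
      (z.2.2 ≠ 0 → ∏ i ∈ I, #{j | Nat.card (S j) = Nat.card (S i)} * Nat.card (S i) ≤ z.2.2)

theorem holds_realised : True := by have := @Holds.eq_def; trivial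

end

/-- a statement on `Mx` with records -/
def OnR (Q : ∀ (_ : Par) (ι : Type) [Fintype ι] [DecidableEq ι] (S : ι → Type) [∀ i, Group (S i)] (_ : Prop)
    (_ : Finset ι → ℕ → ℕ → Prop) (_ : ι → Prop) (_ : ι → Rec), Prop) : Prop :=
  ∀ (l : ℕ) (tw : Bool) (p f T M : ℕ) (ι : Type) [Fintype ι] [DecidableEq ι] (S : ι → Type) [∀ i, Group (S i)] (G : Prop) (κ : ℕ)
    (W : Finset ι → ℕ → ℕ → Prop) (E : ι → Prop) (x : ι → Rec), Mx l tw p f T S G κ W E → (∀ i, Ok (p ^ f) (S i) (x i)) →
    Fintype.card ι ≤ M → Q ⟨l, p, p ^ f, T, M⟩ ι S G W E x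

/-- **[R1]** -/
def BoxR1 : Prop := OnR fun P _ _ _ S _ G W _ x => ∀ i, ∀ φ ∈ r1 P (x i), Holds S G W φ

/-- **[R2]** -/
def BoxR2 : Prop := OnR fun P _ _ _ S _ G W _ x => ∀ i j, i ≠ j → ∀ φ ∈ r2 P (x i) (x j), Holds S G W φ

/-- **[R3]** -/
def BoxR3 : Prop := OnR fun P ι _ _ S _ G W _ x => ∀ li : List ι, li.Nodup → ∀ φ ∈ r3 P (li.map x), Holds S G W φ

/-- **[RN]** -/
def BoxRN : Prop := OnR fun P ι _ _ S _ G W _ x => ∀ (A : List Rec) (n : ℕ), (∀ i, x i ∈ A) → n ≤ Fintype.card ι →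
  ∀ φ ∈ rN P A n, Holds S G W φ

/-- **[C1]** -/
def BoxC1 : Prop := OnR fun P ι _ _ S _ G W _ x => ∀ li : List ι, li.Nodup → ∀ φ ∈ rC1 P (li.map x), Holds S G W φ

/-- **[C3]** -/
def BoxC3 : Prop := OnR fun P ι _ _ S _ G W E x => ∀ (b : Bool) (i : ι) (li : List ι), li.Nodup → i ∉ li → (b = false → ¬ E i) →
  ∀ φ ∈ rC3 P b (x i) (li.map x), Holds S G W φ

/-- **[Win]** -/
def BoxWin : Prop := OnR fun P ι _ _ _ _ G _ _ x => ∀ (li : List ι) (tb : List Rec), li.Nodup → (∀ i, i ∉ li → x i ∈ tb) →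
  win P (li.map x) tb = true → G

/-- **[Chk]** -/
def BoxChk : Prop := OnR fun P _ _ _ _ _ G _ _ x => ∀ L : List Rec, (∀ i, x i ∈ L) → chk P L = true → G

/-- **[Cand]** the data: `cand p f` contains a record of every component -/
def BoxCand (cand : ℕ → ℕ → List Rec) : Prop :=
  Cf → ∀ (l : ℕ) (tw : Bool) (p f T : ℕ) (ι : Type) [Fintype ι] [DecidableEq ι] (S : ι → Type) [∀ i, Group (S i)] (G : Prop) (κ : ℕ)
    (W : Finset ι → ℕ → ℕ → Prop) (E : ι → Prop), Mx l tw p f T S G κ W E → p ^ f < 32 → (∀ i, NoBig (p ^ f) (S i)) →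
    ∀ i, ∃ x ∈ cand p f, Ok (p ^ f) (S i) x

/-- **[Run]** -/
def BoxRun (cand : ℕ → ℕ → List Rec) (l : ℕ) : Prop :=
  ∀ (tw : Bool) (p f : ℕ), (l = 6 ∨ tw = false) → p.Prime → 0 < f → p ^ f < 32 → chk (par l tw p f) (cand p f) = true

end Cfsg.Agent.N2.Ex.Mu.Sq
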