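import Cfsg.Agent.N2.Ex.Mu.Num.Base

/-!
# N2 (S3519), several components, `q < 32`: the test on one component (helper41)

A component is given by its order `t` and a list `el` of pairs `(r, n)` with `El q N r n`.
-/

set_option autoImplicit false
set_option linter.unusedSectionVars false

namespace Cfsg.Agent.N2.Ex.Mu.SP

open Cfsg Finset

/-- the least value of the list, `d` for the empty list -/
def lo (d : ℕ) (L : List ℕ) : ℕ := L.foldr min d

theorem lo_mem (d : ℕ) (L : List ℕ) : lo d L = d ∨ lo d L ∈ L := by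
  induction L with
  | nil => exact .inl rfl
  | cons a L ih =>
    rcases min_choice a (lo d L) with h | h
    · exact .inr (List.mem_cons.2 (.inl h))
    · exact ih.imp h.trans fun k => List.mem_cons.2 (.inr ((show lo d (a :: L) = lo d L from h) ▸ k))

/-- the bound for the number of components -/
def cm (l q : ℕ) : ℕ := if q % 2 = 0 then col l 4 6 7 9 else col l 3 4 5 7

/-- the bound for the number of components of order `t` -/
def mx (l q t : ℕ) (el : List (ℕ × ℕ)) : ℕ :=
  lo (cm l q) ((List.range (cm l q)).filter fun m => el.any fun e => cb l q (Cb.bd l e.2) < t ^ m * e.1)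

/-- the best element alone (`300` : none) -/
def k0 (l : ℕ) (el : List (ℕ × ℕ)) : ℕ := lo 300 (el.map fun e => Cb.bd l e.2)

/-- the best product with an element of order `r'` of another component (`300` : none) -/
def kT (l r' : ℕ) (el : List (ℕ × ℕ)) : ℕ :=
  lo 300 ((el.filter fun e => (r' = 2 ∨ 5 ≤ e.1) ∧ (l = 4 ∨ ¬ e.2 ∣ 2)).map fun e => (gT l r' e.2).getD 0)

/-- the test with `k` roots -/
def tst (l q T t : ℕ) (el : List (ℕ × ℕ)) (k : ℕ) : Bool :=
  k < 300 && k0 l el < 300 && cb l q k ^ 3 * (mx l q t el * t * cb l q (k0 l el)) ≤ T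

/-- the component is closed whatever the other components are -/
def pre2 (l p q T t : ℕ) (el : List (ℕ × ℕ)) : Bool := tst l q T t el (k0 l el) || p ≠ 2 && tst l q T t el (kT l 2 el)

/-- the component is closed if three divides the order of another component -/
def pre3 (l p q T t : ℕ) (el : List (ℕ × ℕ)) : Bool := p ≠ 3 && tst l q T t el (kT l 3 el)

variable {ι : Type} [Fintype ι] [DecidableEq ι] {l : ℕ} {tw : Bool} {p f T : ℕ} {S : ι → Type} [∀ i, Group (S i)] {G : Prop}
  {κ : ℕ} {W : Finset ι → ℕ → ℕ → Prop} {E : ι → Prop} (X : Mx l tw p f T S G κ W E)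
include X

/-- the number of components -/
theorem card_le : Fintype.card ι ≤ cm l (p ^ f) := by
  unfold cm
  by_cases hp : p = 2
  · rw [if_pos (Nat.mod_eq_zero_of_dvd (hp ▸ dvd_pow_self p (Nat.one_le_iff_ne_zero.1 X.b.real.hf)))]
    exact X.card_le (.inl hp)
  · refine (X.card_odd hp).trans ?_
    split_ifs
    · rcases X.hl with rfl | rfl | rfl | rfl <;> decide
    · exact le_rfl

/-- the number of components of the same order -/
theorem cnt_le {i : ι} {r n m : ℕ} (h : El (p ^ f) (S i) r n) (hm : cb l (p ^ f) (Cb.bd l n) < Nat.card (S i) ^ m * r) :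
    #{j | Nat.card (S j) = Nat.card (S i)} ≤ m := by
  by_contra hc
  have h0 : ∀ j, 1 ≤ Nat.card (S j) := fun j => have := X.b.fin j; Nat.card_pos
  refine hm.not_ge (le_trans (Nat.mul_le_mul_right _ ?_) (X.a.emb _ _ _ (X.t.t0 i r n h).1))
  have h1 : (univ.filter fun j => Nat.card (S j) = Nat.card (S i)).erase i ⊆ ({i} : Finset ι)ᶜ := fun j hj =>
    mem_compl.2 fun k => (mem_erase.1 hj).1 (mem_singleton.1 k)
  refine le_trans ?_ (prod_le_prod_of_subset_of_one_le' h1 fun j _ _ => h0 j)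
  rw [prod_congr rfl fun j hj => (mem_filter.1 (mem_erase.1 hj).2).2, prod_const,
    card_erase_of_mem (by simp)]
  exact Nat.pow_le_pow_right (h0 i) (by omega)

variable {i : ι} {t : ℕ} {el : List (ℕ × ℕ)} (ht : Nat.card (S i) = t) (he : ∀ e ∈ el, El (p ^ f) (S i) e.1 e.2)
include ht he

theorem mx_le : #{j | Nat.card (S j) = Nat.card (S i)} ≤ mx l (p ^ f) t el := by
  rcases lo_mem (cm l (p ^ f)) ((List.range (cm l (p ^ f))).filter fun m => el.any fun e =>
    cb l (p ^ f) (Cb.bd l e.2) < t ^ m * e.1) with k | k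
  · exact (card_le_univ _).trans ((card_le X).trans k.ge)
  · obtain ⟨e, k1, k2⟩ := List.any_eq_true.1 (List.mem_filter.1 k).2
    subst ht
    exact cnt_le X (he e k1) (of_decide_eq_true k2)

theorem k0_w (h : k0 l el < 300) : ∃ o, W {i} (k0 l el) o := by
  rcases lo_mem 300 (el.map fun e => Cb.bd l e.2) with k | k
  · exact absurd k h.ne
  · obtain ⟨e, k1, k2⟩ := List.mem_map.1 k
    exact ⟨e.1, (show Cb.bd l e.2 = k0 l el from k2) ▸ (X.t.t0 i _ _ (he e k1)).1⟩

theorem tst_sound {k : ℕ} (h : tst l (p ^ f) T t el k = true) (w : k < 300 → ∃ I o, W I k o) : G := by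
  simp only [tst, Bool.and_eq_true, decide_eq_true_eq] at h
  obtain ⟨⟨h1, h2⟩, h4⟩ := h
  obtain ⟨I, o, w1⟩ := w h1
  obtain ⟨o', w2⟩ := k0_w X ht he h2
  have h5 := X.a.orb _ _ _ w2
  rw [prod_singleton] at h5
  refine X.a.win I k o w1 ((Nat.mul_le_mul_left _ (h5.trans (Nat.mul_le_mul_right _ ?_))).trans h4)
  exact Nat.mul_le_mul (mx_le X ht he) ht.le

omit ht in
theorem kT_w {r' : ℕ} (h : kT l r' el < 300) (j : ι) (w : ∀ r n, El (p ^ f) (S i) r n → (r' = 2 ∨ 5 ≤ r) → (l = 4 ∨ ¬ n ∣ 2) →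
    ∃ k, gT l r' n = some k ∧ W {i, j} k (r' * r)) : ∃ I o, W I (kT l r' el) o := by
  rcases lo_mem 300 ((el.filter fun e => (r' = 2 ∨ 5 ≤ e.1) ∧ (l = 4 ∨ ¬ e.2 ∣ 2)).map fun e => (gT l r' e.2).getD 0) with k | k
  · exact absurd k h.ne
  · obtain ⟨e, k1, k2⟩ := List.mem_map.1 k
    obtain ⟨k3, k4⟩ := List.mem_filter.1 k1
    obtain ⟨k5, k6⟩ := of_decide_eq_true k4
    obtain ⟨k', k7, k8⟩ := w _ _ (he e k3) k5 k6
    rw [k7] at k2
    exact ⟨_, _, (show k' = kT l r' el from k2) ▸ k8⟩

/-- **the test on one component** -/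
theorem pre2_sound (h : pre2 l p (p ^ f) T t el = true) : G := by
  simp only [pre2, Bool.or_eq_true, Bool.and_eq_true, decide_eq_true_eq] at h
  rcases h with h | ⟨hp, h⟩
  · exact tst_sound X ht he h fun k => ⟨_, k0_w X ht he k⟩
  · have := X.b.two
    obtain ⟨j, hj⟩ := exists_ne i
    exact tst_sound X ht he h fun k => kT_w X he k j fun r n a _ c => X.t.t2 i j r n hj.symm a hp c

/-- **the test on one component**, three divides the order of another one -/
theorem pre3_sound (h : pre3 l p (p ^ f) T t el = true) {j : ι} (hj : i ≠ j) (h3 : 3 ∣ Nat.card (S j)) : G := by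
  simp only [pre3, Bool.and_eq_true, decide_eq_true_eq] at h
  exact tst_sound X ht he h.2 fun k => kT_w X he k j fun r n a b c => X.t.t3 i j r n hj a h.1 (by omega) h3 c

omit ht he in
/-- **the filter**: all the components have records in `L`; the record of `i` is closed -/
theorem closed_sound {α : Type} (tt : α → ℕ) (ee : α → List (ℕ × ℕ)) (L : List α) (x : ι → α) (hL : ∀ j, x j ∈ L)
    (ht : ∀ j, Nat.card (S j) = tt (x j)) (he : ∀ j, ∀ e ∈ ee (x j), El (p ^ f) (S j) e.1 e.2)
    (hall : ∀ b ∈ L, 3 ∣ tt b ∨ pre2 l p (p ^ f) T (tt b) (ee b) = true ∨ pre3 l p (p ^ f) T (tt b) (ee b) = true) (i : ι)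
    (h3 : 3 ∣ tt (x i)) (h : pre3 l p (p ^ f) T (tt (x i)) (ee (x i)) = true) : G := by
  have := X.b.two
  obtain ⟨j, hj⟩ := exists_ne i
  rcases hall _ (hL j) with k | k | k
  · exact pre3_sound X (ht i) (he i) h hj.symm (ht j ▸ k)
  · exact pre2_sound X (ht j) (he j) k
  · exact pre3_sound X (ht j) (he j) k hj (ht i ▸ h3)

end Cfsg.Agent.N2.Ex.Mu.SP
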