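import Cfsg.Agent.N2.Ex.Mu.Num.Base

/-!
# N2 (S3519), several components, the arithmetic: the rules in numerical form (helper93)
-/

set_option autoImplicit false
set_option linter.unusedSectionVars false

namespace Cfsg.Agent.N2.Ex.Mu

open Cfsg Finset

/-- the result of the averaging -/
def kav (r₀ e nx : ℕ) : ℕ := ((r₀ - 1) * e + nx - 1) / r₀ / 2 * 2

theorem le_kav {r₀ e e' nx k : ℕ} (h0 : 0 < r₀) (he : e ≤ e') (hk : Even k) (h : r₀ * k + e < r₀ * e + nx) : k ≤ kav r₀ e' nx := by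
  obtain ⟨r, rfl⟩ : ∃ r, r₀ = r + 1 := ⟨r₀ - 1, by omega⟩
  have h1 : k ≤ (r * e' + nx - 1) / (r + 1) := by
    refine (Nat.le_div_iff_mul_le h0).2 ?_
    have := Nat.mul_le_mul_left r he
    rw [mul_comm k, add_mul r 1 k]
    rw [add_mul r 1 k, add_mul r 1 e] at h
    omega
  obtain ⟨m, rfl⟩ := hk
  rw [kav, Nat.add_sub_cancel]
  omega

theorem SZ_mono {l : ℕ} (hl : l = 4 ∨ l = 6 ∨ l = 7 ∨ l = 8) {a b : ℕ} (h : a ≤ b) : SZ l a ≤ SZ l b := by
  have key : ∀ a < 9, ∀ b < 9, a ≤ b → SZ l a ≤ SZ l b := by rcases hl with rfl | rfl | rfl | rfl <;> decide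
  have e : ∀ a, SZ l a = SZ l (min a 8) := fun a => by
    rcases le_total a 8 with k | k
    · rw [min_eq_left k]
    · rw [min_eq_right k, SZ, SZ, if_pos (by omega), if_pos (by omega)]
  rw [e a, e b]
  exact key _ (by omega) _ (by omega) (by omega)

theorem cop6 {r : ℕ} (hr : r.Prime) (h5 : 5 ≤ r) : r.Coprime 6 := by
  refine (Nat.Prime.coprime_iff_not_dvd hr).2 fun h => ?_
  have h6 := Nat.le_of_dvd (by norm_num) h
  interval_cases r
  exacts [absurd h (by norm_num), absurd hr (by norm_num)]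

theorem card_dvd_aut {N : Type} [Group N] [Finite N] (hs : IsSimpleGroup N) (hc : ¬ IsMulCommutative N) :
    Nat.card N ∣ Nat.card (MulAut N) := Subgroup.card_dvd_of_injective _ (conj_inj hc)

theorem div_dvd {a u t : ℕ} (h : a ∣ u * t) (ht : t ∣ a) (h0 : 0 < t) : a / t ∣ u := by
  obtain ⟨c, rfl⟩ := ht
  rw [Nat.mul_div_cancel_left _ h0]
  exact Nat.dvd_of_mul_dvd_mul_left h0 (mul_comm u t ▸ h)

/-- the rank in the rule `c3`; `al` is the rank of the chain -/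
def rk3 (l al ρ : ℕ) : ℕ := if al ≤ g3 l then min ρ (al - 1) else ρ

/-- the values of the rule `c3`; `s` is the weight of the chain -/
def ks3 (l : ℕ) (b : Bool) (al s r₀ : ℕ) : List ℕ :=
  ((X3 l b).filter fun x => s ≤ x.2 ∧ (al ≤ g3 l → 1 ≤ al)).map fun x => kav r₀ (min (SZ l (rk3 l al (x.2 - s))) x.1) x.1

variable {ι : Type} [Fintype ι] [DecidableEq ι] {l : ℕ} {tw : Bool} {p f T : ℕ} {S : ι → Type} [∀ i, Group (S i)] {G : Prop}
  {κ : ℕ} {W : Finset ι → ℕ → ℕ → Prop} {E : ι → Prop} (X : Mx l tw p f T S G κ W E)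
include X

theorem Mx.av {I J : Finset ι} {r : ι → ℕ} {o₀ e nx : ℕ} (h : Av W I J r o₀ e nx) {r₀ e' : ℕ} (h0 : 0 < r₀) (hr : ∀ j ∈ J, r₀ ≤ r j)
    (he : e ≤ e') : ∃ o, o ∣ o₀ * ∏ j ∈ J, r j ∧ W I (kav r₀ e' nx) o :=
  let ⟨_, o, h1, h2, h3, h4⟩ := h.2.2.2 r₀ hr
  ⟨o, h2, X.a.mono _ _ _ _ _ h1 Subset.rfl (le_kav h0 he h3 h4)⟩

/-- **chains** -/
theorem Mx.c1w {J : Finset ι} {j₀ : ι} {r n : ι → ℕ} (hj : j₀ ∈ J) (h : ∀ j ∈ J, 5 ≤ r j ∧ El (p ^ f) (S j) (r j) (n j)) {s : ℕ}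
    (hs : s ≤ ∑ j ∈ J.erase j₀, (n j).totient) : s ≤ rk1 l (r j₀) (n j₀) ∧
      (Set.InjOn r J → W J (SZ l (rk1 l (r j₀) (n j₀) - s)) (∏ j ∈ J, r j)) ∧
      ∀ r₀, 0 < r₀ → (∀ j ∈ J, r₀ ≤ r j) → ∃ o, o ∣ ∏ j ∈ J, r j ∧ W J (kav r₀ (SZ l (rk1 l (r j₀) (n j₀) - s)) (SZ l l)) o := by
  obtain ⟨ρ, e, h1, h2, h3⟩ := X.c.c1 J j₀ r n hj h
  rw [Rc] at h1
  have h4 : e ≤ SZ l (rk1 l (r j₀) (n j₀) - s) := h2.trans (SZ_mono X.hl (by omega))
  refine ⟨by omega, fun k => X.a.mono _ _ _ _ _ (one_mul (∏ j ∈ J, r j) ▸ h3.2.2.1 k) Subset.rfl h4, fun r₀ h0 hr => ?_⟩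
  simpa only [one_mul] using X.av h3 h0 hr h4

/-- **pairs** -/
theorem Mx.pair {i j : ι} (hij : i ≠ j) {r n r' n' : ℕ} (h5 : 5 ≤ r) (h5' : 5 ≤ r') (h : El (p ^ f) (S i) r n)
    (h' : El (p ^ f) (S j) r' n') : n'.totient ≤ rk1 l r n ∧ (r ≠ r' → W {i, j} (SZ l (rk1 l r n - n'.totient)) (r * r')) ∧
      (l = 4 → ∃ o, o ∣ r * r' ∧ W {i, j} 8 o) := by
  obtain ⟨a1, a2, a3⟩ := X.c1w (J := {i, j}) (j₀ := i) (r := fun x => if x = i then r else r') (n := fun x => if x = i then n else n')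
    (mem_insert_self _ _) (fun x hx => by
      rcases mem_insert.1 hx with rfl | hx
      · simpa using ⟨h5, h⟩
      · obtain rfl := mem_singleton.1 hx
        simpa [hij.symm] using ⟨h5', h'⟩) (s := n'.totient) (by
      rw [erase_insert (by simpa using hij), sum_singleton, if_neg hij.symm])
  simp only [prod_pair hij, if_true, if_neg hij.symm] at a1 a2 a3
  refine ⟨a1, fun k => a2 ?_, fun k => ?_⟩
  · rw [coe_pair, Set.injOn_insert (by simpa using hij)]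
    simpa [hij.symm] using k
  · obtain ⟨o, b1, b2⟩ := a3 5 (by norm_num) fun x _ => by split_ifs <;> assumption
    have c : ∀ {r n : ℕ} {N : Type} [Group N], 5 ≤ r → El (p ^ f) N r n → 1 ≤ n.totient ∧ r.Coprime 6 := fun k1 k2 =>
      ⟨Nat.totient_pos.2 (Nat.pos_of_dvd_of_pos k2.dvd (by omega)), cop6 k2.1 k1⟩
    refine ⟨o, b1, X.a.gap _ _ _ b2 k (((c h5 h).2.mul_left (c h5' h').2).coprime_dvd_left b1) ?_⟩
    subst k
    have b3 : rk1 4 r n - n'.totient ≤ 2 := by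
      have := (c h5 h).1
      have := (c h5' h').1
      simp only [rk1, show ¬ (4 = 6 ∧ 4 ∣ n) from fun k => absurd k.1 (by decide), show ¬ (4 = 8 ∧ r = 5) from fun k => absurd k.1 (by decide),
        if_false]
      omega
    generalize rk1 4 r n - n'.totient = ρ at b3
    interval_cases ρ <;> decide

/-- **chains with an element of order three** -/
theorem Mx.c3w {J : Finset ι} {j₀ i : ι} {r n : ι → ℕ} {b : Bool} (hj : j₀ ∈ J) (h : ∀ j ∈ J, 5 ≤ r j ∧ El (p ^ f) (S j) (r j) (n j))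
    (hi : i ∉ J) (hp : p ≠ 3) (h3 : 3 ∣ Nat.card (S i)) (hb : b = false → ¬ E i) {s₁ s r₀ : ℕ}
    (hs₁ : s₁ ≤ ∑ j ∈ J.erase j₀, (n j).totient) (hs : s ≤ ∑ j ∈ J, (n j).totient) (h0 : 0 < r₀) (hr : ∀ j ∈ J, r₀ ≤ r j) :
    ∃ k ∈ ks3 l b (rk1 l (r j₀) (n j₀) - s₁) s r₀, ∃ o, o ∣ 3 * ∏ j ∈ J, r j ∧ W (insert i J) k o := by
  obtain ⟨ρ, ρ', e, x, hx, h1, h2, h4, h5, h6⟩ := X.c.c3 J j₀ i r n b hj h hi hp h3 hb
  rw [Rc] at h1
  refine ⟨_, List.mem_map.2 ⟨x, List.mem_filter.2 ⟨hx, decide_eq_true ⟨by omega, fun k => ?_⟩⟩, rfl⟩,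
    X.av h6 h0 hr (le_min (h5.trans (SZ_mono X.hl ?_)) h6.1.le)⟩
  · have := h2 (by omega)
    omega
  · rw [rk3]
    split_ifs with k
    · have := h2 (by omega)
      omega
    · omega

/-- two choices of the element of order three: one of them is not of the class `D₅ T₁` -/
theorem Mx.ne_E {i i' : ι} (h : i ≠ i') : ¬ E i ∨ ¬ E i' := by
  by_contra k
  push Not at k
  exact h (X.n.ee i i' k.1 k.2)

/-- the multiplicity -/
theorem Mx.mx (i : ι) {m : ℕ} (h : ¬ Nat.card (S i) ^ (m + 1) ∣ T) : #{j | Nat.card (S j) = Nat.card (S i)} ≤ m := by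
  by_contra k
  refine h ((pow_dvd_pow _ (not_le.1 k)).trans (Dvd.dvd.trans ?_ ((dvd_mul_right _ κ).trans X.a.lag)))
  rw [← prod_const, prod_congr rfl (g := fun j => Nat.card (S j)) fun j hj => (mem_filter.1 hj).2.symm]
  exact prod_dvd_prod_of_subset _ _ _ (subset_univ _)

/-- the product of the orders of some components divides `T` -/
theorem Mx.lagI (I : Finset ι) : ∏ i ∈ I, Nat.card (S i) ∣ T :=
  (prod_dvd_prod_of_subset _ _ _ (subset_univ _)).trans ((dvd_mul_right _ κ).trans X.a.lag)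

/-- the orbit bound; `b i` bounds the multiplicity times the order -/
theorem Mx.orbB {I : Finset ι} {k o : ℕ} (w : W I k o) {b : ι → ℕ}
    (hb : ∀ i ∈ I, #{j | Nat.card (S j) = Nat.card (S i)} * Nat.card (S i) ≤ b i) :
    (∏ i, Nat.card (S i)) * κ ≤ (∏ i ∈ I, b i) * cb l (p ^ f) k :=
  (X.a.orb I k o w).trans (Nat.mul_le_mul_right _ (prod_le_prod' hb))

/-- a win from a bound for `|A|` -/
theorem Mx.winB {I : Finset ι} {k o B : ℕ} (w : W I k o) (hB : (∏ i, Nat.card (S i)) * κ ≤ B) (h : cb l (p ^ f) k ^ 3 * B ≤ T) : G :=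
  X.a.win I k o w ((Nat.mul_le_mul_left _ hB).trans h)

theorem Mx.kdv {u : ι → ℕ} (hu : ∀ i, Nat.card (MulAut (S i)) ∣ u i * Nat.card (S i)) : κ ∣ (∏ i, u i) * mu fun i => Nat.card (S i) :=
  X.a.kdv.trans (Nat.mul_dvd_mul_right (prod_dvd_prod_of_dvd _ _ fun i _ =>
    have := X.b.fin i
    div_dvd (hu i) (card_dvd_aut (X.b.simple i) (X.b.nonab i)) Nat.card_pos) _)

/-- the exact bound -/
theorem Mx.A_ex {u : ι → ℕ} (h0 : ∀ i, u i ≠ 0) (hu : ∀ i, Nat.card (MulAut (S i)) ∣ u i * Nat.card (S i)) :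
    (∏ i, Nat.card (S i)) * κ ≤ (∏ i, Nat.card (S i)) * ((∏ i, u i) * mu fun i => Nat.card (S i)) :=
  Nat.mul_le_mul_left _ (Nat.le_of_dvd (Nat.mul_pos (prod_pos fun i _ => Nat.pos_of_ne_zero (h0 i))
    (prod_pos fun _ _ => Nat.factorial_pos _)) (X.kdv hu))

/-- the criterion without the outer automorphisms -/
theorem Mx.leafK {u : ι → ℕ} (hu : ∀ i, Nat.card (MulAut (S i)) ∣ u i * Nat.card (S i)) {I : Finset ι} {k o o' : ℕ} (w : W I k o)
    (ho : o ∣ o') (hc : o'.Coprime ((∏ i, u i) * mu fun i => Nat.card (S i))) (h : cb l (p ^ f) k ^ 3 * ∏ i, Nat.card (S i) ≤ T) : G :=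
  X.a.winK I k o w ((hc.coprime_dvd_left ho).coprime_dvd_right (X.kdv hu)) h

end Cfsg.Agent.N2.Ex.Mu
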