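import Cfsg.Agent.N2.Ex.Mu.Num.SC
import Cfsg.Agent.N2.Ex.Mu.Num.SRul

/-!
# N2 (S3519), several components, `q < 32`: the rules for one and two components (helper41)
-/

set_option autoImplicit false
set_option linter.unusedSectionVars false

namespace Cfsg.Agent.N2.Ex.Mu.Sq

open Cfsg Finset

namespace R12

theorem bd_eq {l : ℕ} (hl : l = 4 ∨ l = 6 ∨ l = 7 ∨ l = 8) :
    Cb.bd l 2 = col l 18 40 72 126 ∧ Cb.bd l 4 = col l 8 12 26 60 ∧ Cb.bd l 6 = col l 6 24 30 72 := by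
  rcases hl with rfl | rfl | rfl | rfl <;> decide

theorem nd {l n : ℕ} (h : l = 4 ∨ n = 4 ∨ n = 6) : l = 4 ∨ ¬ n ∣ 2 := h.imp_right fun k => by
  rcases k with rfl | rfl <;> decide

variable {ι : Type} [Fintype ι] [DecidableEq ι] {S : ι → Type} [∀ i, Group (S i)] {G : Prop} {W : Finset ι → ℕ → ℕ → Prop}
  {q M : ℕ} {x : ι → Rec} (hx : ∀ i, Ok q (S i) (x i)) (hM : Fintype.card ι ≤ M)
include hx hM

theorem one (i : ι) : #{j | Nat.card (S j) = Nat.card (S i)} * Nat.card (S i) ≤ M * (x i).t :=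
  Nat.mul_le_mul ((card_le_univ _).trans hM) (hx i).card.le

theorem two {i j : ι} (h : i ≠ j) {k o : ℕ} (w : W {i, j} k o) : Holds S G W (some (k, o, M * (x i).t * (M * (x j).t))) :=
  Or.inr ⟨_, o, w, fun _ => dvd_rfl, fun _ => by
    rw [prod_pair h]
    exact Nat.mul_le_mul (one hx hM i) (one hx hM j)⟩

end R12

open R12

/-- **[R1]** -/
theorem boxR1 : BoxR1 := by
  intro l tw p f T M ι _ _ S _ G κ W E x X hx hM i φ hφ
  obtain ⟨e, he, hφ⟩ := List.mem_flatMap.1 hφ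
  have h1 := (hx i).el e he
  rcases List.mem_cons.1 hφ with rfl | hφ
  · refine Or.inr ⟨{i}, e.1, ?_, fun _ => dvd_rfl, fun _ => prod_singleton (M := ℕ) _ i ▸ one hx hM i⟩
    obtain ⟨b2, b4, b6⟩ := bd_eq X.hl
    show W {i} (bdT l e.2) e.1
    unfold bdT
    split_ifs with k1 k2
    · exact b4 ▸ (X.t.t0 i _ 4 (k1 ▸ h1)).1
    · exact b6 ▸ (X.t.t0 i _ 6 (k2 ▸ h1)).1
    · exact b2 ▸ (X.t.t0 i _ 2 h1.two).1
  · split_ifs at hφ with k
    swap
    · cases hφ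
    have := X.b.two
    obtain ⟨j, hj⟩ := exists_ne i
    obtain ⟨k', k1, k2⟩ := X.t.t2 i j _ _ hj.symm h1 k.1 (nd k.2)
    rw [List.mem_singleton.1 hφ, k1]
    exact Or.inr ⟨_, _, k2, fun k => absurd rfl k, fun k => absurd rfl k⟩

/-- **[R2]** -/
theorem boxR2 : BoxR2 := by
  intro l tw p f T M ι _ _ S _ G κ W E x X hx hM i j hij φ hφ
  have h3 : (x j).t % 3 = 0 → 3 ∣ Nat.card (S j) := fun k => (hx j).card ▸ Nat.dvd_of_mod_eq_zero k
  rw [r2, fo_eq] at hφ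
  rcases List.mem_append.1 hφ with hφ | hφ
  · split_ifs at hφ with k
    swap
    · cases hφ
    obtain ⟨a, b, a1, a2, a3, a4, a5⟩ := (hx i).e9 k.1
    exact List.mem_singleton.1 hφ ▸ two hx hM hij (X.s.e9 i j hij k.2.2 k.2.1 a b a1 a2 a3 a4 a5)
  obtain ⟨e, he, hφ⟩ := List.mem_flatMap.1 hφ
  have h1 := (hx i).el e he
  rcases List.mem_append.1 hφ with hφ | hφ
  · rcases List.mem_append.1 hφ with hφ | hφ
    · split_ifs at hφ with k1 k2 k3
      · obtain ⟨k', k4, k5⟩ := X.t.t2 i j _ _ hij h1 k2 (nd k1)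
        rw [List.mem_singleton.1 hφ, k4]
        exact two hx hM hij k5
      · obtain ⟨k', k4, k5⟩ := X.t.t3 i j _ _ hij h1 (fun k => k2 (by show p ≠ 2; omega)) k3.1 (h3 k3.2) (nd k1)
        rw [List.mem_singleton.1 hφ, k4]
        exact two hx hM hij k5
      all_goals cases hφ
    · split_ifs at hφ with k
      swap
      · cases hφ
      obtain ⟨k1, k2, k3, k4, k5⟩ := k
      obtain ⟨e', k6, k7⟩ := List.any_eq_true.1 k5
      exact List.mem_singleton.1 hφ ▸ two hx hM hij (X.t.c7 i j _ _ _ hij k1 (k2 ▸ h1) k3 (h3 k4) ((hx j).el e' k6)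
        ((of_decide_eq_true k7).ge.trans (ph_le _)))
  · split_ifs at hφ with k1
    swap
    · cases hφ
    obtain ⟨e', he', hφ⟩ := List.mem_flatMap.1 hφ
    by_cases k2 : 5 ≤ e'.1
    swap
    · rw [if_neg k2] at hφ
      cases hφ
    obtain ⟨a1, a2, -⟩ := X.pair hij k1 k2 h1 ((hx j).el e' he')
    have a3 := rk1_le l e.1 e.2
    have a4 := ph_le e'.2
    rw [if_pos k2, if_neg (by show ¬ rk l e.1 e.2 < _; omega)] at hφ
    split_ifs at hφ with k3
    swap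
    · cases hφ
    exact List.mem_singleton.1 hφ ▸ two hx hM hij (X.a.mono _ _ _ _ _ (a2 k3) subset_rfl
      (Sq.SZ_mono X.hl (by show _ ≤ rk l e.1 e.2 - _; omega)))

end Cfsg.Agent.N2.Ex.Mu.Sq
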