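import Cfsg.Agent.N2.Ex.Mu.Num.SDefs

/-!
# N2 (S3519), several components, `q < 32`: three components and the row `n = 2` (helper69)
-/

set_option autoImplicit false

namespace Cfsg.Agent.N2.Ex.Mu.Sq.R69

open Cfsg Finset

theorem holds0 {ι : Type} [Fintype ι] [DecidableEq ι] {S : ι → Type} [∀ i, Group (S i)] {G : Prop} {W : Finset ι → ℕ → ℕ → Prop}
    {I : Finset ι} {k o : ℕ} (w : W I k o) : Holds S G W (some (k, 0, 0)) :=
  .inr ⟨I, o, w, fun h => absurd rfl h, fun h => absurd rfl h⟩

/-- **[R3]** -/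
theorem boxR3 : BoxR3 := by
  intro l tw p f T M ι _ _ S _ G κ W E x X hx _ li hli φ hφ
  unfold r3 at hφ
  split_ifs at hφ with h
  · obtain ⟨h1, h2, h3⟩ := h
    rw [List.mem_singleton.1 hφ]
    rw [List.filter_map, List.length_map] at h3
    have h4 := hli.filter ((fun a : Rec => decide (a.t % 3 = 0)) ∘ x)
    have h5 : ∀ i ∈ li.filter ((fun a : Rec => decide (a.t % 3 = 0)) ∘ x), 3 ∣ Nat.card (S i) := fun i hi => by
      rw [(hx i).card]
      exact Nat.dvd_of_mod_eq_zero (of_decide_eq_true (List.mem_filter.1 hi).2)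
    generalize li.filter ((fun a : Rec => decide (a.t % 3 = 0)) ∘ x) = L at h3 h4 h5
    match L, h3, h4, h5 with
    | i :: j :: k :: _, _, h4, h5 =>
      simp only [List.nodup_cons, List.mem_cons, not_or] at h4
      exact holds0 (X.s.t33 i j k h4.1.1 h4.1.2.1 h4.2.1.1 h1 h2 (h5 i (by simp)) (h5 j (by simp)) (h5 k (by simp)))
  · cases hφ

/-- **[RN]** -/
theorem boxRN : BoxRN := by
  intro l tw p f T M ι _ _ S _ G κ W E x X hx _ A n hA hn φ hφ
  unfold rN at hφ
  by_cases h : l ≠ 4 ∧ A.all (fun a => decide (a.ou * a.t < (p ^ f) ^ nt l)) = true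
  · rw [if_pos h] at hφ
    have h1 : ∀ i, Nat.card (MulAut (S i)) < (p ^ f) ^ nt l := fun i => by
      have := X.b.fin i
      refine lt_of_le_of_lt (Nat.le_of_dvd (Nat.mul_pos (hx i).pos ?_) (hx i).aut)
        (of_decide_eq_true (List.all_eq_true.1 h.2 _ (hA i)))
      rw [← (hx i).card]
      exact Nat.card_pos
    rcases List.mem_append.1 hφ with k | k
    · split_ifs at k with h2
      · obtain ⟨i, j, o, -, w⟩ := X.n.n2 h.1 h2 h1
        rw [List.mem_singleton.1 k]
        exact holds0 w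
      · cases k
    · by_cases h2 : p ≠ 3 ∧ A.all (fun a => decide (a.t % 3 = 0) && a.el.any fun e => decide (5 ≤ e.1)) = true
      · rw [if_pos h2] at k
        obtain ⟨i, j, o, -, w⟩ := X.n.n3 h.1 h2.1 h1 fun i => by
          have h3 := List.all_eq_true.1 h2.2 _ (hA i)
          rw [Bool.and_eq_true, List.any_eq_true] at h3
          obtain ⟨h3, e, h4, h5⟩ := h3
          exact ⟨(hx i).card ▸ Nat.dvd_of_mod_eq_zero (of_decide_eq_true h3), e.1, of_decide_eq_true h5, ((hx i).el e h4).two⟩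
        rw [List.mem_singleton.1 k]
        refine holds0 (X.a.mono _ _ _ _ _ w Subset.rfl ?_)
        show _ ≤ if l = 6 ∧ 3 ≤ n then 12 else gN l 3
        split_ifs with a b b
        · exact le_rfl
        · rw [a.1]; decide
        · exact absurd ⟨b.1, b.2.trans hn⟩ a
        · exact le_rfl
      · rw [if_neg h2] at k
        cases k
  · rw [if_neg h] at hφ
    cases hφ

end Cfsg.Agent.N2.Ex.Mu.Sq.R69
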