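import Cfsg.Agent.N2.Ex.Mu.Num.SCv

/-!
# N2 (S3519), several components, `q < 32`: the runs, part 2 (helper83)
-/

set_option autoImplicit false
set_option maxRecDepth 100000

namespace Cfsg.Agent.N2.Ex.Mu.Sq

theorem run8a : chk (par 4 false 2 3) (cand 2 3) = true := by decide +kernel
theorem run8b : chk (par 6 false 2 3) (cand 2 3) = true := by decide +kernel
theorem run8c : chk (par 6 true 2 3) (cand 2 3) = true := by decide +kernel
theorem run8d : chk (par 7 false 2 3) (cand 2 3) = true := by decide +kernel
theorem run8e : chk (par 8 false 2 3) (cand 2 3) = true := by decide +kernel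
theorem five8 : Five 2 3 := ⟨run8a, run8b, run8c, run8d, run8e⟩

theorem run9a : chk (par 4 false 3 2) (cand 3 2) = true := by decide +kernel
theorem run9b : chk (par 6 false 3 2) (cand 3 2) = true := by decide +kernel
theorem run9c : chk (par 6 true 3 2) (cand 3 2) = true := by decide +kernel
theorem run9d : chk (par 7 false 3 2) (cand 3 2) = true := by decide +kernel
theorem run9e : chk (par 8 false 3 2) (cand 3 2) = true := by decide +kernel
theorem five9 : Five 3 2 := ⟨run9a, run9b, run9c, run9d, run9e⟩

theorem run11a : chk (par 4 false 11 1) (cand 11 1) = true := by decide +kernel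
theorem run11b : chk (par 6 false 11 1) (cand 11 1) = true := by decide +kernel
theorem run11c : chk (par 6 true 11 1) (cand 11 1) = true := by decide +kernel
theorem run11d : chk (par 7 false 11 1) (cand 11 1) = true := by decide +kernel
theorem run11e : chk (par 8 false 11 1) (cand 11 1) = true := by decide +kernel
theorem five11 : Five 11 1 := ⟨run11a, run11b, run11c, run11d, run11e⟩

theorem run13a : chk (par 4 false 13 1) (cand 13 1) = true := by decide +kernel
theorem run13b : chk (par 6 false 13 1) (cand 13 1) = true := by decide +kernel
theorem run13c : chk (par 6 true 13 1) (cand 13 1) = true := by decide +kernel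
theorem run13d : chk (par 7 false 13 1) (cand 13 1) = true := by decide +kernel
theorem run13e : chk (par 8 false 13 1) (cand 13 1) = true := by decide +kernel
theorem five13 : Five 13 1 := ⟨run13a, run13b, run13c, run13d, run13e⟩

end Cfsg.Agent.N2.Ex.Mu.Sq
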