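import Cfsg.Agent.N2.Ex.Mu.Num.SCv

/-!
# N2 (S3519), several components, `q < 32`: the runs, part 3 (helper83)
-/

set_option autoImplicit false
set_option maxRecDepth 100000

namespace Cfsg.Agent.N2.Ex.Mu.Sq

theorem run16a : chk (par 4 false 2 4) (cand 2 4) = true := by decide +kernel
theorem run16b : chk (par 6 false 2 4) (cand 2 4) = true := by decide +kernel
theorem run16c : chk (par 6 true 2 4) (cand 2 4) = true := by decide +kernel
theorem run16d : chk (par 7 false 2 4) (cand 2 4) = true := by decide +kernel
theorem run16e : chk (par 8 false 2 4) (cand 2 4) = true := by decide +kernel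
theorem five16 : Five 2 4 := ⟨run16a, run16b, run16c, run16d, run16e⟩

theorem run17a : chk (par 4 false 17 1) (cand 17 1) = true := by decide +kernel
theorem run17b : chk (par 6 false 17 1) (cand 17 1) = true := by decide +kernel
theorem run17c : chk (par 6 true 17 1) (cand 17 1) = true := by decide +kernel
theorem run17d : chk (par 7 false 17 1) (cand 17 1) = true := by decide +kernel
theorem run17e : chk (par 8 false 17 1) (cand 17 1) = true := by decide +kernel
theorem five17 : Five 17 1 := ⟨run17a, run17b, run17c, run17d, run17e⟩

theorem run19a : chk (par 4 false 19 1) (cand 19 1) = true := by decide +kernel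
theorem run19b : chk (par 6 false 19 1) (cand 19 1) = true := by decide +kernel
theorem run19c : chk (par 6 true 19 1) (cand 19 1) = true := by decide +kernel
theorem run19d : chk (par 7 false 19 1) (cand 19 1) = true := by decide +kernel
theorem run19e : chk (par 8 false 19 1) (cand 19 1) = true := by decide +kernel
theorem five19 : Five 19 1 := ⟨run19a, run19b, run19c, run19d, run19e⟩

theorem run23a : chk (par 4 false 23 1) (cand 23 1) = true := by decide +kernel
theorem run23b : chk (par 6 false 23 1) (cand 23 1) = true := by decide +kernel
theorem run23c : chk (par 6 true 23 1) (cand 23 1) = true := by decide +kernel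
theorem run23d : chk (par 7 false 23 1) (cand 23 1) = true := by decide +kernel
theorem run23e : chk (par 8 false 23 1) (cand 23 1) = true := by decide +kernel
theorem five23 : Five 23 1 := ⟨run23a, run23b, run23c, run23d, run23e⟩

end Cfsg.Agent.N2.Ex.Mu.Sq
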