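import Cfsg.Agent.N2.Ex.Mu.Num.SCv

/-!
# N2 (S3519), several components, `q < 32`: the runs, part 4 (helper83)
-/

set_option autoImplicit false
set_option maxRecDepth 100000

namespace Cfsg.Agent.N2.Ex.Mu.Sq

theorem run25a : chk (par 4 false 5 2) (cand 5 2) = true := by decide +kernel
theorem run25b : chk (par 6 false 5 2) (cand 5 2) = true := by decide +kernel
theorem run25c : chk (par 6 true 5 2) (cand 5 2) = true := by decide +kernel
theorem run25d : chk (par 7 false 5 2) (cand 5 2) = true := by decide +kernel
theorem run25e : chk (par 8 false 5 2) (cand 5 2) = true := by decide +kernel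
theorem five25 : Five 5 2 := ⟨run25a, run25b, run25c, run25d, run25e⟩

theorem run27a : chk (par 4 false 3 3) (cand 3 3) = true := by decide +kernel
theorem run27b : chk (par 6 false 3 3) (cand 3 3) = true := by decide +kernel
theorem run27c : chk (par 6 true 3 3) (cand 3 3) = true := by decide +kernel
theorem run27d : chk (par 7 false 3 3) (cand 3 3) = true := by decide +kernel
theorem run27e : chk (par 8 false 3 3) (cand 3 3) = true := by decide +kernel
theorem five27 : Five 3 3 := ⟨run27a, run27b, run27c, run27d, run27e⟩

theorem run29a : chk (par 4 false 29 1) (cand 29 1) = true := by decide +kernel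
theorem run29b : chk (par 6 false 29 1) (cand 29 1) = true := by decide +kernel
theorem run29c : chk (par 6 true 29 1) (cand 29 1) = true := by decide +kernel
theorem run29d : chk (par 7 false 29 1) (cand 29 1) = true := by decide +kernel
theorem run29e : chk (par 8 false 29 1) (cand 29 1) = true := by decide +kernel
theorem five29 : Five 29 1 := ⟨run29a, run29b, run29c, run29d, run29e⟩

theorem run31a : chk (par 4 false 31 1) (cand 31 1) = true := by decide +kernel
theorem run31b : chk (par 6 false 31 1) (cand 31 1) = true := by decide +kernel
theorem run31c : chk (par 6 true 31 1) (cand 31 1) = true := by decide +kernel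
theorem run31d : chk (par 7 false 31 1) (cand 31 1) = true := by decide +kernel
theorem run31e : chk (par 8 false 31 1) (cand 31 1) = true := by decide +kernel
theorem five31 : Five 31 1 := ⟨run31a, run31b, run31c, run31d, run31e⟩

end Cfsg.Agent.N2.Ex.Mu.Sq
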