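import Cfsg.Agent.N2.Ex.Mu.Num.SDefs
import Cfsg.Agent.N2.Ex.Mu.Num.SRul

/-!
# N2 (S3519), several components, `q < 32`: the test `win` is sound (helper83)
-/

set_option autoImplicit false
set_option linter.unusedSectionVars false

namespace Cfsg.Agent.N2.Ex.Mu.Sq

open Cfsg Finset

theorem picks_cons {α : Type} (a : α) (l : List α) : picks (a :: l) = (a, l) :: (picks l).map fun z => (z.1, a :: z.2) := rfl

theorem picks_map {α β : Type} (f : α → β) (l : List α) : picks (l.map f) = (picks l).map fun z => (f z.1, z.2.map f) := by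
  induction l with
  | nil => rfl
  | cons a l ih => rw [List.map_cons, picks_cons, picks_cons, ih, List.map_cons, List.map_map, List.map_map]; rfl

theorem picks_perm {α : Type} {l : List α} {z : α × List α} (h : z ∈ picks l) : (z.1 :: z.2).Perm l := by
  induction l generalizing z with
  | nil => cases h
  | cons a l ih =>
    rcases List.mem_cons.1 h with rfl | k
    · exact .refl _
    · obtain ⟨y, k1, rfl⟩ := List.mem_map.1 k
      exact (List.Perm.swap _ _ _).trans ((ih k1).cons a)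

theorem picks_fst {α : Type} (l : List α) : (picks l).map Prod.fst = l := by
  induction l with
  | nil => rfl
  | cons a l ih => rw [picks_cons, List.map_cons, List.map_map]; exact congrArg _ ih

theorem le_foldr {k : ℕ} {l : List ℕ} : k ≤ l.foldr max k ∧ ∀ a ∈ l, a ≤ l.foldr max k := by
  induction l with
  | nil => exact ⟨le_rfl, fun _ h => nomatch h⟩
  | cons b l ih =>
    exact ⟨ih.1.trans (le_max_right _ _), fun a h => (List.mem_cons.1 h).elim (fun k => k.le.trans (le_max_left _ _))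
      fun k => (ih.2 a k).trans (le_max_right _ _)⟩

theorem mu_eq {ι : Type} [Fintype ι] [DecidableEq ι] (t : ι → ℕ) {li : List ι} (h : li.Nodup) (h1 : ∀ i, i ∈ li) :
    mu t = muL (li.map t) := by
  have h2 : li.toFinset = univ := eq_univ_of_forall fun i => List.mem_toFinset.2 (h1 i)
  rw [mu, muL, ← List.prod_toFinset _ (List.nodup_dedup _)]
  refine prod_congr (Finset.ext fun v => by simp [h1]) fun v _ => congrArg _ ?_
  rw [← h2, List.count_eq_countP, List.countP_map, List.countP_eq_length_filter, ← List.toFinset_card_of_nodup (h.filter _),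
    List.toFinset_filter]
  exact congrArg _ (filter_congr fun i _ => by simp)

variable {ι : Type} [Fintype ι] [DecidableEq ι] {l : ℕ} {tw : Bool} {p f T M : ℕ} {S : ι → Type} [∀ i, Group (S i)] {G : Prop}
  {κ : ℕ} {W : Finset ι → ℕ → ℕ → Prop} {E : ι → Prop}

theorem kmin_ok {F : List Fct} (hF : ∀ φ ∈ F, Holds S G W φ) {c : ℕ → Bool}
    (hc : ∀ k, (1000 ≤ k ∨ ∃ I o, W I k o) → c k = true → G) {k₀ : ℕ} (h0 : 1000 ≤ k₀ ∨ ∃ I o, W I k₀ o)
    (h : kmin F k₀ c = true) : G := by
  induction F generalizing k₀ with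
  | nil => exact hc _ h0 h
  | cons φ F ih =>
    have h1 := hF φ List.mem_cons_self
    obtain _ | z := φ
    · exact h1
    rcases h1 with h1 | ⟨I, o, h1, -⟩
    · exact h1
    have h2 : fo (min z.1 k₀) (fun k => kmin F k c) = true := h
    rw [fo_eq] at h2
    refine ih (fun ψ k => hF ψ (List.mem_cons_of_mem _ k)) ?_ h2
    rcases min_choice z.1 k₀ with k | k <;> rw [k]
    exacts [Or.inr ⟨I, o, h1⟩, h0]

variable (X : Mx l tw p f T S G κ W E)
include X

theorem umin_ok {F : List Fct} (hF : ∀ φ ∈ F, Holds S G W φ) {c : ℕ → Bool}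
    (hc : ∀ u, (∏ i, Nat.card (S i)) * κ ≤ u → c u = true → G) {u₀ : ℕ} (h0 : (∏ i, Nat.card (S i)) * κ ≤ u₀)
    (h : umin ⟨l, p, p ^ f, T, M⟩ F u₀ c = true) : G := by
  induction F generalizing u₀ with
  | nil => exact hc _ h0 h
  | cons φ F ih =>
    have h1 := hF φ List.mem_cons_self
    obtain _ | z := φ
    · exact h1
    rcases h1 with h1 | ⟨I, o, h1, -, h3⟩
    · exact h1
    have h2 : cond (Nat.beq z.2.2 0) (umin ⟨l, p, p ^ f, T, M⟩ F u₀ c)
        (fo (min (z.2.2 * cb l (p ^ f) z.1) u₀) fun u => umin ⟨l, p, p ^ f, T, M⟩ F u c) = true := h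
    have ih' := fun u => @ih (fun ψ k => hF ψ (List.mem_cons_of_mem _ k)) u
    cases h4 : Nat.beq z.2.2 0 <;> rw [h4] at h2
    · rw [cond_false, fo_eq] at h2
      exact ih' _ (le_min ((X.a.orb I _ o h1).trans (Nat.mul_le_mul_right _ (h3 (Nat.ne_of_beq_eq_false h4)))) h0) h2
    · exact ih' _ h0 h2

theorem ok_ok {u : ℕ} (hu : (∏ i, Nat.card (S i)) * κ ≤ u) (k : ℕ) (hk : 1000 ≤ k ∨ ∃ I o, W I k o)
    (h : ok ⟨l, p, p ^ f, T, M⟩ u k = true) : G := by
  rw [ok, Bool.and_eq_true, Nat.blt_eq, Nat.ble_eq] at h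
  obtain ⟨I, o, w⟩ := hk.resolve_left (by omega)
  exact X.winB w hu h.2

variable {x : ι → Rec} (hx : ∀ i, Ok (p ^ f) (S i) (x i)) {li : List ι} (hli : li.Nodup)
include hx hli

omit X in
theorem prod_eq (h1 : ∀ i, i ∈ li) : (∏ i, Nat.card (S i)) = ((li.map x).map Rec.t).prod ∧
    (∏ i, (x i).ou) = ((li.map x).map Rec.ou).prod ∧ (mu fun i => Nat.card (S i)) = muL ((li.map x).map Rec.t) := by
  have h2 : li.toFinset = univ := eq_univ_of_forall fun i => List.mem_toFinset.2 (h1 i)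
  have h3 : (fun i => Nat.card (S i)) = Rec.t ∘ x := funext fun i => (hx i).card
  rw [List.map_map, List.map_map, ← List.prod_toFinset _ hli, ← List.prod_toFinset _ hli, h2, h3, mu_eq _ hli h1]
  exact ⟨rfl, rfl, rfl⟩

theorem aB_ok (hM : Fintype.card ι ≤ M) {tb : List Rec} (htb : ∀ i, i ∉ li → x i ∈ tb) :
    (∏ i, Nat.card (S i)) * κ ≤ aB ⟨l, p, p ^ f, T, M⟩ (li.map x) tb := by
  have h0 : ∀ i, Nat.card (MulAut (S i)) ≤ (x i).ou * (x i).t := fun i =>
    have := X.b.fin i
    Nat.le_of_dvd (Nat.mul_pos (hx i).pos ((hx i).card ▸ Nat.card_pos)) (hx i).aut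
  have hc : #li.toFinset = li.length := List.toFinset_card_of_nodup hli
  rw [aB, List.length_map]
  split_ifs with h
  · have h1 : ∀ i, i ∈ li := fun i => by
      rcases h with h | h
      · by_contra k
        exact absurd (h ▸ htb i k) List.not_mem_nil
      · exact List.mem_toFinset.1 ((eq_univ_of_card _ (le_antisymm (card_le_univ _) (hc ▸ hM.trans h))).ge (mem_univ i))
    obtain ⟨k1, k2, k3⟩ := prod_eq hx hli h1
    refine (X.A_ex (fun i => (hx i).pos.ne') fun i => (hx i).card ▸ (hx i).aut).trans (le_of_eq ?_)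
    rw [k1, k2, k3, List.prod_map_mul]
    ring
  · refine X.A_le.trans ?_
    rw [← prod_mul_prod_compl li.toFinset, mul_comm, mul_assoc, List.map_map, ← List.prod_toFinset _ hli]
    refine Nat.mul_le_mul (prod_le_prod' fun i _ => h0 i) (Nat.mul_le_mul ?_ (Nat.factorial_le hM))
    refine (prod_le_pow_card _ _ _ fun i hi => (h0 i).trans (le_foldr.2 _ (List.mem_map_of_mem
      (htb i fun k => mem_compl.1 hi (List.mem_toFinset.2 k))))).trans (Nat.pow_le_pow_right le_foldr.1 ?_)
    rw [card_compl, hc]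
    exact Nat.sub_le_sub_right hM _

theorem okK_ok (h1 : ∀ i, i ∈ li) {F : List Fct} (hF : ∀ φ ∈ F, Holds S G W φ)
    (h : okK ⟨l, p, p ^ f, T, M⟩ (li.map x) F = true) : G := by
  obtain ⟨k1, k2, k3⟩ := prod_eq hx hli h1
  rw [okK, fo_eq, fo_eq, ← k1, ← k2, ← k3, List.any_eq_true] at h
  obtain ⟨φ, h2, h3⟩ := h
  have h4 := hF φ h2
  obtain _ | z := φ
  · exact h4
  rcases h4 with h4 | ⟨I, o, w, h4, -⟩
  · exact h4
  simp only [ok, Bool.and_eq_true, Bool.not_eq_true', Nat.beq_eq, Nat.ble_eq] at h3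
  exact X.leafK (fun i => (hx i).card ▸ (hx i).aut) w (h4 (Nat.ne_of_beq_eq_false h3.1.1)) h3.1.2 h3.2.2

omit hx X hli

/-- **[Win]** -/
theorem boxWin_of (b1 : BoxR1) (b2 : BoxR2) (b3 : BoxR3) (bN : BoxRN) (c1 : BoxC1) (c3 : BoxC3) : BoxWin := by
  intro l tw p f T M ι _ _ S _ G κ W E x X hx hM li tb hli htb h
  have hp : ∀ z ∈ picks li, z.1 ∉ z.2 ∧ z.2.Nodup := fun z k => List.nodup_cons.1 ((picks_perm k).nodup_iff.2 hli)
  have hA : ∀ φ ∈ fA ⟨l, p, p ^ f, T, M⟩ (li.map x), Holds S G W φ := fun φ k => by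
    rw [fA, picks_map] at k
    simp only [List.mem_append, List.mem_flatMap, List.mem_map] at k
    rcases k with ⟨_, ⟨i, -, rfl⟩, k⟩ | ⟨_, ⟨z, k1, rfl⟩, y, k2, k⟩
    · exact b1 l tw p f T M ι S G κ W E x X hx hM i φ k
    · obtain ⟨j, k3, rfl⟩ := List.mem_map.1 k2
      exact b2 l tw p f T M ι S G κ W E x X hx hM z.1 j (fun e => (hp z k1).1 (e ▸ k3)) φ k
  have hB : ∀ φ ∈ fB ⟨l, p, p ^ f, T, M⟩ (li.map x) tb, Holds S G W φ := fun φ k => by
    rw [fB, picks_map] at k
    simp only [List.mem_append, List.mem_flatMap] at k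
    rcases k with ((k | k) | k) | ⟨y, k1, k⟩
    · exact b3 l tw p f T M ι S G κ W E x X hx hM li hli φ k
    · refine bN l tw p f T M ι S G κ W E x X hx hM _ _ (fun i => List.mem_append.2 ?_) ?_ φ k
      · by_cases k1 : i ∈ li
        exacts [Or.inl (List.mem_map_of_mem k1), Or.inr (htb i k1)]
      · rw [List.length_map]
        exact hli.length_le_card
    · exact c1 l tw p f T M ι S G κ W E x X hx hM li hli φ k
    · obtain ⟨z, k2, rfl⟩ := List.mem_map.1 k1
      exact c3 l tw p f T M ι S G κ W E x X hx hM true z.1 z.2 (hp z k2).2 (hp z k2).1 nofun φ k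
  rw [win, Bool.or_eq_true] at h
  rcases h with h | h
  · rw [Bool.not_eq_true'] at h
    refine absurd (Nat.mod_eq_zero_of_dvd ?_) (Nat.ne_of_beq_eq_false h)
    rw [List.map_map, ← List.prod_toFinset _ hli]
    exact (prod_congr rfl fun i _ => (hx i).card.symm).dvd.trans (X.lagI _)
  refine umin_ok X hA (fun A hA' h => kmin_ok hA (fun k hk h => ?_) (Or.inl le_rfl) h) (aB_ok X hx hli hM htb) h
  simp only [Bool.or_eq_true, Bool.and_eq_true] at h
  rcases h with h | h | ⟨-, h⟩ | ⟨h1, h⟩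
  · exact ok_ok X hA' k hk h
  · exact kmin_ok hB (ok_ok X hA') hk h
  · rw [Nat.ble_eq, picks_map, List.filter_map, List.length_map] at h
    generalize hg : List.filter _ (picks li) = L at h
    have h2 : ∀ z ∈ L, z ∈ picks li ∧ (¬ E z.1 → G) := fun z k => by
      rw [← hg, List.mem_filter] at k
      exact ⟨k.1, fun k1 => kmin_ok (c3 l tw p f T M ι S G κ W E x X hx hM false z.1 z.2 (hp z k.1).2 (hp z k.1).1 fun _ => k1)
        (ok_ok X hA') (Or.inl le_rfl) k.2⟩
    have h3 : (L.map Prod.fst).Nodup := ((picks_fst li).symm ▸ hli : ((picks li).map Prod.fst).Nodup).sublist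
      (hg ▸ List.filter_sublist.map _)
    obtain _ | ⟨a, _ | ⟨b, L⟩⟩ := L
    · simp at h
    · simp at h
    rcases X.ne_E (i := a.1) (i' := b.1) (fun e => by simp [e] at h3) with k | k
    exacts [(h2 a (by simp)).2 k, (h2 b (by simp)).2 k]
  · exact okK_ok X hx hli (fun i => by_contra fun k => absurd (List.isEmpty_iff.1 h1 ▸ htb i k) List.not_mem_nil) hA h

end Cfsg.Agent.N2.Ex.Mu.Sq
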