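import Cfsg.Agent.N2.Ex.Mu.Num.SRun1
import Cfsg.Agent.N2.Ex.Mu.Num.SRun2
import Cfsg.Agent.N2.Ex.Mu.Num.SRun3
import Cfsg.Agent.N2.Ex.Mu.Num.SRun4
import Cfsg.Agent.N2.Ex.Mu.Num.SC
import Cfsg.Agent.N2.Ex.Mu.Num.SWin
import Cfsg.Agent.N2.Ex.Mu.Num.SR12
import Cfsg.Agent.N2.Ex.Mu.Num.SR69
import Cfsg.Agent.N2.Ex.Mu.Num.SChk

/-!
# N2 (S3519), several components, `q < 32`: all runs, the engine (helper83)
-/

set_option autoImplicit false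

namespace Cfsg.Agent.N2.Ex.Mu.Sq

theorem five {p f : ℕ} (hp : p.Prime) (hf : 0 < f) (h : p ^ f < 32) : Five p f := by
  have h1 : p < 32 := (Nat.le_self_pow hf.ne' p).trans_lt h
  have h2 : f < 5 := by
    by_contra k
    exact absurd ((Nat.pow_le_pow_left hp.two_le 5).trans (Nat.pow_le_pow_right hp.pos (not_lt.1 k))) (by omega)
  have h3 : ∀ p < 32, ∀ f < 5, p.Prime ∧ 0 < f ∧ p ^ f < 32 → (p, f) ∈ [(2, 1), (3, 1), (2, 2), (5, 1), (7, 1), (2, 3), (3, 2),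
      (11, 1), (13, 1), (2, 4), (17, 1), (19, 1), (23, 1), (5, 2), (3, 3), (29, 1), (31, 1)] := by
    set_option synthInstance.maxSize 1000 in decide +kernel
  have h4 := h3 p h1 f h2 ⟨hp, hf, h⟩
  simp only [List.mem_cons, Prod.mk.injEq, List.not_mem_nil, or_false] at h4
  rcases h4 with ⟨rfl, rfl⟩ | ⟨rfl, rfl⟩ | ⟨rfl, rfl⟩ | ⟨rfl, rfl⟩ | ⟨rfl, rfl⟩ | ⟨rfl, rfl⟩ | ⟨rfl, rfl⟩ | ⟨rfl, rfl⟩ | ⟨rfl, rfl⟩ |
    ⟨rfl, rfl⟩ | ⟨rfl, rfl⟩ | ⟨rfl, rfl⟩ | ⟨rfl, rfl⟩ | ⟨rfl, rfl⟩ | ⟨rfl, rfl⟩ | ⟨rfl, rfl⟩ | ⟨rfl, rfl⟩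
  exacts [five2, five3, five4, five5, five7, five8, five9, five11, five13, five16, five17, five19, five23, five25, five27, five29,
    five31]

/-- **[Run]** -/
theorem boxRun {l : ℕ} (hl : l = 4 ∨ l = 6 ∨ l = 7 ∨ l = 8) : BoxRun cand l := by
  intro tw p f h hp hf hq
  obtain ⟨h1, h2, h3, h4, h5⟩ := five hp hf hq
  rcases hl with rfl | rfl | rfl | rfl
  · exact h.resolve_left (by norm_num) ▸ h1
  · cases tw
    exacts [h2, h3]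
  · exact h.resolve_left (by norm_num) ▸ h4
  · exact h.resolve_left (by norm_num) ▸ h5

/-- **[Chk]** -/
theorem boxChk : BoxChk := boxChk_of (boxWin_of boxR1 boxR2 R69.boxR3 R69.boxRN boxC1 boxC3)

/-- **[S]** from the data -/
theorem boxS_cand (c : BoxCand cand) (l : ℕ) (hl : l = 4 ∨ l = 6 ∨ l = 7 ∨ l = 8) : BoxS l := boxS_of boxChk c (boxRun hl)

end Cfsg.Agent.N2.Ex.Mu.Sq
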