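import Cfsg.Agent.N2.Ex.Mu.Num.SCv

/-!
# N2 (S3519), several components, `q < 32`: the runs, part 1 (helper83)
-/

set_option autoImplicit false
set_option maxRecDepth 100000

namespace Cfsg.Agent.N2.Ex.Mu.Sq

theorem run2a : chk (par 4 false 2 1) (cand 2 1) = true := by decide +kernel
theorem run2b : chk (par 6 false 2 1) (cand 2 1) = true := by decide +kernel
theorem run2c : chk (par 6 true 2 1) (cand 2 1) = true := by decide +kernel
theorem run2d : chk (par 7 false 2 1) (cand 2 1) = true := by decide +kernel
theorem run2e : chk (par 8 false 2 1) (cand 2 1) = true := by decide +kernel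
theorem five2 : Five 2 1 := ⟨run2a, run2b, run2c, run2d, run2e⟩

theorem run3a : chk (par 4 false 3 1) (cand 3 1) = true := by decide +kernel
theorem run3b : chk (par 6 false 3 1) (cand 3 1) = true := by decide +kernel
theorem run3c : chk (par 6 true 3 1) (cand 3 1) = true := by decide +kernel
theorem run3d : chk (par 7 false 3 1) (cand 3 1) = true := by decide +kernel
theorem run3e : chk (par 8 false 3 1) (cand 3 1) = true := by decide +kernel
theorem five3 : Five 3 1 := ⟨run3a, run3b, run3c, run3d, run3e⟩

theorem run4a : chk (par 4 false 2 2) (cand 2 2) = true := by decide +kernel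
theorem run4b : chk (par 6 false 2 2) (cand 2 2) = true := by decide +kernel
theorem run4c : chk (par 6 true 2 2) (cand 2 2) = true := by decide +kernel
theorem run4d : chk (par 7 false 2 2) (cand 2 2) = true := by decide +kernel
theorem run4e : chk (par 8 false 2 2) (cand 2 2) = true := by decide +kernel
theorem five4 : Five 2 2 := ⟨run4a, run4b, run4c, run4d, run4e⟩

theorem run5a : chk (par 4 false 5 1) (cand 5 1) = true := by decide +kernel
theorem run5b : chk (par 6 false 5 1) (cand 5 1) = true := by decide +kernel
theorem run5c : chk (par 6 true 5 1) (cand 5 1) = true := by decide +kernel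
theorem run5d : chk (par 7 false 5 1) (cand 5 1) = true := by decide +kernel
theorem run5e : chk (par 8 false 5 1) (cand 5 1) = true := by decide +kernel
theorem five5 : Five 5 1 := ⟨run5a, run5b, run5c, run5d, run5e⟩

theorem run7a : chk (par 4 false 7 1) (cand 7 1) = true := by decide +kernel
theorem run7b : chk (par 6 false 7 1) (cand 7 1) = true := by decide +kernel
theorem run7c : chk (par 6 true 7 1) (cand 7 1) = true := by decide +kernel
theorem run7d : chk (par 7 false 7 1) (cand 7 1) = true := by decide +kernel
theorem run7e : chk (par 8 false 7 1) (cand 7 1) = true := by decide +kernel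
theorem five7 : Five 7 1 := ⟨run7a, run7b, run7c, run7d, run7e⟩

end Cfsg.Agent.N2.Ex.Mu.Sq
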