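import Cfsg.Agent.N2.Ex.Mu.Num.Defs

/-!
# N2 (S3519), several components, the arithmetic: primitive primes in the defining characteristic (helper15)

`q₁ = p ^ (u d)`, `q = p ^ (v d)`, `u`, `v` coprime; a prime with `ord p = u d i` has `ord q = u (i / gcd i v)`.
-/

set_option autoImplicit false

namespace Cfsg.Agent.N2.Ex.Mu.Zs

open Cfsg Finset Cfsg.Agent.H902 Cfsg.Agent.OrdDiv
open Cfsg.Agent.N2C.RD (PdX Nd gX dX)
open Cfsg.Agent.N2.Ex.Sm (NB Nm hh sb Ch)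

theorem uv {b f : ℕ} (hb : 0 < b) (hf : 0 < f) :
    ∃ u v d, 0 < u ∧ 0 < v ∧ 0 < d ∧ u.Coprime v ∧ b = u * d ∧ f = v * d := by
  obtain ⟨d, u, v, h0, h1, h2, h3⟩ := Nat.exists_coprime' (Nat.gcd_pos_of_pos_left f hb)
  exact ⟨u, v, d, Nat.pos_of_mul_pos_right (h2 ▸ hb), Nat.pos_of_mul_pos_right (h3 ▸ hf), h0, h1, h2, h3⟩

theorem ord_eq {u v d i : ℕ} (hd : 0 < d) (h : u.Coprime v) : u * d * i / Nat.gcd (u * d * i) (v * d) = u * (i / Nat.gcd i v) := by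
  rw [mul_right_comm, Nat.gcd_mul_right, Nat.mul_div_mul_right _ _ hd, h.gcd_mul_left_cancel,
    Nat.mul_div_assoc _ (Nat.gcd_dvd_left _ _)]

/-- the order of the group generated by `-1`, the automizer and `q` -/
def nn (h u v i : ℕ) : ℕ := Nat.lcm 2 (Nat.lcm h (u * (i / Nat.gcd i v)))

theorem h_dvd (h u v i : ℕ) : h ∣ nn h u v i := (Nat.dvd_lcm_left _ _).trans (Nat.dvd_lcm_right _ _)

theorem o_dvd (h u v i : ℕ) : u * (i / Nat.gcd i v) ∣ nn h u v i := (Nat.dvd_lcm_right _ _).trans (Nat.dvd_lcm_right _ _)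

theorem u_dvd (h u v i : ℕ) : u ∣ nn h u v i := (Nat.dvd_mul_right _ _).trans (o_dvd h u v i)

theorem two_dvd (h u v i : ℕ) : 2 ∣ nn h u v i := Nat.dvd_lcm_left _ _

theorem six_dvd {h u v i : ℕ} (k : 3 ∣ nn h u v i) : 6 ∣ nn h u v i :=
  Nat.Coprime.mul_dvd_of_dvd_of_dvd (by norm_num : Nat.Coprime 2 3) (two_dvd h u v i) k

variable {N : Type} [Group N] {g : Grp} {X : Art.Sh} {p q r n m : ℕ}

theorem el_mono (h : El q N r n) (hm : m ∣ n) : El q N r m := by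
  obtain ⟨h1, h2, h3, k, h4, h5⟩ := h
  exact ⟨h1, h2, h3, k, h4, hm.trans h5⟩

theorem nb_dvd (hB : NoBig q N) (h : El q N r n) : n ∣ 4 ∨ n ∣ 6 := by
  have := hB r n h
  unfold Big at this
  tauto

/-- **the primitive prime**, for a subfield of `p ^ (u * d)` elements -/
theorem zs' [Finite N] (B : NB) {b u v d i : ℕ} (k : Nm N g X p b) (h1 : u * d ∣ b) (h2 : u * d = b ∨ sb g = true)
    (hv : 0 < v) (huv : u.Coprime v) (hD : PdX X i) (h3 : 3 ≤ u * d * i) (h6 : ¬ (p = 2 ∧ u * d * i = 6)) :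
    ∃ r, orderOf ((p : ℕ) : ZMod r) = u * d * i ∧ 5 ≤ r ∧ El (p ^ (v * d)) N r (nn (hh g i) u v i) := by
  have hp := k.ord.hp
  obtain ⟨r, hr, ho, -, hrp⟩ := H370.Rg.exists_rk hp h3 h6
  have h5 := N2C.RD.Au.five_le hr ho h3
  have h0 : 0 < u * d := Nat.pos_of_mul_pos_right (lt_of_lt_of_le three_pos h3)
  have hd : 0 < d := Nat.pos_of_mul_pos_left h0
  have e1 : orderOf ((p ^ (u * d) : ℕ) : ZMod r) = i := by
    rw [Nat.cast_pow, orderOf_pow' _ h0.ne', ho, Nat.gcd_mul_right_left, Nat.mul_div_cancel_left _ h0]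
  have e2 : orderOf ((p ^ (v * d) : ℕ) : ZMod r) = u * (i / Nat.gcd i v) := by
    rw [Nat.cast_pow, orderOf_pow' _ (Nat.mul_pos hv hd).ne', ho, ord_eq hd huv]
  have hc := ((B.cj k.lie) X p b N k).1 r (u * d) hr h5 (fun e => hrp (e ▸ dvd_rfl)) h1 h2 (e1.symm ▸ hD)
  rw [e1] at hc
  exact ⟨r, ho, h5, hr, by omega, fun h => hrp (hr.dvd_of_dvd_pow h), _, hc, by rw [e2]; exact dvd_rfl⟩

/-- **the primitive prime** -/
theorem zs [Finite N] (B : NB) {u v d i : ℕ} (k : Nm N g X p (u * d)) (hv : 0 < v) (huv : u.Coprime v) (hD : PdX X i)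
    (h3 : 3 ≤ u * d * i) (h6 : ¬ (p = 2 ∧ u * d * i = 6)) :
    ∃ r, orderOf ((p : ℕ) : ZMod r) = u * d * i ∧ 5 ≤ r ∧ El (p ^ (v * d)) N r (nn (hh g i) u v i) :=
  zs' B k dvd_rfl (Or.inl rfl) hv huv hD h3 h6

/-- different orders, different primes -/
theorem ne_of_ord {r r' a i j : ℕ} (h : orderOf ((p : ℕ) : ZMod r) = a * i) (h' : orderOf ((p : ℕ) : ZMod r') = a * j)
    (ha : 0 < a) (hij : i ≠ j) : r ≠ r' := by
  rintro rfl
  exact hij (Nat.eq_of_mul_eq_mul_left ha (h.symm.trans h'))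

theorem five_le {f : ℕ} (h : 32 ≤ 2 ^ f) : 5 ≤ f := (Nat.pow_le_pow_iff_right (a := 2) (by norm_num)).1 h

theorem card_q {b f e : ℕ} (D : Nd X p b N) (h : b * dX X ≤ f * e) : Nat.card N ≤ (p ^ f) ^ e :=
  D.card_le.trans (by rw [← pow_mul, ← pow_mul]; exact Nat.pow_le_pow_right D.real.hp.pos h)

theorem aut_q {b f e : ℕ} (D : Nd X p b N) (s : ℕ) (hs : gX X p ≤ 2 ^ s) (h : b * (dX X + 1) + s ≤ f * e + 1) :
    Nat.card (MulAut N) ≤ (p ^ f) ^ e := by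
  have hp := D.real.hp
  refine Nat.le_of_mul_le_mul_left (D.aut_le'.trans ?_) hp.pos
  calc _ ≤ p ^ s * (p ^ b) ^ (dX X + 1) := Nat.mul_le_mul_right _ (hs.trans (Nat.pow_le_pow_left hp.two_le s))
    _ = p ^ (b * (dX X + 1) + s) := by rw [← pow_mul, pow_add, mul_comm]
    _ ≤ p ^ (f * e + 1) := Nat.pow_le_pow_right hp.pos h
    _ = _ := by rw [pow_succ', pow_mul]

theorem card_le_aut {b : ℕ} (D : Nd X p b N) : Nat.card N ≤ Nat.card (MulAut N) := by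
  rw [D.aut']
  exact Nat.le_mul_of_pos_left _ (Nat.mul_pos (Nat.mul_pos (Nat.pos_of_dvd_of_pos (N2C.RD.Au.gX_cases X p) (by norm_num))
    D.real.hf) D.dd_pos)

theorem three_sq (h : ¬ 3 ∣ q) (j : ℕ) : 3 ∣ q ^ (2 * j) - 1 := by
  have h1 : q ^ 2 ≡ 1 [MOD 3] := by
    have : q % 3 = 1 ∨ q % 3 = 2 := by omega
    rcases this with e | e <;> simp [Nat.ModEq, Nat.pow_mod, e]
  have h2 := h1.pow j
  rw [one_pow, ← pow_mul] at h2
  exact (Nat.modEq_iff_dvd' (Nat.one_le_pow _ _ (Nat.pos_of_ne_zero (by rintro rfl; exact h (dvd_zero 3))))).1 h2.symm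

/-- **all orders but those of the Suzuki groups are divisible by three** -/
theorem three {f M : ℕ} (h : Art.Real X p f M) (hX : X ≠ .Sz) : 3 ∣ M := by
  have hk := h.ok
  by_cases h3 : 3 ∣ p ^ f
  · have hp : p = 3 := ((Nat.prime_dvd_prime_iff_eq Nat.prime_three h.hp).1 (Nat.prime_three.dvd_of_dvd_pow h3)).symm
    have h1 : Art.NN X ≠ 0 := by
      cases X <;> simp only [Art.NN, Art.Ok] at hk ⊢ <;> try omega
      all_goals first
        | (rename_i m; obtain ⟨m, rfl⟩ := Nat.exists_eq_add_of_le' (show 2 ≤ m by omega)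
           exact (Nat.div_pos (by simp only [Nat.add_succ_sub_one]; nlinarith) two_pos).ne')
        | exact pow_ne_zero _ (by omega)
        | exact mul_ne_zero (by omega) (by omega)
    have h2 : 3 ∣ Art.dd X (p ^ f) * M := h.eq ▸ (h3.trans (dvd_pow_self _ h1)).mul_right _
    exact (Nat.prime_three.dvd_mul.1 h2).resolve_left (hp ▸ h.not_dvd_dd)
  have a2 : 3 ∣ (p ^ f) ^ 2 - 1 := three_sq h3 1
  have a6 : 3 ∣ (p ^ f) ^ 6 - 1 := three_sq h3 3
  have k1 : Art.dd X (p ^ f) * 3 ∣ Art.num X (p ^ f) → 3 ∣ M := fun k =>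
    Nat.dvd_of_mul_dvd_mul_left (Nat.pos_of_ne_zero h.dd_ne) (h.eq ▸ k.mul_left _)
  have k2 : ∀ {a b : ℕ}, a ∣ 4 → ¬ 3 ∣ Nat.gcd a b := fun k k' => absurd ((k'.trans (Nat.gcd_dvd_left _ _)).trans k) (by decide)
  have k3 : ∀ m, 1 ≤ m → 3 ∣ ∏ i ∈ range m, ((p ^ f) ^ (2 * (i + 1)) - 1) := fun m hm =>
    (three_sq h3 (0 + 1)).trans (dvd_prod_of_mem _ (mem_range.2 hm))
  have k0 := @Art.Real.dvd_of_dvd_num X p f M h 3 Nat.prime_three
  have k4 : ∀ b, Nat.gcd 3 b * 3 ∣ ((p ^ f) ^ 2 - 1) * ((p ^ f) ^ 6 - 1) := fun b =>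
    Nat.mul_dvd_mul ((Nat.gcd_dvd_left _ _).trans a2) a6
  have k5 : ¬ 3 ∣ 1 := by decide
  cases X with
  | L m =>
    obtain rfl | hm : m = 2 ∨ 3 ≤ m := by have := hk.1; omega
    · exact k0 (k2 (by decide)) (by simpa [Art.num] using a2)
    · obtain ⟨m, rfl⟩ := Nat.exists_eq_add_of_le' hm
      refine k1 ?_
      show _ ∣ ∏ i ∈ range (m + 1 + 1), _
      rw [prod_range_succ', prod_range_succ']
      exact Nat.mul_dvd_mul (((Nat.gcd_dvd_right _ _).trans (by simpa using Nat.sub_dvd_pow_sub_pow (p ^ f) 1 _)).mul_left _) a2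
  | U m =>
    obtain ⟨m, rfl⟩ := Nat.exists_eq_add_of_le' hk.1
    refine k1 ?_
    show _ ∣ ∏ i ∈ range (m + 1 + 1), _
    rw [prod_range_succ', prod_range_succ', if_neg (by decide), if_pos (by decide)]
    exact Nat.mul_dvd_mul (((Nat.gcd_dvd_right _ _).trans
      (by simpa using Odd.nat_add_dvd_pow_add_pow (p ^ f) 1 (show Odd 3 by decide))).mul_left _) a2
  | C m => exact k0 (k2 (by decide)) (k3 m (by have := hk.1; omega))
  | D m => exact k0 (k2 dvd_rfl) ((k3 (m - 1) (by have : 4 ≤ m := hk; omega)).mul_left _)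
  | DD m => exact k0 (k2 dvd_rfl) ((k3 (m - 1) (by have : 4 ≤ m := hk; omega)).mul_left _)
  | G2 => exact k0 k5 (a6.mul_left _)
  | F4 => exact k0 k5 ((three_sq h3 6).mul_left _)
  | E6 => exact k1 ((k4 _).trans ⟨((p ^ f) ^ 5 - 1) * ((p ^ f) ^ 8 - 1) * ((p ^ f) ^ 9 - 1) * ((p ^ f) ^ 12 - 1), by
      simp only [Art.num]; ring⟩)
  | E7 => exact k0 (k2 (by decide)) ((three_sq h3 9).mul_left _)
  | E8 => exact k0 k5 ((three_sq h3 15).mul_left _)
  | TE6 => exact k1 ((k4 _).trans ⟨((p ^ f) ^ 5 + 1) * ((p ^ f) ^ 8 - 1) * ((p ^ f) ^ 9 + 1) * ((p ^ f) ^ 12 - 1), by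
      simp only [Art.num]; ring⟩)
  | TD4 => exact k0 k5 ((a6.mul_left _).mul_right _)
  | Sz => exact absurd rfl hX
  | Ree => exact absurd (by rw [hk.1]; exact dvd_pow_self 3 (Nat.ne_of_gt h.hf)) h3
  | TF4 => exact k0 k5 (((three_sq h3 2).mul_left _).mul_right _)

end Cfsg.Agent.N2.Ex.Mu.Zs
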